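import Cfsg.Agent.Lib.Helper7.GolaySimple

set_option autoImplicit false

open scoped Pointwise

namespace Cfsg.Agent.Lib.Helper7

theorem letters_getD0 : letters.getD 0 1 = shiftPerm := rfl
theorem letters_getD1 : letters.getD 1 1 = Cfsg.projInv := rfl
theorem letters_getD2 : letters.getD 2 1 = Cfsg.cubeTwist := rfl

theorem fixSub0_gen : fixSub 0 = selGrp [0, 1, 2] := by
  rw [fixSub_zero, ← M24_eq_closure, selGrp]
  congr 1
  ext σ
  simp only [sel, List.map_cons, List.map_nil, letters_getD0, letters_getD1, letters_getD2,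
    List.mem_cons, List.not_mem_nil, or_false, Set.mem_insert_iff, Set.mem_singleton_iff]
  rfl

/-- Certificates for `M24`: `projInv` and `cubeTwist` as products of conjugates of the shift. -/
def tcs24 : List (ℕ × List (List ℕ × Bool)) :=
  [(0, [([], false)]),
   (1, [([8, 23, 11, 22], false), ([17, 14, 12, 13, 12, 22, 14, 21, 16, 21, 19, 17, 23, 23, 21], true)]),
   (2, [([23, 20, 16, 0, 14, 7], false), ([23, 15, 14, 22, 15, 15, 21, 18, 23, 23, 22, 21], false)])]

/-- Certificates for the stabiliser of the point `23`. -/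
def tcs23 : List (ℕ × List (List ℕ × Bool)) :=
  [(0, [([], false)]),
   (2, [([21], false), ([14, 17, 16, 15, 21, 18, 23, 23], true)]),
   (3, [([8, 16, 12, 18, 12, 18], false), ([22, 14, 21, 16, 21, 19, 17, 21, 20, 19], false)]),
   (4, [([21, 12, 5, 11], false), ([17, 15, 17, 17, 23, 19], true)]),
   (5, [([23, 11], false), ([21, 16, 14, 21, 16, 17, 18, 23, 21, 19], false)]),
   (6, [([17, 11, 7, 5, 20, 5], false), ([14, 23, 16, 15, 21, 17, 23, 22, 21], false)]),
   (7, [([16, 17, 11, 17], false), ([19, 15, 14, 16, 15, 15, 17, 18, 23, 23, 22, 20, 19], false)]),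
   (8, [([], false), ([23, 23, 22, 20], true)]),
   (9, [([23], false), ([19, 15, 14, 17, 16, 21, 17, 23, 23, 22], false)]),
   (10, [([22], false), ([19, 14, 18, 15, 18, 18, 22, 21], false)]),
   (11, [([15, 4, 19, 12, 2, 19], false), ([14, 15, 17, 23, 17, 23, 23, 22, 21, 19], false)])]

/-- Certificates for the stabiliser of the points `23` and `0`. -/
def tcs22 : List (ℕ × List (List ℕ × Bool)) :=
  [(2, [([11, 5, 11, 21], false), ([14, 14, 18, 18, 15, 17, 21, 17, 22, 21, 19], true)]),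
   (3, [([6, 14, 22, 16], false), ([14, 16, 14, 21, 16, 22, 20], false)]),
   (4, [([11, 19], false), ([14, 14, 15, 15, 17, 21, 17, 23, 23, 20, 19], true)]),
   (5, [([6, 19], false), ([14, 14, 17, 16, 15, 19, 17, 23, 23, 22, 19], false)]),
   (6, [([20, 2], false), ([15, 14, 14, 20, 16, 21, 18, 23, 21, 19], true)]),
   (7, [([21, 18], false), ([14, 14, 22, 15, 15, 17, 23, 17, 23, 23, 22, 21, 19], true)]),
   (8, [([5, 21, 8, 2, 17], false), ([17, 16, 15, 21, 19, 17, 23, 22, 19], false)]),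
   (9, [([17, 23, 22, 19, 16, 19], false), ([16, 15, 17, 18, 22, 21, 20], false)]),
   (10, [([4, 11, 2, 17, 22, 11], false), ([15, 14, 14, 18, 18, 15, 23, 17, 23, 23, 21, 20], false)]),
   (11, [([19, 11, 6, 7, 19], false), ([15, 21, 18, 17, 23, 23, 22, 21], false)])]

theorem pow_eq_one_of_table {F : ℕ} {xw : List ℕ} (hxw : wordOk F xw = true) (p : ℕ)
    (h : powT (evalT ltabs2 xw) p = idT) :
    (⟨evalW letters2 xw, evalW_mem_fixSub hxw⟩ : ↥(fixSub F)) ^ p = 1 := by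
  apply Subtype.ext
  have h1 := repT_pow (repT_evalW letters2_rep xw) p
  rw [h] at h1
  exact h1.ext repT_one

theorem mem_freePts_iff (F : ℕ) (x : Cfsg.GolayPt) : x ∈ freePts F ↔ F.testBit (idx x) = false :=
  Iff.rfl

/-- The group of the code is simple (as `fixSub 0`). -/
theorem isSimpleGroup_fixSub0 : IsSimpleGroup ↥(fixSub 0) := by
  have hnt : Nontrivial ↥(fixSub 0) :=
    Finite.one_lt_card_iff_nontrivial.mp (by rw [card_fixSub0]; norm_num)
  have hp : Fact (Nat.Prime 23) := ⟨by norm_num⟩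
  have hp2 : Fact (Nat.Prime 2) := ⟨by norm_num⟩
  have hp3 : Fact (Nat.Prime 3) := ⟨by norm_num⟩
  have hxw : wordOk 0 [0] = true := by decide +kernel
  have hmk : ∀ g ∈ Cfsg.M24, g ∈ fixSub 0 := fun g hg => by rw [fixSub_zero]; exact hg
  refine isSimpleGroup_of_cert 23 (by rw [card_fixSub0]; norm_num)
    ⟨evalW letters2 [0], evalW_mem_fixSub hxw⟩
    (pow_eq_one_of_table hxw 23 (by decide +kernel)) ?_ ?_
  · intro N hN hx
    exact normal_eq_top_of_certs hxw tcs24 fixSub0_gen (by decide +kernel) N hx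
  · intro N hN hbot
    have h2 : ∀ x1 ∈ freePts 0, ∀ x2 ∈ freePts 0, ∀ y1 ∈ freePts 0, ∀ y2 ∈ freePts 0,
        x1 ≠ x2 → y1 ≠ y2 → ∃ g : ↥(fixSub 0), g • x1 = y1 ∧ g • x2 = y2 := by
      intro x1 _ x2 _ y1 _ y2 _ hx hy
      obtain ⟨g, hg, h1, h2⟩ := M24_trans2 hx hy
      exact ⟨⟨g, hmk g hg⟩, h1, h2⟩
    have h3 : ∀ x0 ∈ freePts 0, ∀ x1 ∈ freePts 0, ∀ x2 ∈ freePts 0, ∀ y1 ∈ freePts 0,
        ∀ y2 ∈ freePts 0, x0 ≠ x1 → x0 ≠ x2 → x1 ≠ x2 → x0 ≠ y1 → x0 ≠ y2 → y1 ≠ y2 →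
        ∃ g : ↥(fixSub 0), g • x0 = x0 ∧ g • x1 = y1 ∧ g • x2 = y2 := by
      intro x0 _ x1 _ x2 _ y1 _ y2 _ h01 h02 h12 h01' h02' h12'
      obtain ⟨g, hg, h1, h2, h3⟩ := M24_trans3 h01 h02 h12 h01' h02' h12'
      exact ⟨⟨g, hmk g hg⟩, h1, h2, h3⟩
    have hn : (freePts 0).ncard = 24 := by rw [ncard_freePts]; decide +kernel
    have := pred_dvd_card_normal (freePts 0) (Set.toFinite _) (fixSub_faith 0) (fixSub_inv 0)
      h2 h3 N hbot (pt 0) (by rw [mem_freePts_iff]; decide +kernel) 2 3 (by norm_num)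
      (by rw [hn]; norm_num) (by rw [hn]; norm_num)
    rw [hn] at this
    exact this

theorem bit_F1 : ∀ i < 24, (8388608 : ℕ).testBit i = true → i = 23 := by decide +kernel

theorem ne_pt23_of_mem_freePts1 {x : Cfsg.GolayPt} (hx : x ∈ freePts 8388608) : x ≠ pt 23 := by
  intro h
  rw [mem_freePts_iff, h, idx_pt (by norm_num)] at hx
  exact absurd hx (by decide +kernel)

/-- The stabiliser of the point `23` is simple. -/
theorem isSimpleGroup_fixSub1 : IsSimpleGroup ↥(fixSub 8388608) := by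
  have hnt : Nontrivial ↥(fixSub 8388608) :=
    Finite.one_lt_card_iff_nontrivial.mp (by rw [card_fixSub1]; norm_num)
  have hp : Fact (Nat.Prime 23) := ⟨by norm_num⟩
  have hxw : wordOk 8388608 [0] = true := by decide +kernel
  have hmk : ∀ g ∈ Cfsg.M24, g (pt 23) = pt 23 → g ∈ fixSub 8388608 := by
    intro g hg h23
    refine ⟨hg, fun i hi hF => ?_⟩
    rw [bit_F1 i hi hF]
    exact h23
  refine isSimpleGroup_of_cert 23 (by rw [card_fixSub1]; norm_num)
    ⟨evalW letters2 [0], evalW_mem_fixSub hxw⟩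
    (pow_eq_one_of_table hxw 23 (by decide +kernel)) ?_ ?_
  · intro N hN hx
    exact normal_eq_top_of_certs hxw tcs23 fixSub1_eq (by decide +kernel) N hx
  · intro N hN hbot
    have h2 : ∀ x1 ∈ freePts 8388608, ∀ x2 ∈ freePts 8388608, ∀ y1 ∈ freePts 8388608,
        ∀ y2 ∈ freePts 8388608, x1 ≠ x2 → y1 ≠ y2 →
        ∃ g : ↥(fixSub 8388608), g • x1 = y1 ∧ g • x2 = y2 := by
      intro x1 hx1 x2 hx2 y1 hy1 y2 hy2 hx hy
      obtain ⟨g, hg, h0, h1, h2⟩ := M24_trans3
        (Ne.symm (ne_pt23_of_mem_freePts1 hx1)) (Ne.symm (ne_pt23_of_mem_freePts1 hx2)) hx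
        (Ne.symm (ne_pt23_of_mem_freePts1 hy1)) (Ne.symm (ne_pt23_of_mem_freePts1 hy2)) hy
      exact ⟨⟨g, hmk g hg h0⟩, h1, h2⟩
    have hn : (freePts 8388608).ncard = 23 := by rw [ncard_freePts]; decide +kernel
    have htr := normal_transitive (freePts 8388608) (fixSub_faith _) (fixSub_inv _) h2 N hbot
    have hc := card_of_transitive (freePts 8388608) (fixSub_inv _) N htr (pt 0)
      (by rw [mem_freePts_iff]; decide +kernel)
    rw [hn] at hc
    exact ⟨_, hc⟩

theorem bit_F2 : ∀ i < 24, (8388609 : ℕ).testBit i = true → i = 23 ∨ i = 0 := by decide +kernel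

theorem ne_of_mem_freePts2 {x : Cfsg.GolayPt} (hx : x ∈ freePts 8388609) :
    x ≠ pt 23 ∧ x ≠ pt 0 := by
  constructor
  · intro h
    rw [mem_freePts_iff, h, idx_pt (by norm_num)] at hx
    exact absurd hx (by decide +kernel)
  · intro h
    rw [mem_freePts_iff, h, idx_pt (by norm_num)] at hx
    exact absurd hx (by decide +kernel)

theorem pt23_ne_pt0 : pt 23 ≠ pt 0 := by decide

/-- The stabiliser of the points `23` and `0` is simple. -/
theorem isSimpleGroup_fixSub2 : IsSimpleGroup ↥(fixSub 8388609) := by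
  have hnt : Nontrivial ↥(fixSub 8388609) :=
    Finite.one_lt_card_iff_nontrivial.mp (by rw [card_fixSub2]; norm_num)
  have hp : Fact (Nat.Prime 11) := ⟨by norm_num⟩
  have hxw : wordOk 8388609 [2, 6] = true := by decide +kernel
  have hmk : ∀ g ∈ Cfsg.M24, g (pt 23) = pt 23 → g (pt 0) = pt 0 → g ∈ fixSub 8388609 := by
    intro g hg h23 h0
    refine ⟨hg, fun i hi hF => ?_⟩
    rcases bit_F2 i hi hF with rfl | rfl
    · exact h23
    · exact h0
  refine isSimpleGroup_of_cert 11 (by rw [card_fixSub2]; norm_num)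
    ⟨evalW letters2 [2, 6], evalW_mem_fixSub hxw⟩
    (pow_eq_one_of_table hxw 11 (by decide +kernel)) ?_ ?_
  · intro N hN hx
    exact normal_eq_top_of_certs hxw tcs22 fixSub2_eq (by decide +kernel) N hx
  · intro N hN hbot
    have h2 : ∀ x1 ∈ freePts 8388609, ∀ x2 ∈ freePts 8388609, ∀ y1 ∈ freePts 8388609,
        ∀ y2 ∈ freePts 8388609, x1 ≠ x2 → y1 ≠ y2 →
        ∃ g : ↥(fixSub 8388609), g • x1 = y1 ∧ g • x2 = y2 := by
      intro x1 hx1 x2 hx2 y1 hy1 y2 hy2 hx hy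
      obtain ⟨g, hg, h23, h0, h1, h2⟩ := M24_trans4 pt23_ne_pt0
        (Ne.symm (ne_of_mem_freePts2 hx1).1) (Ne.symm (ne_of_mem_freePts2 hx2).1)
        (Ne.symm (ne_of_mem_freePts2 hx1).2) (Ne.symm (ne_of_mem_freePts2 hx2).2) hx
        pt23_ne_pt0
        (Ne.symm (ne_of_mem_freePts2 hy1).1) (Ne.symm (ne_of_mem_freePts2 hy2).1)
        (Ne.symm (ne_of_mem_freePts2 hy1).2) (Ne.symm (ne_of_mem_freePts2 hy2).2) hy
      exact ⟨⟨g, hmk g hg h23 h0⟩, h1, h2⟩
    have hn : (freePts 8388609).ncard = 22 := by rw [ncard_freePts]; decide +kernel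
    have htr := normal_transitive (freePts 8388609) (fixSub_faith _) (fixSub_inv _) h2 N hbot
    have hc := card_of_transitive (freePts 8388609) (fixSub_inv _) N htr (pt 1)
      (by rw [mem_freePts_iff]; decide +kernel)
    rw [hn] at hc
    exact Dvd.dvd.mul_right (by norm_num : 11 ∣ 22) _ |>.trans (dvd_of_eq hc.symm)

/-- The group of the code is simple. -/
theorem isSimpleGroup_M24 : IsSimpleGroup ↥Cfsg.M24 :=
  (MulEquiv.subgroupCongr fixSub_zero).isSimpleGroup_congr.mp isSimpleGroup_fixSub0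

theorem stab_map_eq1 :
    (MulAction.stabilizer (↥Cfsg.M24) (pt 23)).map Cfsg.M24.subtype = fixSub 8388608 := by
  ext g
  constructor
  · rintro ⟨k, hk, rfl⟩
    refine ⟨k.2, fun i hi hF => ?_⟩
    rw [bit_F1 i hi hF]
    exact hk
  · intro hg
    exact ⟨⟨g, hg.1⟩, hg.2 23 (by norm_num) (by decide +kernel), rfl⟩

/-- Every point stabiliser in the group of the code is simple. -/
theorem isSimpleGroup_stabilizer (p : Cfsg.GolayPt) :
    IsSimpleGroup (MulAction.stabilizer Cfsg.M24 p) := by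
  have := M24_pretransitive
  obtain ⟨g, hg⟩ := MulAction.exists_smul_eq (↥Cfsg.M24) (pt 23) p
  have e1 : MulAction.stabilizer (↥Cfsg.M24) (pt 23) ≃* MulAction.stabilizer (↥Cfsg.M24) p :=
    MulAction.stabilizerEquivStabilizer hg.symm
  have e2 : MulAction.stabilizer (↥Cfsg.M24) (pt 23) ≃* ↥(fixSub 8388608) :=
    ((MulAction.stabilizer (↥Cfsg.M24) (pt 23)).equivMapOfInjective Cfsg.M24.subtype
      Subtype.coe_injective).trans (MulEquiv.subgroupCongr stab_map_eq1)
  exact e1.isSimpleGroup_congr.mp (e2.isSimpleGroup_congr.mpr isSimpleGroup_fixSub1)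

theorem stab_map_eq2 :
    (MulAction.stabilizer (↥Cfsg.M24) (pt 23) ⊓ MulAction.stabilizer (↥Cfsg.M24) (pt 0)).map
      Cfsg.M24.subtype = fixSub 8388609 := by
  ext g
  constructor
  · rintro ⟨k, hk, rfl⟩
    refine ⟨k.2, fun i hi hF => ?_⟩
    rcases bit_F2 i hi hF with rfl | rfl
    · exact hk.1
    · exact hk.2
  · intro hg
    exact ⟨⟨g, hg.1⟩, ⟨hg.2 23 (by norm_num) (by decide +kernel),
      hg.2 0 (by norm_num) (by decide +kernel)⟩, rfl⟩

/-- Every two-point stabiliser in the group of the code is simple. -/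
theorem isSimpleGroup_stabilizer_two {p q : Cfsg.GolayPt} (hpq : p ≠ q) :
    IsSimpleGroup ↥(MulAction.stabilizer Cfsg.M24 p ⊓ MulAction.stabilizer Cfsg.M24 q) := by
  obtain ⟨g, hg, h1, h2⟩ := M24_trans2 pt23_ne_pt0 hpq
  have hmap : (MulAction.stabilizer (↥Cfsg.M24) (pt 23) ⊓
      MulAction.stabilizer (↥Cfsg.M24) (pt 0)).map
        (MulAut.conj (⟨g, hg⟩ : ↥Cfsg.M24)).toMonoidHom
      = MulAction.stabilizer (↥Cfsg.M24) p ⊓ MulAction.stabilizer (↥Cfsg.M24) q := by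
    rw [Subgroup.map_inf_eq _ _ _ (MulAut.conj (⟨g, hg⟩ : ↥Cfsg.M24)).injective,
      ← MulAction.stabilizer_smul_eq_stabilizer_map_conj,
      ← MulAction.stabilizer_smul_eq_stabilizer_map_conj]
    have e1 : (⟨g, hg⟩ : ↥Cfsg.M24) • pt 23 = p := h1
    have e2 : (⟨g, hg⟩ : ↥Cfsg.M24) • pt 0 = q := h2
    rw [e1, e2]
  have e1 : ↥(MulAction.stabilizer (↥Cfsg.M24) (pt 23) ⊓
      MulAction.stabilizer (↥Cfsg.M24) (pt 0)) ≃*
      ↥(MulAction.stabilizer (↥Cfsg.M24) p ⊓ MulAction.stabilizer (↥Cfsg.M24) q) :=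
    ((MulAut.conj (⟨g, hg⟩ : ↥Cfsg.M24)).subgroupMap _).trans (MulEquiv.subgroupCongr hmap)
  have e2 : ↥(MulAction.stabilizer (↥Cfsg.M24) (pt 23) ⊓
      MulAction.stabilizer (↥Cfsg.M24) (pt 0)) ≃* ↥(fixSub 8388609) :=
    (Subgroup.equivMapOfInjective _ Cfsg.M24.subtype Subtype.coe_injective).trans
      (MulEquiv.subgroupCongr stab_map_eq2)
  exact e1.isSimpleGroup_congr.mp (e2.isSimpleGroup_congr.mpr isSimpleGroup_fixSub2)

end Cfsg.Agent.Lib.Helper7
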