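import Mathlib
import Cfsg.Agent.Lib.Helper7.SimpleAux

set_option autoImplicit false

/-! # Sharply multiply transitive groups of degree 11 and 12 are simple -/

namespace Cfsg.Agent.Lib.Helper7

open MulAction

/-- The order of a sharply `k`-transitive group. -/
theorem card_of_sharp {G α : Type*} [Group G] [MulAction G α] [Finite α] (k : ℕ)
    [IsMultiplyPretransitive G α k] (hk : k ≤ Nat.card α)
    (hsharp : ∀ x : Fin k ↪ α, stabilizer G x = ⊥) :
    Nat.card G = (Nat.card α).descFactorial k := by
  classical
  have := Fintype.ofFinite α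
  have hne : Nonempty (Fin k ↪ α) := by
    rw [Function.Embedding.nonempty_iff_card_le, Fintype.card_fin, ← Nat.card_eq_fintype_card]
    exact hk
  obtain ⟨x⟩ := hne
  have h1 := index_stabilizer_of_transitive (G := G) (X := Fin k ↪ α) (x := x)
  rw [hsharp x, Subgroup.index_bot] at h1
  rw [h1, Nat.card_eq_fintype_card, Fintype.card_embedding_eq, Fintype.card_fin,
    Nat.card_eq_fintype_card]

/-- A sharply `k`-transitive action with `k ≥ 1` on a nonempty set is faithful. -/
theorem faith_of_sharp {G α : Type*} [Group G] [MulAction G α] [Finite α] (k : ℕ)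
    (hk : k ≤ Nat.card α)
    (hsharp : ∀ x : Fin k ↪ α, stabilizer G x = ⊥) (g : G) (hg : ∀ b : α, g • b = b) :
    g = 1 := by
  classical
  have := Fintype.ofFinite α
  have hne : Nonempty (Fin k ↪ α) := by
    rw [Function.Embedding.nonempty_iff_card_le, Fintype.card_fin, ← Nat.card_eq_fintype_card]
    exact hk
  obtain ⟨x⟩ := hne
  have : g ∈ stabilizer G x := by
    rw [mem_stabilizer_iff]
    ext i
    exact hg _
  rw [hsharp x] at this
  exact Subgroup.mem_bot.mp this

/-- In a faithful action, an abelian subgroup that is transitive is self-centralising. -/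
theorem centralizer_le_of_transitive {G α : Type*} [Group G] [MulAction G α]
    (hfaith : ∀ g : G, (∀ b : α, g • b = b) → g = 1) (P : Subgroup G)
    (hcomm : ∀ y ∈ P, ∀ z ∈ P, y * z = z * y) (a : α)
    (htr : ∀ b : α, ∃ y ∈ P, y • a = b) :
    Subgroup.centralizer (P : Set G) ≤ P := by
  intro c hc
  obtain ⟨y, hy, hya⟩ := htr (c • a)
  have h1 : y⁻¹ * c = 1 := by
    apply hfaith
    intro b
    obtain ⟨z, hz, rfl⟩ := htr b
    have hcz : z * c = c * z := hc z hz
    have hyz : y * z = z * y := hcomm y hy z hz
    have hyz' : y⁻¹ * z = z * y⁻¹ := by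
      rw [inv_mul_eq_iff_eq_mul, ← mul_assoc, hyz, mul_assoc, mul_inv_cancel, mul_one]
    have e1 : y⁻¹ * c * z = z * (y⁻¹ * c) := by
      rw [mul_assoc, ← hcz, ← mul_assoc, hyz', mul_assoc]
    rw [← mul_smul, e1, mul_smul, mul_smul, ← hya, inv_smul_smul]
  have : c = y := by rw [inv_mul_eq_one] at h1; exact h1.symm
  rw [this]; exact hy

/-- A subgroup of prime order `p` acting faithfully on `p` points is transitive. -/
theorem transitive_of_card_prime {G α : Type*} [Group G] [MulAction G α] [Finite α]
    (hfaith : ∀ g : G, (∀ b : α, g • b = b) → g = 1) (P : Subgroup G) [Finite P]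
    (hp : (Nat.card P).Prime) (hα : Nat.card α = Nat.card P) :
    ∃ a : α, ∀ b : α, ∃ y ∈ P, y • a = b := by
  have hP : P ≠ ⊥ := by
    intro h; rw [h, Subgroup.card_bot] at hp; exact Nat.not_prime_one hp
  obtain ⟨y, hy, hy1⟩ := (P.bot_or_exists_ne_one).resolve_left hP
  have hex : ∃ a : α, y • a ≠ a := by
    by_contra hcon; push Not at hcon; exact hy1 (hfaith y hcon)
  obtain ⟨a, ha⟩ := hex
  refine ⟨a, ?_⟩
  have h1 : (stabilizer P a).index = (orbit P a).ncard := index_stabilizer _ a
  have h2 : (stabilizer P a).index ∣ Nat.card P := Subgroup.index_dvd_card _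
  have h3 : (orbit P a).ncard ≠ 1 := by
    intro h
    rw [Set.ncard_eq_one] at h
    obtain ⟨b, hb⟩ := h
    have ha' : a ∈ orbit P a := mem_orbit_self a
    have hya : (⟨y, hy⟩ : P) • a ∈ orbit P a := mem_orbit a _
    rw [hb, Set.mem_singleton_iff] at ha' hya
    exact ha (hya.trans ha'.symm)
  have h4 : (orbit P a).ncard = Nat.card P := by
    rcases (Nat.dvd_prime hp).mp (h1 ▸ h2) with h | h
    · exact absurd h h3
    · exact h
  have h5 : orbit P a = Set.univ := by
    rw [Set.eq_univ_iff_ncard, h4, hα]
  intro b
  have hb : b ∈ orbit P a := by rw [h5]; trivial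
  obtain ⟨z, rfl⟩ := hb
  exact ⟨z.1, z.2, rfl⟩

/-- A sharply 4-transitive group of degree 11 is simple of order 7920. -/
theorem sharp4_deg11 {G α : Type*} [Group G] [Finite G] [MulAction G α] [Finite α]
    (hα : Nat.card α = 11) [h4 : IsMultiplyPretransitive G α 4]
    (hsharp : ∀ x : Fin 4 ↪ α, stabilizer G x = ⊥) :
    IsSimpleGroup G ∧ Nat.card G = 7920 := by
  have hcard : Nat.card G = 7920 := by
    rw [card_of_sharp 4 (by omega) hsharp, hα]; rfl
  refine ⟨?_, hcard⟩
  have hfaith := faith_of_sharp 4 (by omega) hsharp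
  have h2 : IsMultiplyPretransitive G α 2 :=
    isMultiplyPretransitive_of_le (n := 4) (by norm_num) (by rw [hα]; norm_num)
  have hprim : IsPreprimitive G α := isPreprimitive_of_is_two_pretransitive h2
  have hnt : Nontrivial G := by
    rw [← Finite.one_lt_card_iff_nontrivial, hcard]; norm_num
  have hp11 : Fact (Nat.Prime 11) := ⟨by norm_num⟩
  obtain ⟨a⟩ : Nonempty α := by
    have h : 0 < Nat.card α := by rw [hα]; norm_num
    exact (Nat.card_pos_iff.mp h).1
  refine ⟨fun N hN => ?_⟩
  by_cases hNbot : N = ⊥
  · exact Or.inl hNbot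
  right
  -- `N` is transitive
  have hNfix : fixedPoints N α ≠ Set.univ := by
    intro h
    apply hNbot
    rw [Subgroup.eq_bot_iff_forall]
    intro n hn
    apply hfaith
    intro b
    have hb : b ∈ fixedPoints N α := by rw [h]; trivial
    exact hb ⟨n, hn⟩
  have hNtr : IsPretransitive N α := IsQuasiPreprimitive.isPretransitive_of_normal hNfix
  have h11N : 11 ∣ Nat.card N := by
    have h := index_stabilizer_of_transitive (G := N) (X := α) (x := a)
    rw [hα] at h
    rw [← h]
    exact Subgroup.index_dvd_card _
  -- a Sylow 11-subgroup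
  obtain ⟨K, hK⟩ := Sylow.exists_subgroup_card_pow_prime 11 (G := G) (n := 1)
    (by rw [hcard]; norm_num)
  rw [pow_one] at hK
  have hKidx : K.index = 720 := by
    have h := K.card_mul_index
    rw [hK, hcard] at h
    omega
  let P : Sylow 11 G := (IsPGroup.of_card (n := 1) (by rw [hK, pow_one])).toSylow
    (by rw [hKidx]; norm_num)
  have hPK : (P : Subgroup G) = K := rfl
  have hKN : K ≤ N := by
    intro x hx
    apply mem_normal_of_pow_prime N 11 (by rw [hcard]; norm_num) h11N
    have h : (⟨x, hx⟩ : K) ^ 11 = 1 := by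
      rw [← hK]; exact pow_card_eq_one'
    exact congrArg Subtype.val h
  have hfrat : Subgroup.normalizer (K : Set G) ⊔ N = ⊤ := Sylow.normalizer_sup_eq_top' P hKN
  -- `K` is self-centralising
  have hprime : (Nat.card K).Prime := by rw [hK]; norm_num
  obtain ⟨a0, htrK⟩ := transitive_of_card_prime hfaith K hprime (by rw [hα, hK])
  have hcyc : IsCyclic K := isCyclic_of_prime_card (p := 11) hK
  have hcomm : ∀ y ∈ K, ∀ z ∈ K, y * z = z * y := by
    intro y hy z hz
    obtain ⟨g, hg⟩ := hcyc.exists_generator
    obtain ⟨i, hi⟩ := Subgroup.mem_zpowers_iff.mp (hg ⟨y, hy⟩)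
    obtain ⟨j, hj⟩ := Subgroup.mem_zpowers_iff.mp (hg ⟨z, hz⟩)
    have h : (⟨y, hy⟩ : K) * ⟨z, hz⟩ = ⟨z, hz⟩ * ⟨y, hy⟩ := by
      rw [← hi, ← hj, ← zpow_add, ← zpow_add, add_comm]
    exact congrArg Subtype.val h
  have hcent : Subgroup.centralizer (K : Set G) = K := by
    apply le_antisymm (centralizer_le_of_transitive hfaith K hcomm a0 htrK)
    intro y hy z hz
    exact hcomm z hz y hy
  -- the normaliser of `K`
  have key := Subgroup.card_dvd_of_injective _
    (QuotientGroup.kerLift_injective K.normalizerMonoidHom)
  rw [Subgroup.normalizerMonoidHom_ker, ← Subgroup.index, ← Subgroup.relIndex, hcent,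
    IsCyclic.card_mulAut, hK, Nat.totient_prime (by norm_num)] at key
  have hKle : K ≤ Subgroup.normalizer (K : Set G) := Subgroup.le_normalizer
  have hsyl := card_sylow_modEq_one 11 G
  rw [P.card_eq_index_normalizer] at hsyl
  change (Subgroup.normalizer (K : Set G)).index ≡ 1 [MOD 11] at hsyl
  have hidx := (Subgroup.normalizer (K : Set G)).index_mul_card
  have hrel := Subgroup.relIndex_mul_index hKle
  rw [hKidx] at hrel
  rw [hcard] at hidx
  have hrel5 : K.relIndex (Subgroup.normalizer (K : Set G)) = 5 := by
    generalize K.relIndex (Subgroup.normalizer (K : Set G)) = r at key hrel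
    generalize (Subgroup.normalizer (K : Set G)).index = i at hsyl hidx hrel
    have hr10 : r ≤ 10 := Nat.le_of_dvd (by norm_num) key
    have hr0 : 0 < r := Nat.pos_of_dvd_of_pos key (by norm_num)
    unfold Nat.ModEq at hsyl
    interval_cases r
    all_goals first
      | rfl
      | (exfalso; revert key; decide)
      | (exfalso; omega)
  -- the index of `N` divides 5
  have hNidx : N.index ∣ 5 := by
    have h1 : N.relIndex (Subgroup.normalizer (K : Set G) ⊔ N) =
        N.relIndex (Subgroup.normalizer (K : Set G)) := Subgroup.relIndex_sup_right _ _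
    rw [hfrat, Subgroup.relIndex_top_right] at h1
    have h2 : (N ⊓ Subgroup.normalizer (K : Set G)).relIndex (Subgroup.normalizer (K : Set G)) =
        N.relIndex (Subgroup.normalizer (K : Set G)) := Subgroup.inf_relIndex_right _ _
    have h3 := Subgroup.relIndex_mul_relIndex K (N ⊓ Subgroup.normalizer (K : Set G))
      (Subgroup.normalizer (K : Set G)) (le_inf hKN hKle) inf_le_right
    rw [h2, ← h1, hrel5] at h3
    exact Dvd.intro_left _ h3
  have hNidx' : N.index = 1 := by
    rcases (Nat.dvd_prime (by norm_num : Nat.Prime 5)).mp hNidx with h | h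
    · exact h
    · exfalso
      have hNcard : Nat.card N = 1584 := by
        have h' := N.card_mul_index
        rw [h, hcard] at h'
        omega
      have h3 : IsMultiplyPretransitive (stabilizer G a) (SubMulAction.ofStabilizer G a) 3 :=
        SubMulAction.ofStabilizer.isMultiplyPretransitive.mp h4
      have hc10 : Nat.card (SubMulAction.ofStabilizer G a) = 10 := by
        rw [SubMulAction.nat_card_ofStabilizer_eq G a, hα]
      have h2' : IsMultiplyPretransitive (stabilizer G a) (SubMulAction.ofStabilizer G a) 2 :=
        isMultiplyPretransitive_of_le (n := 3) (by norm_num) (by rw [hc10]; norm_num)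
      have hprim' : IsPreprimitive (stabilizer G a) (SubMulAction.ofStabilizer G a) :=
        isPreprimitive_of_is_two_pretransitive h2'
      by_cases hfix : fixedPoints (N.subgroupOf (stabilizer G a))
          (SubMulAction.ofStabilizer G a) = Set.univ
      · have hst : stabilizer N a = ⊥ := by
          rw [Subgroup.eq_bot_iff_forall]
          intro n hn
          apply Subtype.ext
          apply hfaith
          intro b
          by_cases hb : b = a
          · rw [hb]; exact hn
          · have hb' : (⟨b, hb⟩ : SubMulAction.ofStabilizer G a) ∈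
                fixedPoints (N.subgroupOf (stabilizer G a)) (SubMulAction.ofStabilizer G a) := by
              rw [hfix]; trivial
            have hb'' := hb' ⟨⟨n.1, hn⟩, n.2⟩
            exact congrArg Subtype.val hb''
        have h' := index_stabilizer_of_transitive (G := N) (X := α) (x := a)
        rw [hst, Subgroup.index_bot, hα, hNcard] at h'
        omega
      · have htr' : IsPretransitive (N.subgroupOf (stabilizer G a))
            (SubMulAction.ofStabilizer G a) :=
          IsQuasiPreprimitive.isPretransitive_of_normal hfix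
        obtain ⟨b⟩ : Nonempty (SubMulAction.ofStabilizer G a) := by
          have h : 0 < Nat.card (SubMulAction.ofStabilizer G a) := by rw [hc10]; norm_num
          exact (Nat.card_pos_iff.mp h).1
        have h10 : 10 ∣ Nat.card (N.subgroupOf (stabilizer G a)) := by
          have h := index_stabilizer_of_transitive (G := N.subgroupOf (stabilizer G a))
            (X := SubMulAction.ofStabilizer G a) (x := b)
          rw [hc10] at h
          rw [← h]
          exact Subgroup.index_dvd_card _
        have hdvd : Nat.card (N.subgroupOf (stabilizer G a)) ∣ Nat.card N := by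
          let f : N.subgroupOf (stabilizer G a) →* N :=
            { toFun := fun n => ⟨n.1.1, n.2⟩
              map_one' := rfl
              map_mul' := fun _ _ => rfl }
          apply Subgroup.card_dvd_of_injective f
          intro x y hxy
          apply Subtype.ext
          apply Subtype.ext
          have hxy' : (f x : G) = (f y : G) := congrArg Subtype.val hxy
          exact hxy'
        have h' := h10.trans hdvd
        rw [hNcard] at h'
        omega
  exact Subgroup.index_eq_one.mp hNidx'

/-- The point stabiliser of a sharply 5-transitive group of degree 12 is simple of order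
7920. -/
theorem sharp5_deg12_stab {G α : Type*} [Group G] [Finite G] [MulAction G α] [Finite α]
    (hα : Nat.card α = 12) [h5 : IsMultiplyPretransitive G α 5]
    (hsharp : ∀ x : Fin 5 ↪ α, stabilizer G x = ⊥) (a : α) :
    IsSimpleGroup (stabilizer G a) ∧ Nat.card (stabilizer G a) = 7920 := by
  have h1 : IsMultiplyPretransitive G α 1 :=
    isMultiplyPretransitive_of_le (n := 5) (by norm_num) (by rw [hα]; norm_num)
  have htr : IsPretransitive G α := is_one_pretransitive_iff.mp h1
  have h4 : IsMultiplyPretransitive (stabilizer G a) (SubMulAction.ofStabilizer G a) 4 :=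
    SubMulAction.ofStabilizer.isMultiplyPretransitive.mp h5
  have hc11 : Nat.card (SubMulAction.ofStabilizer G a) = 11 := by
    rw [SubMulAction.nat_card_ofStabilizer_eq G a, hα]
  apply sharp4_deg11 hc11
  intro x
  rw [Subgroup.eq_bot_iff_forall]
  intro g hg
  have hmem : (g : G) ∈ stabilizer G (SubMulAction.ofStabilizer.snoc x) := by
    rw [mem_stabilizer_iff]
    ext i
    rcases Fin.eq_castSucc_or_eq_last i with ⟨i, rfl⟩ | rfl
    · rw [Function.Embedding.smul_apply, SubMulAction.ofStabilizer.snoc_castSucc]
      have hgi : g • x i = x i := by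
        have h := congrArg (fun e : Fin 4 ↪ SubMulAction.ofStabilizer G a => e i) hg
        exact h
      exact congrArg Subtype.val hgi
    · rw [Function.Embedding.smul_apply, SubMulAction.ofStabilizer.snoc_last]
      exact g.2
  rw [hsharp] at hmem
  exact Subtype.ext (Subgroup.mem_bot.mp hmem)

/-- A sharply 5-transitive group of degree 12 is simple of order 95040. -/
theorem sharp5_deg12 {G α : Type*} [Group G] [Finite G] [MulAction G α] [Finite α]
    (hα : Nat.card α = 12) [h5 : IsMultiplyPretransitive G α 5]
    (hsharp : ∀ x : Fin 5 ↪ α, stabilizer G x = ⊥) :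
    IsSimpleGroup G ∧ Nat.card G = 95040 := by
  have hcard : Nat.card G = 95040 := by
    rw [card_of_sharp 5 (by omega) hsharp, hα]; rfl
  refine ⟨?_, hcard⟩
  have hfaith := faith_of_sharp 5 (by omega) hsharp
  have h2 : IsMultiplyPretransitive G α 2 :=
    isMultiplyPretransitive_of_le (n := 5) (by norm_num) (by rw [hα]; norm_num)
  have hprim : IsPreprimitive G α := isPreprimitive_of_is_two_pretransitive h2
  have hnt : Nontrivial G := by
    rw [← Finite.one_lt_card_iff_nontrivial, hcard]; norm_num
  obtain ⟨a⟩ : Nonempty α := by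
    have h : 0 < Nat.card α := by rw [hα]; norm_num
    exact (Nat.card_pos_iff.mp h).1
  refine ⟨fun N hN => ?_⟩
  by_cases hNbot : N = ⊥
  · exact Or.inl hNbot
  right
  have hNfix : fixedPoints N α ≠ Set.univ := by
    intro h
    apply hNbot
    rw [Subgroup.eq_bot_iff_forall]
    intro n hn
    apply hfaith
    intro b
    have hb : b ∈ fixedPoints N α := by rw [h]; trivial
    exact hb ⟨n, hn⟩
  have hNtr : IsPretransitive N α := IsQuasiPreprimitive.isPretransitive_of_normal hNfix
  obtain ⟨hsimp, -⟩ := sharp5_deg12_stab hα hsharp a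
  rcases hsimp.eq_bot_or_eq_top_of_normal (N.subgroupOf (stabilizer G a)) inferInstance
    with h | h
  · exfalso
    have hreg : N ⊓ stabilizer G a = ⊥ := by
      rw [Subgroup.eq_bot_iff_forall]
      intro n hn
      have hmem : (⟨n, hn.2⟩ : stabilizer G a) ∈ N.subgroupOf (stabilizer G a) := hn.1
      rw [h] at hmem
      exact congrArg Subtype.val (Subgroup.mem_bot.mp hmem)
    have h2e : ∀ {a b c d : α}, a ≠ b → c ≠ d → ∃ g : G, g • a = c ∧ g • b = d :=
      is_two_pretransitive_iff.mp h2
    have hq2 : Fact (Nat.Prime 2) := ⟨Nat.prime_two⟩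
    have hq3 : Fact (Nat.Prime 3) := ⟨Nat.prime_three⟩
    refine not_regular_normal (G := G) (Ω := α) Set.univ (fun _ _ _ => trivial)
      (fun x1 _ x2 _ y1 _ y2 _ hx hy => h2e hx hy) N a trivial ?_ hreg 2 3 (by norm_num)
      (by rw [Set.ncard_univ, hα]; norm_num) (by rw [Set.ncard_univ, hα]; norm_num)
    intro x _ y _
    obtain ⟨n, hn⟩ := exists_smul_eq N x y
    exact ⟨n.1, n.2, hn⟩
  · rw [Subgroup.subgroupOf_eq_top] at h
    rw [eq_top_iff]
    intro g _
    obtain ⟨n, hn⟩ := exists_smul_eq N a (g • a)
    have hmem : (n : G)⁻¹ * g ∈ stabilizer G a := by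
      rw [mem_stabilizer_iff, mul_smul, ← hn]
      exact inv_smul_smul _ _
    have hmem' := N.mul_mem n.2 (h hmem)
    rwa [mul_inv_cancel_left] at hmem'

end Cfsg.Agent.Lib.Helper7
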