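import Cfsg.Agent.Lib.Helper7.SteinerCert

set_option autoImplicit false

set_option maxRecDepth 100000

namespace Cfsg.Agent.Lib.Helper7.SC

noncomputable def cert11_0 : List Node := [
  ⟨[0,1,2,3],[4],[.main,.sym [(4,5)],.sym [(4,6)],.sym [(4,7)],.sym [(4,8)],.sym [(4,9)],.sym [(4,10)]]⟩,
  ⟨[0,1,2,5],[6],[.main,.sym [(6,7)],.sym [(6,8)],.sym [(6,9)],.sym [(6,10)]]⟩,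
  ⟨[0,1,2,7],[9],[.sym [(9,8)],.main,.sym [(9,10)]]⟩,
  ⟨[0,1,2,8],[10],[.main]⟩,
  ⟨[0,1,3,5],[7],[.main,.sym [(7,8),(9,10)],.sym [(7,9)],.sym [(7,10),(8,7),(9,8)]]⟩,
  ⟨[0,1,3,8],[9],[.sym [(5,7),(6,9)],.main]⟩,
  ⟨[0,1,3,6],[10],[.main]⟩,
  ⟨[0,1,5,8],[4],[.main]⟩,
  ⟨[0,1,5,9],[10],[.main]⟩,
  ⟨[0,1,4,9],[6],[.main]⟩,
  ⟨[0,1,4,7],[10],[.main]⟩,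
  ⟨[0,1,6,7],[8],[.main]⟩,
  ⟨[0,2,3,5],[8],[.main,.sym [(3,9),(4,7),(5,3),(6,4),(6,8),(6,5),(6,10)],.sym [(3,5),(4,6),(8,10)]]⟩,
  ⟨[0,2,5,9],[4],[.main]⟩,
  ⟨[0,2,4,10],[6],[.main]⟩,
  ⟨[0,2,4,7],[8],[.main]⟩,
  ⟨[0,2,5,7],[10],[.main]⟩,
  ⟨[0,2,3,7],[6],[.main]⟩,
  ⟨[0,2,3,9],[10],[.main]⟩,
  ⟨[0,2,6,8],[9],[.main]⟩,
  ⟨[0,3,4,7],[9],[.main]⟩,
  ⟨[0,3,5,9],[6],[.main]⟩,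
  ⟨[0,3,4,5],[10],[.main]⟩,
  ⟨[0,3,4,6],[8],[.main]⟩,
  ⟨[0,3,7,8],[10],[.main]⟩,
  ⟨[0,4,5,6],[7],[.main]⟩,
  ⟨[0,4,8,9],[10],[.main]⟩,
  ⟨[0,5,6,8],[10],[.main]⟩,
  ⟨[0,5,7,8],[9],[.main]⟩,
  ⟨[0,6,7,9],[10],[.main]⟩,
  ⟨[1,2,3,5],[9],[.main,.sym [(3,10),(4,8),(5,3),(6,4),(7,6),(7,9),(7,5)]]⟩,
  ⟨[1,2,3,6],[8],[.main]⟩,
  ⟨[1,2,3,7],[10],[.main]⟩,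
  ⟨[1,2,4,6],[7],[.main]⟩,
  ⟨[1,2,4,5],[10],[.main]⟩,
  ⟨[1,2,4,8],[9],[.main]⟩,
  ⟨[1,2,5,7],[8],[.main]⟩,
  ⟨[1,2,6,9],[10],[.main]⟩,
  ⟨[1,3,4,5],[6],[.main]⟩,
  ⟨[1,3,4,7],[8],[.main]⟩]

noncomputable def cert11_1 : List Node := [
  ⟨[1,3,4,9],[10],[.main]⟩,
  ⟨[1,3,5,8],[10],[.main]⟩,
  ⟨[1,3,6,7],[9],[.main]⟩,
  ⟨[1,4,5,7],[9],[.main]⟩,
  ⟨[1,4,6,8],[10],[.main]⟩,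
  ⟨[1,5,6,7],[10],[.main]⟩,
  ⟨[1,5,6,8],[9],[.main]⟩,
  ⟨[1,7,8,9],[10],[.main]⟩,
  ⟨[2,3,4,5],[7],[.main]⟩,
  ⟨[2,3,4,6],[9],[.main]⟩,
  ⟨[2,3,4,8],[10],[.main]⟩,
  ⟨[2,3,5,6],[10],[.main]⟩,
  ⟨[2,3,7,8],[9],[.main]⟩,
  ⟨[2,4,5,6],[8],[.main]⟩,
  ⟨[2,4,7,9],[10],[.main]⟩,
  ⟨[2,5,6,7],[9],[.main]⟩,
  ⟨[2,5,8,9],[10],[.main]⟩,
  ⟨[2,6,7,8],[10],[.main]⟩,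
  ⟨[3,4,5,8],[9],[.main]⟩,
  ⟨[3,4,6,7],[10],[.main]⟩,
  ⟨[3,5,6,7],[8],[.main]⟩,
  ⟨[3,5,7,9],[10],[.main]⟩,
  ⟨[3,6,8,9],[10],[.main]⟩,
  ⟨[4,5,6,9],[10],[.main]⟩,
  ⟨[4,5,7,8],[10],[.main]⟩,
  ⟨[4,6,7,8],[9],[.main]⟩]

noncomputable def cert11 : List Node := cert11_0 ++ cert11_1

theorem cert11_ok : run 11 4 5 66 (2 ^ 66 - 1) (List.range 11) cert11 [] 0 0 = true := by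
  decide +kernel

end Cfsg.Agent.Lib.Helper7.SC
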