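import Cfsg.Agent.Lib.Helper7.SteinerAut
import Cfsg.Agent.Lib.Helper7.SteinerData11

set_option autoImplicit false

set_option maxRecDepth 100000

namespace Cfsg.Agent.Lib.Helper7.SC

noncomputable def chain11 : List (List (List (ℕ × ℕ))) := [
  [[],[(0,1),(5,7),(6,9),(8,10)],[(0,2),(1,0),(5,9),(6,7),(6,10),(8,5)],[(0,3),(1,0),(2,1),(5,6),(5,10),(9,5)],[(0,4),(1,0),(2,1),(3,2),(6,8),(7,9),(6,10),(7,6)],[(0,5),(1,0),(2,1),(3,2),(4,6),(4,7),(4,8),(4,9)],[(0,6),(1,0),(2,1),(3,2),(4,5),(3,9),(7,10),(8,7)],[(0,7),(1,0),(2,1),(3,2),(4,9),(5,8),(3,4),(3,10)],[(0,8),(1,0),(2,1),(3,2),(4,10),(5,9),(6,3),(7,6),(7,4),(5,7)],[(0,9),(1,0),(2,1),(3,2),(4,7),(5,10),(6,5),(4,3),(8,6),(4,8)],[(0,10),(1,0),(2,1),(3,2),(4,8),(5,7),(6,4),(6,3)]],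
  [[],[(1,2),(5,10),(6,8),(7,9)],[(1,3),(2,1),(5,7),(6,5),(8,9),(8,10)],[(1,4),(2,1),(3,2),(5,9),(7,5),(8,7)],[(1,5),(2,1),(3,2),(4,6),(3,8),(7,3),(7,10),(9,7)],[(1,6),(2,1),(3,2),(4,5),(4,10),(7,4)],[(1,7),(2,1),(3,2),(4,9),(5,4),(6,10),(3,8),(5,6)],[(1,8),(2,1),(3,2),(4,10),(5,6),(5,7),(5,9),(3,5)],[(1,9),(2,1),(3,2),(4,7),(5,3),(6,8),(4,10),(6,4)],[(1,10),(2,1),(3,2),(4,8),(6,9),(4,6)]],
  [[],[(2,3),(5,8),(6,9),(7,10)],[(2,4),(3,2),(5,10),(6,7),(6,8),(9,5)],[(2,5),(3,2),(4,6),(3,9),(4,10),(8,4)],[(2,6),(3,2),(4,5),(4,7),(3,8),(4,9)],[(2,7),(3,2),(4,9),(6,3),(8,10),(4,8)],[(2,8),(3,2),(4,10),(5,4),(6,5),(7,3)],[(2,9),(3,2),(4,7),(5,6),(5,4),(3,10)],[(2,10),(3,2),(4,8),(5,3),(7,4),(7,9)]],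
  [[],[(3,4),(5,6),(7,9),(8,10)],[(3,5),(4,6),(3,4),(7,8),(7,9),(7,10)],[(3,6),(4,5),(4,3),(7,10),(8,7),(9,8)],[(3,7),(4,9),(5,10),(6,8),(3,4),(6,5)],[(3,8),(4,10),(5,7),(6,9),(5,6),(3,4)],[(3,9),(4,7),(5,8),(6,10),(4,3),(5,6)],[(3,10),(4,8),(5,9),(6,7),(6,5),(4,3)]]]

noncomputable def rig11 : List (List (ℕ × ℕ × ℕ)) := [
  [(0,0,0),(7,188,171),(6,122,103),(6,122,103),(6,122,103),(6,122,103)],
  [(7,214,205),(0,0,0),(5,122,103),(5,122,103),(5,122,103),(5,122,103)],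
  [(6,214,205),(5,188,171),(0,0,0),(5,188,171),(5,188,171),(5,188,171)],
  [(6,334,345),(5,301,307),(5,301,307),(0,0,0),(5,301,307),(5,301,307)],
  [(6,604,595),(5,558,565),(5,558,565),(5,558,565),(0,0,0),(5,558,565)],
  [(6,1109,1099),(5,1078,1081),(5,1078,1081),(5,1078,1081),(5,1078,1081),(0,0,0)]]

theorem K11_lt : (finalK cert11 []).all (fun c => Nat.blt c (2 ^ 11)) = true := by
  decide +kernel

theorem chain11_len : chain11.length = 4 := by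
  decide +kernel

theorem chain11_ok : chainOK 11 (maskL (finalK cert11 [])) (finalK cert11 []) 0 chain11 = true := by
  decide +kernel

theorem base11_ok : baseOK 11 4 (maskL (finalK cert11 [])) 31 4 = true := by
  decide +kernel

theorem rig11_ok : rigOK 11 (maskL (finalK cert11 [])) 31 (List.range 11)
    ((List.range 11).filter (fun p => !Nat.testBit 31 p)) rig11 = true := by
  decide +kernel

/-- The automorphism group of every Steiner system `S(4, 5, 11)` is sharply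
`4`-transitive on the points. -/
theorem aut_sharp11 {α : Type*} [Fintype α] [DecidableEq α] (hα : Fintype.card α = 11)
    {B : Set (Finset α)} (hB : Cfsg.IsSteinerSystem 4 5 B) :
    MulAction.IsMultiplyPretransitive (Cfsg.setSystemAut B) α 4 ∧
      ∀ x : Fin 4 ↪ α, MulAction.stabilizer (Cfsg.setSystemAut B) x = ⊥ :=
  aut_sharp (n := 11) (t := 4) (k := 5) (N := 66) (by norm_num) (by norm_num)
    (by decide +kernel) (by norm_num) cert11 cert11_ok K11_lt chain11_len chain11_ok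
    base11_ok rig11_ok hα hB

end Cfsg.Agent.Lib.Helper7.SC
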