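import Mathlib
import Cfsg.Prelude.Def_ChevB2

/-!
The Chevalley group of type `B₂` over a field with two elements is the symmetric group on six
letters: a spanning orbit of fifteen vectors is labelled by the pairs of a six-element set so that
each root element acts through a permutation of the six labels.
-/

set_option autoImplicit false

namespace Cfsg.Agent.Lib.Helper7.B2

open Cfsg.Lie

/-- Naturality of the root-element matrices in the field. -/
theorem xMat_map {K F : Type*} [Field K] [Field F] (φ : K →+* F) (D : ChevalleyDatum)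
    (r : Fin D.nroots) (t : K) : D.xMat F r (φ t) = (D.xMat K r t).map φ := by
  ext row col
  simp only [ChevalleyDatum.xMat, Matrix.of_apply, Matrix.map_apply]
  rcases col with i | s
  · rcases row with i' | u
    · simp only
      split_ifs <;> simp
    · simp only
      split_ifs <;> simp
  · by_cases h1 : s = r
    · simp only [h1, if_true]
      rcases row with i' | u
      · simp
      · simp only
        split_ifs <;> simp
    · simp only [h1, if_false]
      by_cases h2 : s.val = D.negIdx.getD r.val 0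
      · simp only [h2, if_true]
        rcases row with i' | u
        · simp
        · simp only
          split_ifs <;> simp
      · simp only [h2, if_false]
        rcases row with i' | u
        · simp
        · simp only [map_add, map_list_sum, List.map_map]
          congr 1
          · split_ifs <;> simp
          · congr 1
            apply List.map_congr_left
            intro km _
            simp

/-- The labels: bit masks of the fifteen vectors, indexed by pairs. -/
def ybits : List (List ℕ) :=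
  [[0, 512, 1021, 687, 855, 4], [512, 0, 126, 44, 84, 519], [1021, 126, 0, 64, 32, 994],
   [687, 44, 64, 0, 98, 672], [855, 84, 32, 98, 0, 832], [4, 519, 994, 672, 832, 0]]

def yb (i j : Fin 6) : ℕ := (ybits.getD i.val []).getD j.val 0

/-- Position of a coordinate. -/
def encI : chevB2.Idx → ℕ := Sum.elim (fun i => i.val) (fun s => 2 + s.val)

/-- The vector with the given bit mask. -/
def vec (K : Type*) [Field K] (m : ℕ) : chevB2.Idx → K := fun k => if m.testBit (encI k) then 1 else 0

/-- The permutations of the six labels induced by the eight root elements. -/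
def sgL : List (Equiv.Perm (Fin 6)) :=
  [Equiv.swap 0 5, Equiv.swap 0 5 * Equiv.swap 1 3 * Equiv.swap 2 4,
   Equiv.swap 0 5 * Equiv.swap 1 4 * Equiv.swap 2 3, Equiv.swap 2 4, Equiv.swap 2 3,
   Equiv.swap 0 1 * Equiv.swap 2 4 * Equiv.swap 3 5, Equiv.swap 0 1 * Equiv.swap 2 3 * Equiv.swap 4 5,
   Equiv.swap 0 1]

def sg (r : ℕ) : Equiv.Perm (Fin 6) := sgL.getD r 1

theorem act2 : ∀ r : Fin chevB2.nroots, ∀ i j : Fin 6,
    (chevB2.xMat (ZMod 2) r 1).mulVec (vec (ZMod 2) (yb i j))
      = vec (ZMod 2) (yb (sg r.val i) (sg r.val j)) := by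
  decide +kernel

theorem gen_sq2 : ∀ r : Fin chevB2.nroots,
    chevB2.xMat (ZMod 2) r 1 * chevB2.xMat (ZMod 2) r 1 = 1 := by
  decide +kernel

theorem gen_zero2 : ∀ r : Fin chevB2.nroots, chevB2.xMat (ZMod 2) r 0 = 1 := by
  decide +kernel

def paL : List (Fin 6) := [0, 0, 0, 0, 0, 1, 1, 1, 2, 2]
def pbL : List (Fin 6) := [1, 2, 3, 4, 5, 2, 3, 4, 3, 4]
def yinvL : List ℕ := [513, 385, 257, 129, 31, 386, 266, 146, 80, 40]

/-- Ten of the fifteen vectors, as the columns of a matrix. -/
def Ymat (K : Type*) [Field K] : Matrix chevB2.Idx chevB2.Idx K :=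
  Matrix.of fun k c => vec K (yb (paL.getD (encI c) 0) (pbL.getD (encI c) 0)) k

/-- The inverse of `Ymat`. -/
def Yinv (K : Type*) [Field K] : Matrix chevB2.Idx chevB2.Idx K :=
  Matrix.of fun c k => vec K (yinvL.getD (encI c) 0) k

theorem Y_mul_Yinv2 : Ymat (ZMod 2) * Yinv (ZMod 2) = 1 := by
  decide +kernel

theorem yb_lt : ∀ i j : Fin 6, yb i j < 1024 := by decide

theorem yb_inj : ∀ i j k l : Fin 6, i ≠ j → yb i j = yb k l →
    (i = k ∧ j = l) ∨ (i = l ∧ j = k) := by
  decide

theorem perm_ext_of_pairs {σ τ : Equiv.Perm (Fin 6)}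
    (h : ∀ i j : Fin 6, i ≠ j → (σ i = τ i ∧ σ j = τ j) ∨ (σ i = τ j ∧ σ j = τ i)) : σ = τ := by
  apply Equiv.ext
  intro i
  obtain ⟨j, k, hij, hik, hjk⟩ : ∃ j k : Fin 6, i ≠ j ∧ i ≠ k ∧ j ≠ k := by
    revert i
    decide
  rcases h i j hij with ⟨h1, -⟩ | ⟨h1, -⟩
  · exact h1
  · rcases h i k hik with ⟨h2, -⟩ | ⟨h2, -⟩
    · exact h2
    · exact absurd (τ.injective (h1.symm.trans h2)) hjk

theorem closure_sg :
    Subgroup.closure (Set.range fun r : Fin chevB2.nroots => sg r.val) = ⊤ := by
  have h1 : finRotate 6 = sg 0 * sg 7 * sg 3 * sg 2 * sg 0 := by decide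
  have h2 : Equiv.swap (0 : Fin 6) (finRotate 6 0) = sg 7 := by decide
  have h3 := Equiv.Perm.closure_cycle_adjacent_swap (σ := finRotate 6) isCycle_finRotate
    support_finRotate (0 : Fin 6)
  have hm : ∀ r : ℕ, r < 8 →
      sg r ∈ Subgroup.closure (Set.range fun r : Fin chevB2.nroots => sg r.val) :=
    fun r hr => Subgroup.subset_closure ⟨⟨r, hr⟩, rfl⟩
  rw [eq_top_iff, ← h3, Subgroup.closure_le]
  rintro x (rfl | hx)
  · rw [h1]
    exact mul_mem (mul_mem (mul_mem (mul_mem (hm 0 (by norm_num)) (hm 7 (by norm_num)))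
      (hm 3 (by norm_num))) (hm 2 (by norm_num))) (hm 0 (by norm_num))
  · rw [Set.mem_singleton_iff.mp hx, h2]
    exact hm 7 (by norm_num)

section general

set_option linter.unusedSectionVars false

variable (F : Type*) [Field F] [CharP F 2]

/-- The map from the prime field. -/
def phi : ZMod 2 →+* F := ZMod.castHom (dvd_refl 2) F

theorem vec_map (m : ℕ) (k : chevB2.Idx) : vec F m k = phi F (vec (ZMod 2) m k) := by
  simp only [vec]
  split_ifs <;> simp

theorem vec_map' (m : ℕ) : vec F m = (phi F) ∘ vec (ZMod 2) m := by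
  funext k
  exact vec_map F m k

theorem xMat_one_eq (r : Fin chevB2.nroots) :
    chevB2.xMat F r 1 = (chevB2.xMat (ZMod 2) r 1).map (phi F) := by
  rw [← xMat_map, map_one]

theorem act (r : Fin chevB2.nroots) (i j : Fin 6) :
    (chevB2.xMat F r 1).mulVec (vec F (yb i j)) = vec F (yb (sg r.val i) (sg r.val j)) := by
  funext k
  rw [xMat_one_eq, vec_map' F (yb i j), ← RingHom.map_mulVec, act2]
  exact (vec_map F _ k).symm

theorem gen_sq (r : Fin chevB2.nroots) : chevB2.xMat F r 1 * chevB2.xMat F r 1 = 1 := by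
  rw [xMat_one_eq, ← Matrix.map_mul, gen_sq2, Matrix.map_one _ (map_zero _) (map_one _)]

theorem gen_zero (r : Fin chevB2.nroots) : chevB2.xMat F r 0 = 1 := by
  have h1 : chevB2.xMat F r 0 = (chevB2.xMat (ZMod 2) r 0).map (phi F) := by
    rw [← xMat_map, map_zero]
  rw [h1, gen_zero2, Matrix.map_one _ (map_zero _) (map_one _)]

theorem Y_mul_Yinv : Ymat F * Yinv F = 1 := by
  have h1 : Ymat F = (Ymat (ZMod 2)).map (phi F) := by
    ext k c
    exact vec_map F _ k
  have h2 : Yinv F = (Yinv (ZMod 2)).map (phi F) := by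
    ext c k
    exact vec_map F _ k
  rw [h1, h2, ← Matrix.map_mul, Y_mul_Yinv2, Matrix.map_one _ (map_zero _) (map_one _)]

/-- The matrix `g` acts on the fifteen vectors through the permutation `σ` of the labels. -/
def Rel (g : Matrix chevB2.Idx chevB2.Idx F) (σ : Equiv.Perm (Fin 6)) : Prop :=
  ∀ i j : Fin 6, g.mulVec (vec F (yb i j)) = vec F (yb (σ i) (σ j))

theorem rel_one : Rel F 1 1 := fun i j => by
  rw [Matrix.one_mulVec]
  rfl

theorem rel_mul {g h : Matrix chevB2.Idx chevB2.Idx F} {σ τ : Equiv.Perm (Fin 6)}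
    (hg : Rel F g σ) (hh : Rel F h τ) : Rel F (g * h) (σ * τ) := by
  intro i j
  rw [← Matrix.mulVec_mulVec, hh, hg]
  rfl

theorem rel_inv_aux {g h : Matrix chevB2.Idx chevB2.Idx F} {σ : Equiv.Perm (Fin 6)}
    (hgh : h * g = 1) (hg : Rel F g σ) : Rel F h σ⁻¹ := by
  intro i j
  have h1 := hg (σ⁻¹ i) (σ⁻¹ j)
  have hi : σ (σ⁻¹ i) = i := by simp
  have hj : σ (σ⁻¹ j) = j := by simp
  rw [hi, hj] at h1
  rw [← h1, Matrix.mulVec_mulVec, hgh, Matrix.one_mulVec]

theorem rel_faithful {g : Matrix chevB2.Idx chevB2.Idx F} (hg : Rel F g 1) : g = 1 := by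
  have h1 : g * Ymat F = Ymat F := by
    ext k c
    exact congrFun (hg (paL.getD (encI c) 0) (pbL.getD (encI c) 0)) k
  calc g = g * (Ymat F * Yinv F) := by rw [Y_mul_Yinv, mul_one]
    _ = (g * Ymat F) * Yinv F := by rw [mul_assoc]
    _ = 1 := by rw [h1, Y_mul_Yinv]

theorem exists_encI {n : ℕ} (hn : n < 10) : ∃ k : chevB2.Idx, encI k = n := by
  by_cases h2 : n < 2
  · exact ⟨Sum.inl ⟨n, h2⟩, rfl⟩
  · refine ⟨Sum.inr ⟨n - 2, ?_⟩, ?_⟩
    · show n - 2 < 8
      omega
    · show 2 + (n - 2) = n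
      omega

theorem vec_inj {a b : ℕ} (ha : a < 1024) (hb : b < 1024) (h : vec F a = vec F b) : a = b := by
  apply Nat.eq_of_testBit_eq
  intro n
  by_cases hn : n < 10
  · obtain ⟨k, hk⟩ := exists_encI hn
    have h1 := congrFun h k
    simp only [vec, hk] at h1
    by_cases h2 : a.testBit n <;> by_cases h3 : b.testBit n <;> simp_all
  · have h10 : 2 ^ 10 ≤ 2 ^ n := Nat.pow_le_pow_right (by norm_num) (by omega)
    rw [Nat.testBit_lt_two_pow (by omega), Nat.testBit_lt_two_pow (by omega)]

theorem rel_unique {g : Matrix chevB2.Idx chevB2.Idx F} {σ τ : Equiv.Perm (Fin 6)}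
    (h1 : Rel F g σ) (h2 : Rel F g τ) : σ = τ := by
  apply perm_ext_of_pairs
  intro i j hij
  have h := (h1 i j).symm.trans (h2 i j)
  have h' := vec_inj F (yb_lt _ _) (yb_lt _ _) h
  exact yb_inj _ _ _ _ (fun e => hij (σ.injective e)) h'

/-- The root elements as invertible matrices. -/
def xg (r : Fin chevB2.nroots) : GL chevB2.Idx F :=
  ⟨chevB2.xMat F r 1, chevB2.xMat F r 1, gen_sq F r, gen_sq F r⟩

theorem xg_mem (r : Fin chevB2.nroots) : xg F r ∈ chevB2.group F :=
  Subgroup.subset_closure ⟨r, 1, rfl⟩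

theorem zero_or_one [Fintype F] (hF : Fintype.card F = 2) (t : F) : t = 0 ∨ t = 1 := by
  classical
  by_contra h
  push Not at h
  have h3 : ({0, 1, t} : Finset F).card = 3 := by
    rw [Finset.card_insert_of_notMem, Finset.card_insert_of_notMem, Finset.card_singleton]
    · simpa using h.2.symm
    · simp [h.1.symm]
  have h4 := Finset.card_le_univ ({0, 1, t} : Finset F)
  omega

theorem exists_rel [Fintype F] (hF : Fintype.card F = 2) :
    ∀ g ∈ chevB2.group F, ∃ σ, Rel F (g : Matrix chevB2.Idx chevB2.Idx F) σ := by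
  intro g hg
  refine Subgroup.closure_induction
    (p := fun g _ => ∃ σ, Rel F ((g : GL chevB2.Idx F) : Matrix chevB2.Idx chevB2.Idx F) σ)
    ?_ ?_ ?_ ?_ hg
  · rintro g ⟨r, t, hgt⟩
    rcases zero_or_one F hF t with rfl | rfl
    · exact ⟨1, by rw [hgt, gen_zero]; exact rel_one F⟩
    · exact ⟨sg r.val, by rw [hgt]; exact act F r⟩
  · exact ⟨1, rel_one F⟩
  · rintro a b _ _ ⟨σ, hσ⟩ ⟨τ, hτ⟩
    exact ⟨σ * τ, by rw [Units.val_mul]; exact rel_mul F hσ hτ⟩
  · rintro a _ ⟨σ, hσ⟩
    exact ⟨σ⁻¹, rel_inv_aux F (by rw [← Units.val_mul, inv_mul_cancel, Units.val_one]) hσ⟩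

variable [Fintype F] (hF : Fintype.card F = 2)

/-- The permutation of the six labels attached to a group element. -/
noncomputable def psi : ↥(chevB2.group F) →* Equiv.Perm (Fin 6) where
  toFun g := Classical.choose (exists_rel F hF g.1 g.2)
  map_one' := rel_unique F (Classical.choose_spec (exists_rel F hF _ (1 : ↥(chevB2.group F)).2))
    (rel_one F)
  map_mul' a b := rel_unique F (Classical.choose_spec (exists_rel F hF _ (a * b).2))
    (by
      have ha := Classical.choose_spec (exists_rel F hF a.1 a.2)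
      have hb := Classical.choose_spec (exists_rel F hF b.1 b.2)
      have := rel_mul F ha hb
      rwa [← Units.val_mul] at this)

theorem psi_spec (g : ↥(chevB2.group F)) :
    Rel F ((g : GL chevB2.Idx F) : Matrix chevB2.Idx chevB2.Idx F) (psi F hF g) :=
  Classical.choose_spec (exists_rel F hF g.1 g.2)

theorem psi_injective : Function.Injective (psi F hF) := by
  rw [injective_iff_map_eq_one]
  intro g hg
  have h1 := psi_spec F hF g
  rw [hg] at h1
  exact Subtype.ext (Units.ext (rel_faithful F h1))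

theorem psi_surjective : Function.Surjective (psi F hF) := by
  rw [← MonoidHom.range_eq_top, eq_top_iff, ← closure_sg, Subgroup.closure_le]
  rintro x ⟨r, rfl⟩
  refine ⟨⟨xg F r, xg_mem F r⟩, ?_⟩
  exact rel_unique F (psi_spec F hF ⟨xg F r, xg_mem F r⟩) (act F r)

/-- The isomorphism. -/
noncomputable def iso : ↥(chevB2.group F) ≃* Equiv.Perm (Fin 6) :=
  MulEquiv.ofBijective (psi F hF) ⟨psi_injective F hF, psi_surjective F hF⟩

end general

end Cfsg.Agent.Lib.Helper7.B2
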