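import Mathlib
import Cfsg.Agent.Lib.Helper6.M12
import Cfsg.Agent.Lib.Helper7.SharpTrans

set_option autoImplicit false

/-! # Simplicity of the stabiliser of a dodecad, and of a dodecad and a point -/

namespace Cfsg.Agent.Lib.Helper7

open Cfsg MulAction
open scoped Pointwise

/-- The action of the stabiliser of a finite set of points on that set. -/
@[reducible] def stabAct (d : Finset GolayPt) : MulAction (stabilizer M24 d) ↥d where
  smul g x := ⟨((g : M24) : Equiv.Perm GolayPt) x.1, Cfsg.Agent.Lib.Helper6.M12.stab_apply_mem g x.2⟩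
  one_smul _ := rfl
  mul_smul _ _ _ := rfl

theorem stabAct_facts {d : Finset GolayPt} (hd : d ∈ dodecads) :
    letI := stabAct d
    (IsMultiplyPretransitive (stabilizer M24 d) ↥d 5 ∧
      ∀ x : Fin 5 ↪ ↥d, stabilizer (stabilizer M24 d) x = ⊥) := by
  letI := stabAct d
  constructor
  · refine ⟨fun x y => ?_⟩
    obtain ⟨g, hg, -⟩ := Cfsg.Agent.Lib.Helper6.M12.stab_sharp hd
      (x.trans (Function.Embedding.subtype _)) (y.trans (Function.Embedding.subtype _))
      (fun i => (x i).2) (fun i => (y i).2)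
    refine ⟨g, ?_⟩
    apply Function.Embedding.ext
    intro i
    apply Subtype.ext
    exact hg i
  · intro x
    rw [Subgroup.eq_bot_iff_forall]
    intro g hg
    obtain ⟨g0, hg0, huniq⟩ := Cfsg.Agent.Lib.Helper6.M12.stab_sharp hd
      (x.trans (Function.Embedding.subtype _)) (x.trans (Function.Embedding.subtype _))
      (fun i => (x i).2) (fun i => (x i).2)
    have e1 : g = g0 := huniq g (fun i => by
      have h := congrArg (fun e : Fin 5 ↪ ↥d => (e i).1) hg
      exact h)
    have e2 : (1 : stabilizer M24 d) = g0 := huniq 1 (fun i => rfl)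
    rw [e1, ← e2]

theorem card_coe_dodecad {d : Finset GolayPt} (hd : d ∈ dodecads) : Nat.card ↥d = 12 := by
  rw [Nat.card_eq_fintype_card, Fintype.card_coe]
  exact Cfsg.Agent.Lib.Helper6.M12.card_of_mem_dodecads hd

/-- The stabiliser of a dodecad is simple. -/
theorem isSimpleGroup_stab_dodecad {d : Finset GolayPt} (hd : d ∈ dodecads) :
    IsSimpleGroup (stabilizer M24 d) := by
  letI := stabAct d
  obtain ⟨h5, hsharp⟩ := stabAct_facts hd
  exact (sharp5_deg12 (card_coe_dodecad hd) hsharp).1

/-- The stabiliser of a dodecad and one of its points is simple. -/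
theorem isSimpleGroup_stab_dodecad_point {d : Finset GolayPt} (hd : d ∈ dodecads) {p : GolayPt}
    (hp : p ∈ d) : IsSimpleGroup ↥(stabilizer M24 d ⊓ stabilizer M24 p) := by
  letI := stabAct d
  obtain ⟨h5, hsharp⟩ := stabAct_facts hd
  have hs := (sharp5_deg12_stab (card_coe_dodecad hd) hsharp (⟨p, hp⟩ : ↥d)).1
  let e : stabilizer (stabilizer M24 d) (⟨p, hp⟩ : ↥d) ≃*
      ↥(stabilizer M24 d ⊓ stabilizer M24 p) :=
    { toFun := fun g => ⟨g.1.1, ⟨g.1.2, congrArg Subtype.val g.2⟩⟩
      invFun := fun g => ⟨⟨g.1, g.2.1⟩, Subtype.ext g.2.2⟩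
      left_inv := fun _ => rfl
      right_inv := fun _ => rfl
      map_mul' := fun _ _ => rfl }
  exact e.isSimpleGroup_congr.mp hs

end Cfsg.Agent.Lib.Helper7
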