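import Mathlib
import Cfsg.Agent.Lib.Helper7.M23Cert
import Cfsg.Agent.Lib.Helper7.SignCore
import Cfsg.Agent.Lib.Helper7.GolaySimple
import Cfsg.Agent.Lib.Helper27.OutM11
import Cfsg.Agent.Lib.Helper86.MathieuSmall

set_option autoImplicit false
set_option maxRecDepth 100000

/-! # The stabiliser of a point in `M24`, generated by `M11` and an element of order three

The permutations behind the coset table of `M23Cert`: two generators `pX`, `pV` of `M11` and an
element `pG` of order three fixing the residue `0`.  The cosets of `M11` correspond to the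
dodecads through that point; all the facts that the sign method needs are checked on packed
tables. -/

namespace Cfsg.Agent.Lib.Helper7.M23P

open Cfsg Cfsg.Agent.Lib.Helper7
open Cfsg.Agent.Lib.Helper6.M12 (tabPermD tabPermD_eq)
open Cfsg.Agent.Lib.Helper6.M24 (tabValid tabPerm tabPerm_apply tabPerm_mem)

/-! ### tables as lists and packed tables -/

theorem h6_idx (p : GolayPt) : Cfsg.Agent.Lib.Helper6.Golay.idx p = idx p := by
  cases p <;> rfl

theorem h6_pt (j : ℕ) : Cfsg.Agent.Lib.Helper6.Golay.pt j = pt j := rfl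

/-- the packed table agrees with the list -/
def tabEq (t : List ℕ) (T : ℕ) : Bool :=
  tabValid t && (List.range 24).all fun i => t.getD i 0 == nlane T i

theorem repT_tab {t : List ℕ} {T : ℕ} (h : tabEq t T = true) : RepT (tabPermD t) T := by
  unfold tabEq at h
  rw [Bool.and_eq_true] at h
  obtain ⟨hv, hall⟩ := h
  intro p
  rw [tabPermD_eq hv, tabPerm_apply, h6_idx, h6_pt]
  have h1 := List.all_eq_true.mp hall (idx p) (List.mem_range.mpr (idx_lt p))
  rw [eq_of_beq h1]

/-- an element of order three fixing the residue `0`, outside `M11` -/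
def tg : List ℕ := [0, 10, 6, 3, 12, 8, 18, 5, 7, 9, 17, 20, 22, 14, 23, 11, 16, 1, 2, 19, 15, 21, 4, 13]
/-- an element of order seven fixing the residue `0` -/
def t7 : List ℕ := [0, 4, 22, 6, 3, 19, 17, 7, 18, 16, 14, 11, 23, 5, 1, 21, 2, 10, 9, 12, 8, 13, 20, 15]
/-- an element of order twenty-three fixing the residue `0` -/
def t23 : List ℕ := [0, 22, 6, 11, 1, 17, 23, 3, 18, 13, 9, 12, 2, 15, 20, 8, 10, 16, 21, 14, 5, 7, 19, 4]

/-- packed table of `pX` -/
def TX : ℕ := 933905226045350956521671110612487680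
/-- packed table of `pV` -/
def TV : ℕ := 476054983562986674867534103465691264
/-- packed table of `pG` -/
def TG : ℕ := 546062801310409362488917219111704896
/-- packed tables of the six letters -/
def tabs6 : List ℕ := [933905226045350956521671110612487680, 736625881877334957704422194182956224, 476054983562986674867534103465691264, 891304355401669380081271628121934112, 546062801310409362488917219111704896, 597980704593616034608355684942727712]

theorem tabs6_eq : [TX, invT TX, TV, invT TV, TG, invT TG] = tabs6 := by decide +kernel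

/-- first generator of `M11` -/
noncomputable def pX : Equiv.Perm GolayPt := tabPermD Cfsg.Agent.Lib.Helper27.OutM11.tx
/-- second generator of `M11` -/
noncomputable def pV : Equiv.Perm GolayPt := tabPermD Cfsg.Agent.Lib.Helper27.OutM11.tv
/-- the element of order three -/
noncomputable def pG : Equiv.Perm GolayPt := tabPermD tg

theorem repX : RepT pX TX := repT_tab (by decide +kernel)
theorem repV : RepT pV TV := repT_tab (by decide +kernel)
theorem repG : RepT pG TG := repT_tab (by decide +kernel)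

/-- the three generators -/
noncomputable def γP (j : ℕ) : Equiv.Perm GolayPt :=
  if j = 0 then pX else if j = 1 then pV else if j = 2 then pG else 1

theorem γP_zero : γP 0 = pX := rfl
theorem γP_one : γP 1 = pV := rfl
theorem γP_two : γP 2 = pG := rfl

theorem γP_ge (j : ℕ) (hj : 3 ≤ j) : γP j = 1 := by
  unfold γP
  rw [if_neg (by omega), if_neg (by omega), if_neg (by omega)]

/-- the six letters -/
noncomputable def lets : List (Equiv.Perm GolayPt) := [pX, pX⁻¹, pV, pV⁻¹, pG, pG⁻¹]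

theorem lets_rep : List.Forall₂ RepT lets tabs6 := by
  rw [← tabs6_eq]
  exact .cons repX (.cons repX.inv (.cons repV (.cons repV.inv (.cons repG
    (.cons repG.inv .nil)))))

theorem letY_eq (l : ℕ) : CS.letY γP l = lets.getD l 1 := by
  by_cases hl : l < 6
  · interval_cases l <;> simp [CS.letY, γP, lets]
  · have h1 : lets.getD l 1 = 1 := List.getD_eq_default _ _ (by simp [lets]; omega)
    rw [h1]
    unfold CS.letY
    rw [γP_ge _ (by omega)]
    split_ifs <;> simp

theorem evY_eq (w : List ℕ) : CS.evY γP w = evalW lets w := by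
  unfold CS.evY evalW
  congr 1
  exact List.map_congr_left fun l _ => letY_eq l

theorem repT_evY (w : List ℕ) : RepT (CS.evY γP w) (evalT tabs6 w) := by
  rw [evY_eq]
  exact repT_evalW lets_rep w

theorem repT_letY (l : ℕ) : RepT (CS.letY γP l) (tabs6.getD l idT) := by
  rw [letY_eq]
  exact repT_getD lets_rep l

/-! ### the point stabiliser -/

/-- the stabiliser of the residue `0` in `M24` -/
def G0 : Subgroup (Equiv.Perm GolayPt) :=
  Cfsg.M24 ⊓ MulAction.stabilizer (Equiv.Perm GolayPt) (some 0 : GolayPt)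

theorem mem_G0 {σ : Equiv.Perm GolayPt} : σ ∈ G0 ↔ σ ∈ Cfsg.M24 ∧ σ (some 0) = some 0 := by
  unfold G0
  rw [Subgroup.mem_inf]
  exact Iff.rfl

theorem M11_le_G0 : Spor.M11 ≤ G0 := fun _ hσ =>
  mem_G0.mpr ⟨(Cfsg.Agent.Lib.Helper86.mem_M11_iff.mp hσ).1,
    (Cfsg.Agent.Lib.Helper86.mem_M11_iff.mp hσ).2.2⟩

theorem card_G0 : Nat.card ↥G0 = 10200960 := by
  rw [← card_stabilizer_M24 (some 0)]
  apply Nat.card_congr
  exact
    { toFun := fun g => ⟨⟨g.1, (mem_G0.mp g.2).1⟩,
        MulAction.mem_stabilizer_iff.mpr (mem_G0.mp g.2).2⟩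
      invFun := fun g => ⟨g.1.1, mem_G0.mpr ⟨g.1.2, MulAction.mem_stabilizer_iff.mp g.2⟩⟩
      left_inv := fun _ => rfl
      right_inv := fun _ => rfl }

theorem tab_mem_G0 {t : List ℕ} (hv : tabValid t = true)
    (hc : Cfsg.Agent.Lib.Helper6.Golay.basis.all (fun m =>
      Cfsg.Agent.Lib.Helper6.Golay.isCode (Cfsg.Agent.Lib.Helper6.M24.pm t 0 m)) = true)
    (h0 : t.getD 0 0 = 0) : tabPermD t ∈ G0 := by
  rw [mem_G0, tabPermD_eq hv]
  refine ⟨tabPerm_mem t hv hc, ?_⟩
  rw [tabPerm_apply]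
  have h1 : Cfsg.Agent.Lib.Helper6.Golay.idx (some 0 : GolayPt) = 0 := rfl
  rw [h1, h0]
  exact Cfsg.Agent.Lib.Helper27.OutM11.pt_zero

theorem pX_mem : pX ∈ Spor.M11 :=
  Cfsg.Agent.Lib.Helper86.tabPermD_mem_M11 Cfsg.Agent.Lib.Helper27.OutM11.tx_mem

theorem pV_mem : pV ∈ Spor.M11 :=
  Cfsg.Agent.Lib.Helper86.tabPermD_mem_M11 Cfsg.Agent.Lib.Helper27.OutM11.tv_mem

theorem pG_mem : pG ∈ G0 :=
  tab_mem_G0 (by decide +kernel) (by decide +kernel) (by decide +kernel)

theorem γP_mem (j : ℕ) : γP j ∈ G0 := by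
  unfold γP
  split_ifs
  · exact M11_le_G0 pX_mem
  · exact M11_le_G0 pV_mem
  · exact pG_mem
  · exact G0.one_mem

theorem letY_mem (l : ℕ) : CS.letY γP l ∈ G0 := by
  unfold CS.letY
  split_ifs
  · exact γP_mem _
  · exact G0.inv_mem (γP_mem _)

theorem pG_cube : γP 2 ^ 3 = 1 := by
  rw [γP_two]
  have h := repT_pow repG 3
  have h2 : powT TG 3 = idT := by decide +kernel
  rw [h2] at h
  exact h.ext repT_one

/-! ### cosets and dodecads -/

theorem perm_apply_inv (σ : Equiv.Perm GolayPt) (p : GolayPt) : σ (σ⁻¹ p) = p := by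
  rw [← Equiv.Perm.mul_apply, mul_inv_cancel, Equiv.Perm.one_apply]

theorem perm_inv_apply (σ : Equiv.Perm GolayPt) (p : GolayPt) : σ⁻¹ (σ p) = p := by
  rw [← Equiv.Perm.mul_apply, inv_mul_cancel, Equiv.Perm.one_apply]

theorem D0_eq : Spor.squareDodecad = setOf 340831 := by
  rw [Cfsg.Agent.Lib.Helper86.squareDodecad_eq]
  ext p
  rw [Cfsg.Agent.Lib.Helper6.Golay.mem_suppMask, mem_setOf, h6_idx]

/-- mask of the preimage of a set of points -/
def preT (t m : ℕ) : ℕ := ofBits (fun i => m.testBit (nlane t i)) 24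

theorem mem_preT {σ : Equiv.Perm GolayPt} {t : ℕ} (h : RepT σ t) (m : ℕ) (p : GolayPt) :
    σ p ∈ setOf m ↔ p ∈ setOf (preT t m) := by
  rw [mem_setOf, mem_setOf, preT, testBit_ofBits, h p, idx_pt (nlane_lt _ _)]
  simp [idx_lt p]

theorem dm_ok : M23C.allN 1288 (fun c => M23C.allN 6 (fun l =>
    M23C.dm (M23C.nx c l) == preT (tabs6.getD l idT) (M23C.dm c))) = true := by
  decide +kernel

theorem dm_zero : M23C.dm 0 = 340831 := by decide +kernel

theorem dm_ne : M23C.allN 1288 (fun c => c == 0 || M23C.dm c != 340831) = true := by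
  decide +kernel

theorem dm_step (c : ℕ) (hc : c < 1288) (l : ℕ) (hl : l < 6) :
    M23C.dm (M23C.nx c l) = preT (tabs6.getD l idT) (M23C.dm c) :=
  eq_of_beq (M23C.allN_spec _ _ (M23C.allN_spec _ _ dm_ok c hc) l hl)

theorem dm_lt (c : ℕ) : M23C.dm c < 2 ^ 24 := by
  have h : M23C.dm c = (M23C.DT >>> (24 * c)) % 16777216 := rfl
  rw [h]
  exact Nat.mod_lt _ (by norm_num)

/-- the coset representatives -/
noncomputable abbrev rhoP (c : ℕ) : Equiv.Perm GolayPt := CS.rho γP M23C.par M23C.plet c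

theorem rhoP_succ (c : ℕ) (h0 : 0 < c) (hc : c < 1288) :
    rhoP c = rhoP (M23C.par c) * CS.letY γP (M23C.plet c) :=
  CS.rho_succ γP M23C.par M23C.plet 1288 (fun c h0 hc => (M23C.htree c h0 hc).1) c h0 hc

theorem rho_mem : ∀ c, c < 1288 → rhoP c ∈ G0 := by
  intro c
  induction c using Nat.strong_induction_on with
  | _ c ih =>
    intro hc
    rcases Nat.eq_zero_or_pos c with rfl | hpos
    · exact G0.one_mem
    · rw [rhoP_succ c hpos hc]
      have hp := (M23C.htree c hpos hc).1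
      exact G0.mul_mem (ih _ hp (by omega)) (letY_mem _)

theorem rho_dm : ∀ c, c < 1288 → ∀ p : GolayPt,
    rhoP c p ∈ Spor.squareDodecad ↔ p ∈ setOf (M23C.dm c) := by
  intro c
  induction c using Nat.strong_induction_on with
  | _ c ih =>
    intro hc p
    rcases Nat.eq_zero_or_pos c with rfl | hpos
    · rw [dm_zero, D0_eq]
      rfl
    · obtain ⟨hpar, hplet, hnx⟩ := M23C.htree c hpos hc
      rw [rhoP_succ c hpos hc, Equiv.Perm.mul_apply, ih _ hpar (by omega),
        mem_preT (repT_letY _), ← dm_step _ (by omega) _ hplet, hnx]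

theorem mem_M11_iff_preserve {σ : Equiv.Perm GolayPt} (hσ : σ ∈ G0) :
    σ ∈ Spor.M11 ↔ ∀ p, σ p ∈ Spor.squareDodecad ↔ p ∈ Spor.squareDodecad := by
  rw [Cfsg.Agent.Lib.Helper86.mem_M11_iff]
  obtain ⟨h24, h0⟩ := mem_G0.mp hσ
  constructor
  · rintro ⟨-, himg, -⟩ p
    constructor
    · intro hp
      rw [← himg, Finset.mem_image] at hp
      obtain ⟨q, hq, hqp⟩ := hp
      rw [← σ.injective hqp]
      exact hq
    · intro hp
      rw [← himg]
      exact Finset.mem_image_of_mem _ hp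
  · intro h
    refine ⟨h24, ?_, h0⟩
    apply Finset.eq_of_subset_of_card_le
    · intro q hq
      obtain ⟨p, hp, rfl⟩ := Finset.mem_image.mp hq
      exact (h p).mpr hp
    · rw [Finset.card_image_of_injective _ σ.injective]

theorem hexG : ∀ c < 1288, ∀ j < 3,
    rhoP c * γP j * (rhoP (M23C.nx c (2 * j)))⁻¹ ∈ Spor.M11 := by
  intro c hc j hj
  have hc' : M23C.nx c (2 * j) < 1288 := (M23C.htab c hc j hj).1
  rw [mem_M11_iff_preserve (G0.mul_mem (G0.mul_mem (rho_mem c hc) (γP_mem j))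
    (G0.inv_mem (rho_mem _ hc')))]
  intro p
  have h1 : γP j = CS.letY γP (2 * j) := (CS.letY_even γP j).symm
  rw [Equiv.Perm.mul_apply, Equiv.Perm.mul_apply, rho_dm c hc, h1, mem_preT (repT_letY _),
    ← dm_step c hc (2 * j) (by omega), ← rho_dm _ hc', perm_apply_inv]

theorem hneG : ∀ c, 0 < c → c < 1288 → rhoP c ∉ Spor.M11 := by
  intro c h0 hc hmem
  have h1 := (mem_M11_iff_preserve (rho_mem c hc)).mp hmem
  have h2 : setOf (M23C.dm c) = setOf 340831 := by
    ext p
    rw [← rho_dm c hc p, h1 p, D0_eq]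
  have h3 := setOf_injective (dm_lt c) (by norm_num) h2
  have h4 := M23C.allN_spec _ _ dm_ne c hc
  rw [Bool.or_eq_true] at h4
  rcases h4 with h4 | h4
  · exact absurd (eq_of_beq h4) (by omega)
  · rw [h3] at h4
    simp at h4

/-! ### the dodecads are distinct -/

/-- packed list of the cosets, sorted by the mask of the dodecad -/
def ORD : ℕ := 0x2edb98d495409242655063691b5e6c9d47b38c8a4f7983410b71d28bcec4711533413307e34e62e93d00050928c225747c9f90a613b8a540a14304e598707c4e47206edbd9245b6e86accf9eb84b1e415ba81b8ff1e0b7b082842640d74e8cda154fe862f66454c55a6ab01db9e68c4b21342d7109a551bb9174d8d168d139aab59db3299aefc4a9205d937e1aa0e9fac7cdbbab56e3689e3203c4d3105c135b6de0f28ee4a6e85834f944a518804933b50001d37a790e6a20c929d52a95844767f034a91e69feb41abcf49da115c28d0284f7c95ba6912330c69561144c4294c77c6fe5a08fa298384c83d32af11a1212394611c88c080c214e201bb17d18e46ce98c2e0e1f35d330f2d1b31c79f0c0762734063f8e80e66e4f9e2d34858521d2e10c8ee86d8a4da652989bbafc37f049e63b747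540a158830f0b3a6dca254cbac9392900216d9429f2b64e8258f32d63093e0bb0ee0a44f04d5cc0109229c32832903aa42e64a8e7a565caa09f9a93718e3d2bc220f87589a0f65831d07c1c2744a29869f972e72e5fc328b334cac29535135d91c9c7fd2651ab75964565b4d0356ac6e6c37c633381800555328087a9b361298db633c626505ab2d993cb5e2b2f85c0828d4ab37a53d6722aa58cf81a12d89a076d510c86fe0997ec3680f055feaf003f200b5438968f155dbdd25ef380c007100ffc86b30950b11f71f08c4e252f0db68acad68cb5117405f13b679242579a786be4499a4b78c13d93b94a25c72119cfa2e08c46ea5868e251e025221515d0288447f2904c067996a182a1fe3f09b4ef4983e8b853249b4fae62022293161743fccf9b84061ea154ce9e5ee41a3cf14166ae83ae510e6316036766710b5168ef11c45d83d338c2b6091d07619bbb89c57a6ec1b34e8d225a8c42d0726cb8292cc15d004f18e00cfebe6374bc4094ee2ca9d4e284e06512813a5b5c81e8b39b24be168c11ee3d22a54c26b134d01363925baa3a1d2c38ceea5e12c72270621bb5816c5fc77a9e32e37c8ca59120fae4babc2e46786788c3eb00dd51a30acafa7818007ca444fa4a82f03d38a49280790ec48144ea49bcbc30872b4bbbd08ecbfdf214514a8e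4071326ceb8d5b21475e6b43e8221e0f5037aba3480a8318c548a29d2230e10e34c579dd9cc57dc71173c207947b641e51a4caa7b8eb0a1dab9b6b20ce02be15690be4fc7a6e6a6a624e78a32ae82c06847299aacb3069402333ed70130155bd86c483076a1127670028b681563dcaab3a73f3a140b226e10847224e49734509b849def7a2fcfb3ff1bcc63fb78ed3657b123712457b4148889a059b7e090591eb1f130c32439ba3934ed1a237148e64e529df9e48b84bb399e32e1cacb064b19440ada506bb8f03655f2c1da1a48092d69591368e068a00b335529be0844c2f22214a2ed486954b118f07e53a164eb4470284b25069eae1934f365422608acc85c050079c9642b259f15050070ce99216d6d452125a658d6d381fb35cc3d1d8d62f8469309542d28ae3c0651feef4db31d9a5009dd4a19046b17aae24baa1221cbe58a7dde240e5be3ac3a07b39c275819605b832c121498681ad0303c0dc71c3309b2b91b0262b97ec1023d9041784dd1148b952dd93532755c878d31c64603653007502cfd18645365ed517798e2fab58223107aa7b0d8a18355121a98a4170620cc99211c17c7e9fc35e99a2125465d064aec20670b565cafb4811161fa412f4e50f6a4d335350d08b00b2024600bf0b043d4691f2441c89a83137c008ea40b3882808e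21f5e40a16535270cd9817a2c29f151c9b6a014a25c397519ca5c7a26e1ce0e4c531853afdc8aaf7536bd05435e30f2c43c9e3958438bb3a5984d40b08215906d448c7d11a23e5dc681b00e226c71992eba1ca8b9ab14952876154118a5c6482cfa574a876b808c6912d27224c0ea0f3d10f0530421c7281b6a724fc4a1f84bc748cde4309934a170322017cabe9f927a89eb506f11872cc291f1250d87e9c81517384f802cf84320314b18905ca9c6a0108dc8902f3db0412e9d93e8a0e9d9094d69067a98abec15c1b5328a101b1f8c1bea3e4b9d813b02da4cdb08c3692c7a1d9052f0e747cc582c60b00abad1ca0f47da3c7ea5ed5890b71a475e88a359646d6f34a758abcb7bf11d4419103ca6fa20838cec18ca40fb24c45ecd5df24610c0d8621b00323c5cca265a5031c5c8c2107ccc0c8822ca862a9ef96d1fd7f48516e5688399d3aa381e348f8d61293fb3d1d329ce0a2a016771ebcde0e0478b32080fc2c9d982d37a835fd0084425fa5e8bd1d0e9ddc47398d1a842b4b29a5d11916c32d384880254127280d01c46e1a831130206e044921d892b3c588683a20190d1028128a2422bd6226f05cb0b5502b434ac072204451251438f68563ef6624fca40573225a09e9b97f0354cd8cd2e251c9c0300006701aabf510c0460b0424d170c22ea42ecb4a1813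
/-- packed positions of the cosets in that list -/
def POS : ℕ := 0x1b740146cf67b1099c52868ef3024fce34c8de2460ec9f0df9dd47442090d1fae14cec723989c4311fe26272520aae6e3b99f4d04253d29441a198b538430c194bd57c43609397a7cc79d353b36a8cea53cee6cf40495cc58c814e5e2919b64ee7ba827d27702c908262378c2a3e7001fdc63a3510f6ca123c4bb3956713f51d1f8dbb970dca2922b6a8af080f210e52af0e7e3e06b892def3605dac9e824e79112012d5020e8cde268883712f63588486c4143e0311ae78d6a3a60fc3389a4e437aa52671ed866b2d4fbf20a93609622b4c438e7f1c20e6149511305fea151d12089ce4e25b7f4cb3cd9e0069a90e5f38bc6dcf044095a35049947b4a1f6ccc96a2465ac581d99a8f9168c12573ba63640c51303125a8912182c0494ba45f2eb2509cb66afa25fc4252c82e5a21984b3067129e9c32d667c59516fe1371889b4ced9b32a660d30c52fa5b647dd52589290a906a255b47623d08a2d085819c54756a314cb595cc79914c86734f7dd4cca4c0176310172946fc599aa7fa3f452109040e55420d45dc3308f0dc874c807fac98c6e254c3b68dc999d034d1c008a5f2800d2944cfaba8b8eec56acc886e7a7ec2988c281c3c834be1d5d11d95a0bf664b71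94c254f533e66879658055850e214ea4a0c2376790c857e4a85c0a7938b957f4cc0ad1b09e107498fbe473254e72e05f0ef53920846b5a7d63dd1e97e2b2c10138f17f4aa457bfb113381c94b32aa57e38a68894ca01f28375e9504fbd499121168c9285a6d9ee4d35270ed2426f9ad41886bc93fe561eca785865791a2a495c9fc62b387065122411b3f48b94daf88eaf15449a6332580ff13a4273b12f4960a02a061c386e72ddc7a49462ed630b068f6814383c89529d12018720d3084b3814512a00fb9834e62c011fb71c83e17c193688451dcd57c29c103c9893c308f44447ad415e994c9d6d106ac3178e970179a03ecac1f69a90583d9e5ce6465235930083a2324053d15941f5d6c2c3083f919bc0290964f094670a58d8f3a834a8d9104a383c0108eb4819502dffb13584781af3bf3ae2a5819cf9268e1e23b4784688c30fa97622dc6c76075089a4a0c156585031375f8edcedb966010ddf9828018b88182ec742ae0e0212936b05eba977788b458c7d14c6ce554ba502ee11382b1cd07c92c04962ec4414df830bd0a5c0828ea49e7b092a43a5f22217f8b496f09a54ac08b8b2c250fb8ab00b238d9a6f1de46eff938a030e242dadc115403f1a73846fa3698d4c38804316c9f944c541b13056106d65925669e63868b5d7950b8f89ad61e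e44efc356287f1783747f30010f18c91edc0122149d49b0be0984d6b716c23048e25159ab143e7f4c01836d63d67d8b43eb09d6333d087115eeb2e6f2135bb1af12e90a5695c3dc1b1ac0325a6232458e242e6e42d8a12c86c81e0238640d47599c006cada82c04d23653e4c62292802f27e92aef82386480a725b6d0387ef38804e94c6d91909903f03c9f63633b426573b5f10c32d28394100c30be99e9a0359859136971e248ad628125d53a35488d855606a76521da12d568efd83b9694033d01bc3d80274e55b457d41190437a38c6c18c967404fc036a7a8565ac2f82e8a0c7c0c25b93a7a49b4ff798c40ce89031e7dd5f1e29a466ddebe365e6c481ab75c88a8bccef9a2ba83c00e02a5eccac475e612d50c0748c6500dc5d43869234a616ae5347419628693d9c80519ac3442ae05ec168d19f31645fd118bf59a4f4aa04e806bac09b7714b3d46384c826e94f781a6221958da521768749c9d0554cc8c49c382e1e9ed3e58b71a13a9f09e11e4782042b686827c5f242df0e601d025229643460031bde32d703c3b80cc994f70588b8113748b0b6bf518cb123304073edec8c4b68db00a0e10a83a01c7a4098b05bd004a42e0198571651547c9788f855020ca4cf95f6e0a2a8492e44f9ccc34160dbdc30870f2288601bc07e0d1a94893d70f8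c8ced16b1805ebf14ecfd1e6951828a8c472bb5eb2413ec413ac28c3785729f0f05ba6d21f3c62f0765e43e5baccb721268d712f9887d00b0e555c466564705d254c0a46a39d019273b064626d5a091189048049752e913c2c1bb8212bc169970f6bdda033f4aa1881c97855a34c150214ee48d8514556444563998158094681665bb034e94d9388c1c8236948285652b7222c0f49aaef26464c99ae871719d0722255e24c28b6c8482791cb9b6aa18d5ebf73a8c48a0c2381e490d61d549a5b84e86757271c690f3394108148386d0714f610156a10629cdd324385ab102834c38bb973038b8de83658a51953cce8648c62061c182a1c917a538ac48a391a159e442639be436b7c5b1c8973214a712e9ae24806a87534c5cb60102ba39c300ba99aada0716262aeb8241cd234af09c0df74ea988a84468611447b9da0e6ac5ca0a000c74130e4412b14678ea0d655cbb05c7380d876c0a6445aa0d80f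

/-- the `i`-th coset in the order of the masks -/
def ord (i : ℕ) : ℕ := (ORD >>> (11 * i)) % 2048
/-- the position of a coset -/
def pos (c : ℕ) : ℕ := (POS >>> (11 * c)) % 2048

theorem ord_ok : M23C.allN 1287 (fun i => decide (M23C.dm (ord i) < M23C.dm (ord (i + 1))))
    = true := by
  decide +kernel

theorem pos_ok : M23C.allN 1288 (fun c => decide (pos c < 1288) && (ord (pos c) == c))
    = true := by
  decide +kernel

theorem dm_mono : ∀ j, j < 1288 → ∀ i, i < j → M23C.dm (ord i) < M23C.dm (ord j) := by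
  intro j
  induction j with
  | zero =>
    intro _ i hi
    omega
  | succ j ih =>
    intro hj i hi
    have hstep : M23C.dm (ord j) < M23C.dm (ord (j + 1)) :=
      of_decide_eq_true (M23C.allN_spec _ _ ord_ok j (by omega))
    rcases Nat.lt_succ_iff_lt_or_eq.mp hi with h | rfl
    · exact lt_trans (ih (by omega) i h) hstep
    · exact hstep

theorem dm_inj {c c' : ℕ} (hc : c < 1288) (hc' : c' < 1288) (h : M23C.dm c = M23C.dm c') :
    c = c' := by
  have h1 := M23C.allN_spec _ _ pos_ok c hc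
  have h2 := M23C.allN_spec _ _ pos_ok c' hc'
  rw [Bool.and_eq_true] at h1 h2
  have e1 : ord (pos c) = c := eq_of_beq h1.2
  have e2 : ord (pos c') = c' := eq_of_beq h2.2
  have l1 : pos c < 1288 := of_decide_eq_true h1.1
  have l2 : pos c' < 1288 := of_decide_eq_true h2.1
  rcases lt_trichotomy (pos c) (pos c') with hlt | heq | hgt
  · have h3 := dm_mono _ l2 _ hlt
    rw [e1, e2, h] at h3
    exact absurd h3 (lt_irrefl _)
  · rw [← e1, ← e2, heq]
  · have h3 := dm_mono _ l1 _ hgt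
    rw [e1, e2, h] at h3
    exact absurd h3 (lt_irrefl _)

/-! ### generation -/

theorem M11_le_closure :
    Spor.M11 ≤ Subgroup.closure ({γP 0, γP 1, γP 2} : Set (Equiv.Perm GolayPt)) := by
  intro σ hσ
  have h1 : (⟨σ, hσ⟩ : ↥Spor.M11) ∈ Subgroup.closure
      {Cfsg.Agent.Lib.Helper27.OutM11.X, Cfsg.Agent.Lib.Helper27.OutM11.V} := by
    rw [Cfsg.Agent.Lib.Helper27.OutM11.hgen]
    trivial
  have h2 : σ ∈ (Subgroup.closure
      {Cfsg.Agent.Lib.Helper27.OutM11.X, Cfsg.Agent.Lib.Helper27.OutM11.V}).map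
        Spor.M11.subtype := ⟨_, h1, rfl⟩
  rw [MonoidHom.map_closure, Set.image_insert_eq, Set.image_singleton] at h2
  refine (Subgroup.closure_mono ?_) h2
  rintro x (rfl | rfl)
  · exact Set.mem_insert _ _
  · exact Set.mem_insert_of_mem _ (Set.mem_insert _ _)

theorem closure_eq :
    Subgroup.closure ({γP 0, γP 1, γP 2} : Set (Equiv.Perm GolayPt)) = G0 := by
  have hCle : Subgroup.closure ({γP 0, γP 1, γP 2} : Set (Equiv.Perm GolayPt)) ≤ G0 := by
    rw [Subgroup.closure_le]
    rintro x (rfl | rfl | rfl)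
    · exact γP_mem 0
    · exact γP_mem 1
    · exact γP_mem 2
  have hlet : ∀ l, l < 6 →
      CS.letY γP l ∈ Subgroup.closure ({γP 0, γP 1, γP 2} : Set (Equiv.Perm GolayPt)) := by
    intro l hl
    have h := CS.evY_mem_closure γP [l] (fun l' hl' => by rw [List.mem_singleton.mp hl']; exact hl)
    rw [CS.evY_cons, CS.evY_nil, mul_one] at h
    exact h
  have hrho : ∀ c, c < 1288 →
      rhoP c ∈ Subgroup.closure ({γP 0, γP 1, γP 2} : Set (Equiv.Perm GolayPt)) := by
    intro c
    induction c using Nat.strong_induction_on with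
    | _ c ih =>
      intro hc
      rcases Nat.eq_zero_or_pos c with rfl | hpos
      · exact Subgroup.one_mem _
      · rw [rhoP_succ c hpos hc]
        obtain ⟨hp, hl, -⟩ := M23C.htree c hpos hc
        exact Subgroup.mul_mem _ (ih _ hp (by omega)) (hlet _ hl)
  set C := Subgroup.closure ({γP 0, γP 1, γP 2} : Set (Equiv.Perm GolayPt)) with hC
  have hcardM' : Nat.card ↥(Spor.M11.subgroupOf C) = 7920 := by
    rw [← Cfsg.Agent.Lib.Helper86.card_M11]
    exact Nat.card_congr (Subgroup.subgroupOfEquivOfLe M11_le_closure).toEquiv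
  let f : Fin 1288 → ↥C ⧸ Spor.M11.subgroupOf C := fun c =>
    QuotientGroup.mk (⟨rhoP c, hrho c c.2⟩ : ↥C)⁻¹
  have hf : Function.Injective f := by
    intro c c' h
    have h1 : ((⟨rhoP c, hrho c c.2⟩ : ↥C)⁻¹)⁻¹ * (⟨rhoP c', hrho c' c'.2⟩ : ↥C)⁻¹
        ∈ Spor.M11.subgroupOf C := QuotientGroup.eq.mp h
    have h2 : rhoP c * (rhoP c')⁻¹ ∈ Spor.M11 := by
      have h3 := Subgroup.mem_subgroupOf.mp h1
      simpa using h3
    have h3 := (mem_M11_iff_preserve (G0.mul_mem (rho_mem c c.2)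
      (G0.inv_mem (rho_mem c' c'.2)))).mp h2
    have h4 : setOf (M23C.dm c) = setOf (M23C.dm c') := by
      ext p
      rw [← rho_dm c c.2 p, ← rho_dm c' c'.2 p]
      have h5 := h3 (rhoP c' p)
      rw [Equiv.Perm.mul_apply, perm_inv_apply] at h5
      exact h5
    exact Fin.ext (dm_inj c.2 c'.2 (setOf_injective (dm_lt _) (dm_lt _) h4))
  have hq : 1288 ≤ Nat.card (↥C ⧸ Spor.M11.subgroupOf C) := by
    have h := Nat.card_le_card_of_injective f hf
    rw [Nat.card_eq_fintype_card, Fintype.card_fin] at h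
    exact h
  have hcardC : 10200960 ≤ Nat.card ↥C := by
    rw [Subgroup.card_eq_card_quotient_mul_card_subgroup (Spor.M11.subgroupOf C), hcardM']
    omega
  exact Subgroup.eq_of_le_of_card_ge hCle (by rw [card_G0]; exact hcardC)

/-! ### the relators -/

/-- relators in the generators of `M11` -/
def hrels : List (List ℕ) :=
  [[0, 0, 0, 0, 0, 0, 0, 0, 0, 0, 0],
   [2, 2, 2, 2],
   [0, 2, 2, 2, 0, 3, 0, 3, 0, 3],
   [0, 0, 0, 3, 1, 2, 0, 0, 2, 0, 3, 3],
   [0, 0, 2, 2, 0, 0, 2, 2, 0, 0, 2, 2]]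

/-- data `(U, Z, U2, Z2)` of the relators `U⁻¹ Z U = U2⁻¹ Z2 U2` between elements of order three -/
def r3 : List (List ℕ × List ℕ × List ℕ × List ℕ) :=
  [([4], [1, 3, 0, 0, 2, 0, 2, 0], [], [3, 0, 0, 3]),
   ([4], [1, 2, 0, 0, 3, 1, 3], [], [2, 2, 0, 2, 2, 0, 2, 2, 0, 0]),
   ([4], [0, 0, 0, 3, 0, 2, 2, 0], [], [0, 3, 1, 3, 0, 0]),
   ([4], [1, 2, 2, 0, 2, 1, 3, 1, 3], [], [1, 2, 2, 0, 2, 1, 3, 1, 3]),
   ([4], [1, 2, 0, 3, 0, 3, 1, 1], [], [1, 1, 2, 0, 2, 1]),
   ([4], [2, 0, 2, 1, 1, 3, 0], [], [0, 0, 2, 1, 2, 0, 2, 0, 0, 2]),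
   ([3, 0, 0, 2, 1, 1, 4], [4], [3], [4]),
   ([0, 2, 0, 2, 2, 1, 4], [4], [3], [5]),
   ([0, 2, 4], [4], [2, 0, 2, 1, 3, 0], [5]),
   ([2, 5], [4], [3, 1, 2, 0, 2, 2, 0], [5]),
   ([2, 5], [4], [1, 1, 3, 0, 0, 0, 0, 0], [4]),
   ([2, 0, 2, 2, 0, 4], [4], [1, 1, 3, 1], [5]),
   ([2, 1, 1, 1, 1, 5], [4], [0, 3, 1, 3], [4]),
   ([4], [4], [0, 2, 1, 1, 3, 0, 0, 3, 0], [5]),
   ([1, 2, 1, 2, 4], [4], [0, 3, 0, 2, 2], [4]),
   ([2, 1, 1, 2, 0, 2, 4], [4], [0, 0, 3], [5]),
   ([2, 1, 1, 2, 5], [4], [3, 1, 2, 2, 0, 2], [4]),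
   ([0, 0, 3, 1, 1, 5], [4], [0, 0, 2, 1, 1], [4]),
   ([3, 1, 3, 1, 3, 0, 0, 4], [4], [0, 0, 3], [4]),
   ([3, 0, 0, 3, 5], [4], [1, 1, 3, 0, 2, 0, 3], [5]),
   ([0, 0, 2, 2, 1, 1, 4], [4], [0, 0, 2, 1, 1], [5]),
   ([2, 1, 1, 2, 5], [4], [0, 3, 0, 0, 0, 2, 1, 3], [5]),
   ([2, 2, 1, 1, 1, 1, 5], [4], [3, 1, 1, 2, 1, 3], [4]),
   ([2, 2, 1, 1, 1, 1, 5], [4], [1, 1, 2, 0, 3, 0], [5]),
   ([2, 2, 1, 3, 0, 0, 2, 5], [4], [0, 0, 2, 1, 1], [5]),
   ([3, 0, 2, 1, 3, 0, 4], [4], [0, 0, 2, 2, 1, 2], [5]),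
   ([1, 2, 0, 2, 2, 0, 2, 5], [4], [2, 2, 1, 1, 1], [4])]

/-- the relator of such data -/
def r3word (d : List ℕ × List ℕ × List ℕ × List ℕ) : List ℕ :=
  CS.winv d.1 ++ d.2.1 ++ d.1 ++ CS.winv (CS.winv d.2.2.1 ++ d.2.2.2 ++ d.2.2.1)

theorem rels_eq : M23C.rels = hrels ++ [[4, 4, 4]] ++ r3.map r3word := by decide +kernel

/-- check that a word has trivial cube for a reason that lifts -/
def cubOK (Z : List ℕ) : Bool :=
  (Z.all (fun l => decide (l < 4)) && (powT (evalT tabs6 Z) 3 == idT)) || Z == [4] || Z == [5]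

theorem cub_of_ok {Z : List ℕ} (h : cubOK Z = true) : CS.Cub γP Z := by
  unfold cubOK at h
  rw [Bool.or_eq_true, Bool.or_eq_true, Bool.and_eq_true] at h
  rcases h with (⟨h1, h2⟩ | h) | h
  · left
    refine ⟨fun l hl => of_decide_eq_true (List.all_eq_true.mp h1 l hl), ?_⟩
    have h3 := repT_pow (repT_evY Z) 3
    rw [eq_of_beq h2] at h3
    exact h3.ext repT_one
  · right; left
    exact eq_of_beq h
  · right; right
    exact eq_of_beq h

/-- check of a relator in the generators of `M11` -/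
def hOK (r : List ℕ) : Bool := r.all (fun l => decide (l < 4)) && (evalT tabs6 r == idT)

/-- check of a relator between elements of order three -/
def r3OK (d : List ℕ × List ℕ × List ℕ × List ℕ) : Bool :=
  cubOK d.2.1 && cubOK d.2.2.2 &&
    (evalT tabs6 (CS.winv d.1 ++ d.2.1 ++ d.1)
      == evalT tabs6 (CS.winv d.2.2.1 ++ d.2.2.2 ++ d.2.2.1))

theorem hrels_ok : hrels.all hOK = true := by decide +kernel

theorem r3_ok : r3.all r3OK = true := by decide +kernel

theorem goodR : ∀ r ∈ M23C.rels, (∀ l ∈ r, l < 6) ∧ CS.GoodR γP r := by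
  intro r hr
  refine ⟨M23C.rels_lt r hr, ?_⟩
  rw [rels_eq, List.mem_append, List.mem_append] at hr
  rcases hr with (hr | hr) | hr
  · left
    have h := List.all_eq_true.mp hrels_ok r hr
    unfold hOK at h
    rw [Bool.and_eq_true] at h
    refine ⟨fun l hl => of_decide_eq_true (List.all_eq_true.mp h.1 l hl), ?_⟩
    have h3 := repT_evY r
    rw [eq_of_beq h.2] at h3
    exact h3.ext repT_one
  · right; left
    exact List.mem_singleton.mp hr
  · right; right
    obtain ⟨d, hd, rfl⟩ := List.mem_map.mp hr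
    have h := List.all_eq_true.mp r3_ok d hd
    unfold r3OK at h
    rw [Bool.and_eq_true, Bool.and_eq_true] at h
    refine ⟨d.1, d.2.1, d.2.2.1, d.2.2.2, rfl, cub_of_ok h.1.1, cub_of_ok h.1.2, ?_⟩
    have h3 := repT_evY (CS.winv d.1 ++ d.2.1 ++ d.1)
    rw [eq_of_beq h.2] at h3
    exact h3.ext (repT_evY _)

/-! ### elements of order seven and twenty-three -/

theorem t7_mem : tabPermD t7 ∈ G0 :=
  tab_mem_G0 (by decide +kernel) (by decide +kernel) (by decide +kernel)

theorem t23_mem : tabPermD t23 ∈ G0 :=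
  tab_mem_G0 (by decide +kernel) (by decide +kernel) (by decide +kernel)

/-- an element of order seven -/
noncomputable def x7 : ↥G0 := ⟨tabPermD t7, t7_mem⟩
/-- an element of order twenty-three -/
noncomputable def x23 : ↥G0 := ⟨tabPermD t23, t23_mem⟩

theorem order_x7 : orderOf x7 = 7 :=
  haveI : Fact (Nat.Prime 7) := ⟨by norm_num⟩
  Cfsg.Agent.Lib.Helper27.MT.orderOf_tab x7 t7 rfl 7 (by decide +kernel) (by decide +kernel)
    (by decide +kernel) 1 (by norm_num) (by decide)

theorem order_x23 : orderOf x23 = 23 :=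
  haveI : Fact (Nat.Prime 23) := ⟨by norm_num⟩
  Cfsg.Agent.Lib.Helper27.MT.orderOf_tab x23 t23 rfl 23 (by decide +kernel) (by decide +kernel)
    (by decide +kernel) 1 (by norm_num) (by decide)

/-! ### the sign method for the point stabiliser -/

/-- A central extension of the point stabiliser by a group of order two that splits over `M11`
does not have its kernel inside the commutator subgroup. -/
theorem sign_M23 {Y : Type*} [Group Y] (τ : Y →* Equiv.Perm GolayPt) (z : Y) (hz1 : z ≠ 1)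
    (hker : ∀ k : Y, τ k = 1 → k = 1 ∨ k = z) (hzk : τ z = 1)
    (S : Subgroup Y) (hS : ∀ s ∈ S, τ s = 1 → s = 1) (hSH : S.map τ = Spor.M11)
    (hrange : τ.range = G0) : z ∉ commutator Y :=
  CS.sign_core τ z hz1 hker hzk S hS Spor.M11 hSH γP pX_mem pV_mem
    (by rw [hrange]; exact γP_mem 2) pG_cube γP_ge
    1288 M23C.nx M23C.par M23C.plet M23C.vt M23C.it 2575 (by norm_num) M23C.htab M23C.htree
    M23C.vhyp hexG hneG M23C.rels goodR M23C.rows M23C.rows_ok M23C.chk_ok
    (by rw [hrange, closure_eq])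

end Cfsg.Agent.Lib.Helper7.M23P
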