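import Cfsg.Agent.Lib.Helper7.SteinerCert

/-!
# Automorphism groups of Steiner systems from certificates

Transport of automorphisms along an isomorphism with the final system of a certificate,
kernel-checked transitivity chains (explicit automorphisms) and kernel-checked rigidity
(an automorphism fixing `t` base points is the identity).
-/

set_option autoImplicit false

namespace Cfsg.Agent.Lib.Helper7.SC

open scoped Pointwise

/-! ### Transport -/

theorem exists_equiv_final {n t k N : ℕ} (ht : 1 ≤ t) (htk : t ≤ k)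
    (hN : N * k.choose t = n.choose t) (nodes : List Node)
    (h : run n t k N (2 ^ N - 1) (List.range n) nodes [] 0 0 = true)
    {α : Type*} [Fintype α] [DecidableEq α] (hα : Fintype.card α = n) {B : Set (Finset α)}
    (hB : Cfsg.IsSteinerSystem t k B) :
    ∃ e : α ≃ Fin n, ∀ x : Finset α,
      x ∈ B ↔ x.map e.toEmbedding ∈ finalSet n (finalK nodes []) := by
  have hWF : WF n N [] 0 0 := ⟨rfl, Nat.zero_le _, fun p _ j _ => by simp, by simp⟩
  obtain ⟨τ, -, hτ⟩ := run_sound ht htk (Nat.testBit_two_pow_sub_one N) (fun y => List.mem_range)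
    List.nodup_range hN ⊤ nodes [] 0 0 h hWF (fun _ _ _ _ => Subgroup.mem_top _) _
    (steiner_comap (Fintype.equivFinOfCardEq hα).symm hB) (by simp)
  refine ⟨(Fintype.equivFinOfCardEq hα).trans τ, fun x => ?_⟩
  have h1 : (x.map (Fintype.equivFinOfCardEq hα).toEmbedding).map
      (Fintype.equivFinOfCardEq hα).symm.toEmbedding ∈ B ↔
      (x.map (Fintype.equivFinOfCardEq hα).toEmbedding).map τ.toEmbedding ∈
        finalSet n (finalK nodes []) := hτ _
  rw [map_symm_map, map_map_equiv] at h1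
  exact h1

lemma steiner_of_equiv {α β : Type*} {t k : ℕ} {B : Set (Finset α)} {X : Set (Finset β)}
    (e : α ≃ β) (h : ∀ x, x ∈ B ↔ x.map e.toEmbedding ∈ X)
    (hB : Cfsg.IsSteinerSystem t k B) : Cfsg.IsSteinerSystem t k X := by
  have h1 := steiner_comap e.symm hB
  have h2 : {y : Finset β | y.map e.symm.toEmbedding ∈ B} = X := by
    ext y
    show y.map e.symm.toEmbedding ∈ B ↔ y ∈ X
    rw [h, map_map_symm]
  rw [h2] at h1
  exact h1

lemma perm_smul_finset {β : Type*} [DecidableEq β] (σ : Equiv.Perm β) (b : Finset β) :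
    σ • b = b.map σ.toEmbedding := by
  ext a
  rw [Finset.mem_smul_finset, Finset.mem_map]
  constructor <;> rintro ⟨y, hy, rfl⟩ <;> exact ⟨y, hy, rfl⟩

lemma mem_aut_of_map {β : Type*} [DecidableEq β] [Fintype β] {X : Set (Finset β)}
    (σ : Equiv.Perm β) (h : ∀ b ∈ X, b.map σ.toEmbedding ∈ X) : σ ∈ Cfsg.setSystemAut X := by
  show σ ∈ MulAction.stabilizer (Equiv.Perm β) X
  rw [MulAction.mem_stabilizer_set_iff_smul_set_subset (Set.toFinite _)]
  rintro x ⟨b, hb, rfl⟩
  show σ • b ∈ X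
  rw [perm_smul_finset]
  exact h b hb

lemma map_mem_of_mem_aut {β : Type*} [DecidableEq β] {X : Set (Finset β)} {σ : Equiv.Perm β}
    (hσ : σ ∈ Cfsg.setSystemAut X) {b : Finset β} (hb : b ∈ X) : b.map σ.toEmbedding ∈ X := by
  have h1 : σ • X = X := hσ
  have h2 : σ • b ∈ σ • X := Set.smul_mem_smul_set hb
  rw [h1, perm_smul_finset] at h2
  exact h2

lemma aut_transport {α β : Type*} [DecidableEq α] [Fintype α] [DecidableEq β]
    {B : Set (Finset α)} {X : Set (Finset β)} (e : α ≃ β)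
    (h : ∀ x, x ∈ B ↔ x.map e.toEmbedding ∈ X) {σ : Equiv.Perm β}
    (hσ : σ ∈ Cfsg.setSystemAut X) : (e.trans σ).trans e.symm ∈ Cfsg.setSystemAut B := by
  apply mem_aut_of_map
  intro b hb
  rw [h]
  have h1 : (b.map ((e.trans σ).trans e.symm).toEmbedding).map e.toEmbedding
      = (b.map e.toEmbedding).map σ.toEmbedding := by
    rw [map_map_equiv, map_map_equiv]
    congr 2
    ext a
    simp
  rw [h1]
  exact map_mem_of_mem_aut hσ ((h b).mp hb)

lemma aut_transport' {α β : Type*} [DecidableEq α] [DecidableEq β] [Fintype β]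
    {B : Set (Finset α)} {X : Set (Finset β)} (e : α ≃ β)
    (h : ∀ x, x ∈ B ↔ x.map e.toEmbedding ∈ X) {g : Equiv.Perm α}
    (hg : g ∈ Cfsg.setSystemAut B) : (e.symm.trans g).trans e ∈ Cfsg.setSystemAut X := by
  have h' : ∀ y, y ∈ X ↔ y.map e.symm.toEmbedding ∈ B := by
    intro y
    rw [h, map_map_symm]
  exact aut_transport e.symm h' hg

/-! ### Transitivity from a chain of automorphisms -/

lemma chain_trans {n m : ℕ} (hmn : m ≤ n) (G : Subgroup (Equiv.Perm (Fin n)))
    (hchain : ∀ i (hi : i < m), ∀ y : Fin n, i ≤ y.val →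
      ∃ σ ∈ G, (∀ j : Fin n, j.val < i → σ j = j) ∧ σ ⟨i, lt_of_lt_of_le hi hmn⟩ = y)
    (x : Fin m ↪ Fin n) : ∃ g ∈ G, ∀ i : Fin m, g (Fin.castLE hmn i) = x i := by
  have key : ∀ m' (_ : m' ≤ m), ∃ g ∈ G, ∀ i : Fin m, i.val < m' →
      g (Fin.castLE hmn i) = x i := by
    intro m'
    induction m' with
    | zero => exact fun _ => ⟨1, G.one_mem, fun i hi => absurd hi (Nat.not_lt_zero _)⟩
    | succ m' ih =>
      intro hm'
      obtain ⟨g, hg, hgx⟩ := ih (Nat.le_of_succ_le hm')
      have hm'lt : m' < m := hm'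
      have hy_ge : m' ≤ (g⁻¹ (x ⟨m', hm'lt⟩)).val := by
        by_contra hlt
        rw [not_le] at hlt
        have h1 := hgx ⟨(g⁻¹ (x ⟨m', hm'lt⟩)).val, lt_trans hlt hm'lt⟩ hlt
        have h2 : Fin.castLE hmn ⟨(g⁻¹ (x ⟨m', hm'lt⟩)).val, lt_trans hlt hm'lt⟩
            = g⁻¹ (x ⟨m', hm'lt⟩) := Fin.ext rfl
        rw [h2] at h1
        have h3 : g (g⁻¹ (x ⟨m', hm'lt⟩)) = x ⟨m', hm'lt⟩ := by simp
        have h4 := x.injective (h1.symm.trans h3)
        have h5 := congrArg Fin.val h4
        simp only at h5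
        omega
      obtain ⟨σ, hσ, hfix, hmap⟩ := hchain m' hm'lt _ hy_ge
      refine ⟨g * σ, G.mul_mem hg hσ, fun i hi => ?_⟩
      rcases Nat.lt_succ_iff_lt_or_eq.mp hi with hlt | heq
      · rw [Equiv.Perm.mul_apply, hfix _ (by simpa using hlt)]
        exact hgx i hlt
      · have hi' : Fin.castLE hmn i = ⟨m', lt_of_lt_of_le hm'lt hmn⟩ := Fin.ext heq
        have hi2 : i = ⟨m', hm'lt⟩ := Fin.ext heq
        rw [Equiv.Perm.mul_apply, hi', hmap, hi2]
        simp
  obtain ⟨g, hg, h⟩ := key m le_rfl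
  exact ⟨g, hg, fun i => h i i.isLt⟩

/-! ### Kernel-checked automorphisms -/

/-- Membership bit. -/
noncomputable def tb (kn m : ℕ) : Bool := Nat.beq (Nat.land (Nat.shiftRight kn m) 1) 1

lemma tb_eq (kn m : ℕ) : tb kn m = kn.testBit m := by
  unfold tb
  rw [land1]
  cases kn.testBit m <;> rfl

/-- The transpositions `sw` give an automorphism of the block list `K` (`kn = maskL K`). -/
noncomputable def autOK (n kn : ℕ) (K : List ℕ) (sw : List (ℕ × ℕ)) : Bool :=
  swOK n sw && allR (fun c => tb kn (applySw sw c)) K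

lemma autOK_spec {n : ℕ} {K : List ℕ} {sw : List (ℕ × ℕ)}
    (h : autOK n (maskL K) K sw = true) :
    swOK n sw = true ∧ permOf n sw ∈ Cfsg.setSystemAut (finalSet n K) := by
  unfold autOK at h
  rw [Bool.and_eq_true, allR_eq, List.all_eq_true] at h
  refine ⟨h.1, mem_aut_of_map _ ?_⟩
  rintro b ⟨c, hc, rfl⟩
  rw [← setM_applySw sw h.1]
  have h2 := h.2 c hc
  rw [tb_eq, maskL_testBit] at h2
  exact ⟨_, h2, rfl⟩

lemma perm_apply_of_bit {n : ℕ} {sw : List (ℕ × ℕ)} (hsw : swOK n sw = true) {p q : ℕ}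
    (hp : p < n) (hq : q < n)
    (h : applySw sw (Nat.shiftLeft 1 p) = Nat.shiftLeft 1 q) :
    permOf n sw ⟨p, hp⟩ = ⟨q, hq⟩ := by
  have h1 := setM_applySw sw hsw (Nat.shiftLeft 1 p)
  rw [h] at h1
  have h2 : (⟨p, hp⟩ : Fin n) ∈ setM n (Nat.shiftLeft 1 p) := by
    rw [mem_setM, tb_shl1]
    simp
  have h3 : permOf n sw ⟨p, hp⟩ ∈ setM n (Nat.shiftLeft 1 q) := by
    rw [h1]
    exact Finset.mem_map_of_mem _ h2
  rw [mem_setM, tb_shl1, decide_eq_true_eq] at h3
  exact Fin.ext h3.symm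

/-- One row of the chain: automorphisms fixing the points `< i` and mapping `i` to
`y, y + 1, …, n - 1`. -/
noncomputable def rowOK (n kn : ℕ) (K : List ℕ) (i : ℕ) : ℕ → List (List (ℕ × ℕ)) → Bool
  | y, [] => Nat.beq y n
  | y, sw :: rest =>
    autOK n kn K sw
    && (List.range i).all (fun j => Nat.beq (applySw sw (Nat.shiftLeft 1 j)) (Nat.shiftLeft 1 j))
    && Nat.beq (applySw sw (Nat.shiftLeft 1 i)) (Nat.shiftLeft 1 y)
    && rowOK n kn K i (y + 1) rest

lemma rowOK_spec {n : ℕ} {K : List ℕ} {i : ℕ} (hi : i < n) :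
    ∀ (row : List (List (ℕ × ℕ))) (y0 : ℕ), rowOK n (maskL K) K i y0 row = true →
      ∀ y : Fin n, y0 ≤ y.val → ∃ σ ∈ Cfsg.setSystemAut (finalSet n K),
        (∀ j : Fin n, j.val < i → σ j = j) ∧ σ ⟨i, hi⟩ = y := by
  intro row
  induction row with
  | nil =>
    intro y0 h y hy
    have h1 : y0 = n := Nat.eq_of_beq_eq_true h
    have := y.isLt
    omega
  | cons sw rest ih =>
    intro y0 h y hy
    have h' : (autOK n (maskL K) K sw
      && (List.range i).all
        (fun j => Nat.beq (applySw sw (Nat.shiftLeft 1 j)) (Nat.shiftLeft 1 j))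
      && Nat.beq (applySw sw (Nat.shiftLeft 1 i)) (Nat.shiftLeft 1 y0)
      && rowOK n (maskL K) K i (y0 + 1) rest) = true := h
    simp only [Bool.and_eq_true, List.all_eq_true, List.mem_range, Nat.beq_eq] at h'
    obtain ⟨⟨⟨h1, h2⟩, h3⟩, h4⟩ := h'
    obtain ⟨hsw, haut⟩ := autOK_spec h1
    rcases Nat.eq_or_lt_of_le hy with heq | hlt
    · refine ⟨permOf n sw, haut, fun j hj => ?_, ?_⟩
      · exact perm_apply_of_bit hsw j.isLt j.isLt (h2 j.val hj)
      · have hy0 : y0 < n := by rw [heq]; exact y.isLt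
        rw [perm_apply_of_bit hsw hi hy0 h3]
        exact Fin.ext heq
    · exact ih (y0 + 1) h4 y hlt

/-- The chain of rows for the base points `i0, i0 + 1, …`. -/
noncomputable def chainOK (n kn : ℕ) (K : List ℕ) : ℕ → List (List (List (ℕ × ℕ))) → Bool
  | _, [] => true
  | i, row :: rest => Nat.blt i n && rowOK n kn K i i row && chainOK n kn K (i + 1) rest

lemma chainOK_spec {n : ℕ} {K : List ℕ} :
    ∀ (tab : List (List (List (ℕ × ℕ)))) (i0 : ℕ), chainOK n (maskL K) K i0 tab = true →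
      ∀ i (hi : i < n), i0 ≤ i → i < i0 + tab.length → ∀ y : Fin n, i ≤ y.val →
        ∃ σ ∈ Cfsg.setSystemAut (finalSet n K),
          (∀ j : Fin n, j.val < i → σ j = j) ∧ σ ⟨i, hi⟩ = y := by
  intro tab
  induction tab with
  | nil =>
    intro i0 _ i hi h1 h2
    simp at h2
    omega
  | cons row rest ih =>
    intro i0 h i hi h1 h2 y hy
    have h' : (Nat.blt i0 n && rowOK n (maskL K) K i0 i0 row
      && chainOK n (maskL K) K (i0 + 1) rest) = true := h
    simp only [Bool.and_eq_true, Nat.blt_eq] at h'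
    obtain ⟨⟨h3, h4⟩, h5⟩ := h'
    rcases Nat.eq_or_lt_of_le h1 with heq | hlt
    · subst heq
      exact rowOK_spec hi row i0 h4 y hy
    · refine ih (i0 + 1) h5 i hi hlt ?_ y hy
      simp only [List.length_cons] at h2
      omega

theorem trans_of_chain {n m : ℕ} {K : List ℕ} {tab : List (List (List (ℕ × ℕ)))}
    (hm : tab.length = m) (hmn : m ≤ n) (h : chainOK n (maskL K) K 0 tab = true)
    (x : Fin m ↪ Fin n) :
    ∃ g ∈ Cfsg.setSystemAut (finalSet n K), ∀ i : Fin m, g (Fin.castLE hmn i) = x i := by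
  apply chain_trans hmn
  intro i hi y hy
  exact chainOK_spec tab 0 h i (lt_of_lt_of_le hi hmn) (Nat.zero_le _) (by omega) y hy

/-! ### Rigidity -/

lemma mask_eq_of_setM {n a b : ℕ} (ha : a < 2 ^ n) (hb : b < 2 ^ n)
    (h : setM n a = setM n b) : a = b := by
  apply Nat.eq_of_testBit_eq
  intro i
  by_cases hi : i < n
  · have h1 : (⟨i, hi⟩ : Fin n) ∈ setM n a ↔ (⟨i, hi⟩ : Fin n) ∈ setM n b := by rw [h]
    rw [mem_setM, mem_setM] at h1
    exact Bool.eq_iff_iff.mpr h1
  · have hle : 2 ^ n ≤ 2 ^ i := Nat.pow_le_pow_right (by norm_num) (not_lt.mp hi)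
    rw [Nat.testBit_lt_two_pow (lt_of_lt_of_le ha hle),
      Nat.testBit_lt_two_pow (lt_of_lt_of_le hb hle)]

lemma mem_K_of_setM {n : ℕ} {K : List ℕ} (hK2 : ∀ c ∈ K, c < 2 ^ n) {M : ℕ} (hM : M < 2 ^ n)
    (h : setM n M ∈ finalSet n K) : M ∈ K := by
  obtain ⟨c, hc, hceq⟩ := h
  rw [← mask_eq_of_setM (hK2 c hc) hM hceq]
  exact hc

/-- `c0` is a block consisting of the base points `0, …, t - 1` and the point `q`. -/
noncomputable def baseOK (n t kn c0 q : ℕ) : Bool :=
  tb kn c0 && Nat.beq c0 (Nat.lor (Nat.sub (Nat.pow 2 t) 1) (Nat.shiftLeft 1 q))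
    && Nat.ble t q && Nat.blt q n

lemma base_fixed {n t k : ℕ} {K : List ℕ} (hX : Cfsg.IsSteinerSystem t k (finalSet n K))
    (htn : t ≤ n) {c0 q : ℕ} (h : baseOK n t (maskL K) c0 q = true)
    {g : Equiv.Perm (Fin n)} (hg : g ∈ Cfsg.setSystemAut (finalSet n K))
    (hfix : ∀ j : Fin n, j.val < t → g j = j) :
    ∀ p : Fin n, c0.testBit p.val = true → g p = p := by
  unfold baseOK at h
  simp only [Bool.and_eq_true, tb_eq, maskL_testBit, Nat.beq_eq, Nat.ble_eq, Nat.blt_eq] at h
  obtain ⟨⟨⟨h1, h2⟩, h3⟩, h4⟩ := h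
  have hbit : ∀ i, c0.testBit i = true ↔ i < t ∨ i = q := by
    intro i
    rw [h2, tb_lor, tb_shl1]
    have h5 : (Nat.sub (Nat.pow 2 t) 1).testBit i = decide (i < t) :=
      Nat.testBit_two_pow_sub_one t i
    rw [h5]
    simp only [Bool.or_eq_true, decide_eq_true_eq]
    constructor
    · rintro (h | h)
      · exact Or.inl h
      · exact Or.inr h.symm
    · rintro (h | h)
      · exact Or.inl h
      · exact Or.inr h.symm
  classical
  have hS0 : setM n c0 ∈ finalSet n K := ⟨c0, h1, rfl⟩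
  have hS0g : (setM n c0).map g.toEmbedding ∈ finalSet n K := map_mem_of_mem_aut hg hS0
  have hWcard : (Finset.univ.filter (fun j : Fin n => j.val < t)).card = t := by
    have h5 : (Finset.univ.filter (fun j : Fin n => j.val < t)).map Fin.valEmbedding
        = Finset.range t := by
      ext a
      simp only [Finset.mem_map, Finset.mem_filter, Finset.mem_univ, true_and,
        Fin.valEmbedding_apply, Finset.mem_range]
      constructor
      · rintro ⟨j, hj, rfl⟩
        exact hj
      · intro ha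
        exact ⟨⟨a, lt_of_lt_of_le ha htn⟩, ha, rfl⟩
    rw [← Finset.card_map Fin.valEmbedding, h5, Finset.card_range]
  have hWsub : Finset.univ.filter (fun j : Fin n => j.val < t) ⊆
      (setM n c0).map g.toEmbedding ∩ setM n c0 := by
    intro j hj
    have hj' : j.val < t := (Finset.mem_filter.mp hj).2
    have hjS : j ∈ setM n c0 := mem_setM.mpr ((hbit _).mpr (Or.inl hj'))
    refine Finset.mem_inter.mpr ⟨?_, hjS⟩
    have h6 := Finset.mem_map_of_mem g.toEmbedding hjS
    have h7 : g.toEmbedding j = j := hfix j hj'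
    rw [h7] at h6
    exact h6
  have hcard : t ≤ ((setM n c0).map g.toEmbedding ∩ setM n c0).card := by
    have h8 := Finset.card_le_card hWsub
    rw [hWcard] at h8
    exact h8
  have heq := steiner_eq_of_inter hX hS0g hS0 hcard
  intro p hp
  rcases (hbit _).mp hp with hlt | hpq
  · exact hfix p hlt
  · have h9 : g p ∈ setM n c0 := by
      rw [← heq]
      exact Finset.mem_map_of_mem g.toEmbedding (mem_setM.mpr hp)
    rcases (hbit _).mp (mem_setM.mp h9) with hlt | hq
    · have h10 : g (g p) = g p := hfix _ hlt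
      have h11 : g p = p := g.injective h10
      rw [h11] at hlt
      omega
    · exact Fin.ext (hq.trans hpq.symm)

lemma image_block {n fx A : ℕ} {g : Equiv.Perm (Fin n)}
    (hfix : ∀ p : Fin n, fx.testBit p.val = true → g p = p)
    (hA : ∀ i, A.testBit i = true → fx.testBit i = true) (y y' : Fin n) :
    (setM n (Nat.lor A (Nat.lor (Nat.shiftLeft 1 y.val) (Nat.shiftLeft 1 y'.val)))).map
        g.toEmbedding
      = setM n (Nat.lor A
          (Nat.lor (Nat.shiftLeft 1 (g y).val) (Nat.shiftLeft 1 (g y').val))) := by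
  have hA' : ∀ p : Fin n, A.testBit p.val = true → g p = p := fun p hp => hfix p (hA _ hp)
  ext r
  rw [Finset.mem_map_equiv, mem_setM, mem_setM]
  simp only [tb_lor, tb_shl1, Bool.or_eq_true, decide_eq_true_eq]
  constructor
  · rintro (h | h | h)
    · left
      have h2 : g.symm r = r := by
        have h3 := hA' _ h
        rw [Equiv.apply_symm_apply] at h3
        exact h3.symm
      rw [h2] at h
      exact h
    · right; left
      have h2 : y = g.symm r := Fin.ext h
      rw [h2, Equiv.apply_symm_apply]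
    · right; right
      have h2 : y' = g.symm r := Fin.ext h
      rw [h2, Equiv.apply_symm_apply]
  · rintro (h | h | h)
    · left
      have h2 : g.symm r = r := by
        rw [Equiv.symm_apply_eq]
        exact (hA' r h).symm
      rw [h2]
      exact h
    · right; left
      have h2 : g y = r := Fin.ext h
      rw [← h2, Equiv.symm_apply_apply]
    · right; right
      have h2 : g y' = r := Fin.ext h
      rw [← h2, Equiv.symm_apply_apply]

/-- Refutation of `g y = z` for automorphisms `g` fixing the points of `fx`: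
`e = (y', c1, c2)` with blocks `c1`, `c2` both consisting of points of `fx` and `y`, `y'`. -/
noncomputable def refOK (n kn fx : ℕ) (pts : List ℕ) (y z : ℕ) (e : ℕ × ℕ × ℕ) : Bool :=
  Nat.blt e.1 n && tb kn e.2.1 && tb kn e.2.2
  && Nat.beq e.2.1
    (Nat.lor (Nat.land e.2.1 fx) (Nat.lor (Nat.shiftLeft 1 y) (Nat.shiftLeft 1 e.1)))
  && Nat.beq e.2.2
    (Nat.lor (Nat.land e.2.2 fx) (Nat.lor (Nat.shiftLeft 1 y) (Nat.shiftLeft 1 e.1)))
  && pts.all (fun u =>
      !(tb kn (Nat.lor (Nat.land e.2.1 fx) (Nat.lor (Nat.shiftLeft 1 z) (Nat.shiftLeft 1 u)))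
        && tb kn (Nat.lor (Nat.land e.2.2 fx)
          (Nat.lor (Nat.shiftLeft 1 z) (Nat.shiftLeft 1 u)))))

lemma ref_spec {n : ℕ} {K : List ℕ} (hK2 : ∀ c ∈ K, c < 2 ^ n) {fx : ℕ}
    {g : Equiv.Perm (Fin n)} (hg : g ∈ Cfsg.setSystemAut (finalSet n K))
    (hfix : ∀ p : Fin n, fx.testBit p.val = true → g p = p) (y z : Fin n) (e : ℕ × ℕ × ℕ)
    (h : refOK n (maskL K) fx (List.range n) y.val z.val e = true) : g y ≠ z := by
  intro hgy
  unfold refOK at h
  simp only [Bool.and_eq_true, Nat.blt_eq, tb_eq, maskL_testBit, Nat.beq_eq, List.all_eq_true,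
    List.mem_range, Bool.not_eq_true', Bool.and_eq_false_iff] at h
  obtain ⟨⟨⟨⟨⟨hy', hc1⟩, hc2⟩, he1⟩, he2⟩, hall⟩ := h
  have himg : ∀ c ∈ K,
      c = Nat.lor (Nat.land c fx) (Nat.lor (Nat.shiftLeft 1 y.val) (Nat.shiftLeft 1 e.1)) →
      Nat.lor (Nat.land c fx)
        (Nat.lor (Nat.shiftLeft 1 z.val) (Nat.shiftLeft 1 (g ⟨e.1, hy'⟩).val)) ∈ K := by
    intro c hc hceq
    have h1 : (setM n c).map g.toEmbedding ∈ finalSet n K := map_mem_of_mem_aut hg ⟨c, hc, rfl⟩
    have h2 := image_block (A := Nat.land c fx) hfix (fun i hi => by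
      rw [tb_land, Bool.and_eq_true] at hi
      exact hi.2) y ⟨e.1, hy'⟩
    rw [← hceq, hgy] at h2
    rw [h2] at h1
    refine mem_K_of_setM hK2 ?_ h1
    have hc2n : c < 2 ^ n := hK2 c hc
    have h3 : Nat.land c fx < 2 ^ n := lt_of_le_of_lt Nat.and_le_left hc2n
    have h4 : ∀ u : Fin n, Nat.shiftLeft 1 u.val < 2 ^ n := by
      intro u
      have h5 : Nat.shiftLeft 1 u.val = 2 ^ u.val := Nat.one_shiftLeft _
      rw [h5]
      exact Nat.pow_lt_pow_right (by norm_num) u.isLt
    exact Nat.or_lt_two_pow h3 (Nat.or_lt_two_pow (h4 z) (h4 _))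
  have hm1 := himg e.2.1 hc1 he1
  have hm2 := himg e.2.2 hc2 he2
  rcases hall (g ⟨e.1, hy'⟩).val (g ⟨e.1, hy'⟩).isLt with h5 | h5
  · rw [(maskL_testBit _ _).mpr hm1] at h5
    exact absurd h5 (by simp)
  · rw [(maskL_testBit _ _).mpr hm2] at h5
    exact absurd h5 (by simp)

lemma exists_zip_mem {α β : Type*} {l₁ : List α} {l₂ : List β} (h : l₂.length = l₁.length)
    {a : α} (ha : a ∈ l₁) : ∃ b, (a, b) ∈ l₁.zip l₂ := by
  obtain ⟨i, hi, rfl⟩ := List.getElem_of_mem ha
  have hi2 : i < l₂.length := by omega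
  have hi3 : i < (l₁.zip l₂).length := by
    rw [List.length_zip]
    omega
  refine ⟨l₂[i], ?_⟩
  have h1 : (l₁.zip l₂)[i] = (l₁[i], l₂[i]) := List.getElem_zip
  rw [← h1]
  exact List.getElem_mem _

/-- The table of refutations: one row for every point `y` outside `fx`, with one entry for every
point `z` outside `fx`. -/
noncomputable def rigOK (n kn fx : ℕ) (pts O : List ℕ) (rows : List (List (ℕ × ℕ × ℕ))) : Bool :=
  Nat.beq rows.length O.length &&
  (O.zip rows).all (fun yr => Nat.beq yr.2.length O.length &&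
    (O.zip yr.2).all (fun ze => Nat.beq ze.1 yr.1 || refOK n kn fx pts yr.1 ze.1 ze.2))

lemma rigOK_spec {n kn fx : ℕ} {pts O : List ℕ} {rows : List (List (ℕ × ℕ × ℕ))}
    (h : rigOK n kn fx pts O rows = true) {y z : ℕ} (hy : y ∈ O) (hz : z ∈ O) (hzy : z ≠ y) :
    ∃ e, refOK n kn fx pts y z e = true := by
  unfold rigOK at h
  rw [Bool.and_eq_true, Nat.beq_eq, List.all_eq_true] at h
  obtain ⟨hlen, hall⟩ := h
  obtain ⟨row, hrow⟩ := exists_zip_mem hlen hy
  have h1 := hall (y, row) hrow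
  rw [Bool.and_eq_true, Nat.beq_eq, List.all_eq_true] at h1
  obtain ⟨hrl, hr⟩ := h1
  obtain ⟨e, he⟩ := exists_zip_mem hrl hz
  have h2 := hr (z, e) he
  rw [Bool.or_eq_true, Nat.beq_eq] at h2
  rcases h2 with h3 | h3
  · exact absurd h3 hzy
  · exact ⟨e, h3⟩

theorem rigid_of_cert {n t k : ℕ} {K : List ℕ}
    (hX : Cfsg.IsSteinerSystem t k (finalSet n K)) (hK2 : ∀ c ∈ K, c < 2 ^ n) (htn : t ≤ n)
    {c0 q : ℕ} (hbase : baseOK n t (maskL K) c0 q = true)
    {rows : List (List (ℕ × ℕ × ℕ))}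
    (hrig : rigOK n (maskL K) c0 (List.range n)
      ((List.range n).filter (fun p => !c0.testBit p)) rows = true)
    {g : Equiv.Perm (Fin n)} (hg : g ∈ Cfsg.setSystemAut (finalSet n K))
    (hfix : ∀ j : Fin n, j.val < t → g j = j) : g = 1 := by
  have hfx := base_fixed hX htn hbase hg hfix
  apply Equiv.ext
  intro p
  show g p = p
  by_cases hp : c0.testBit p.val = true
  · exact hfx p hp
  · have hpO : p.val ∈ (List.range n).filter (fun p => !c0.testBit p) := by
      rw [List.mem_filter, List.mem_range]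
      exact ⟨p.isLt, by simpa using hp⟩
    have hgp : ¬ c0.testBit (g p).val = true := by
      intro h
      have h1 : g (g p) = g p := hfx (g p) h
      have h2 : g p = p := g.injective h1
      rw [h2] at h
      exact hp h
    have hgpO : (g p).val ∈ (List.range n).filter (fun p => !c0.testBit p) := by
      rw [List.mem_filter, List.mem_range]
      exact ⟨(g p).isLt, by simpa using hgp⟩
    by_contra hne
    have hne' : (g p).val ≠ p.val := fun h => hne (Fin.ext h)
    obtain ⟨e, he⟩ := rigOK_spec hrig hpO hgpO hne'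
    exact ref_spec hK2 hg hfx p (g p) e he rfl

/-! ### Sharp transitivity of the automorphism group -/

/-- From a uniqueness certificate, a transitivity chain and a rigidity table: the automorphism
group of every Steiner system `S(t, k, n)` is sharply `t`-transitive on the points. -/
theorem aut_sharp {n t k N : ℕ} (ht : 1 ≤ t) (htk : t ≤ k) (hN : N * k.choose t = n.choose t)
    (htn : t ≤ n) (nodes : List Node)
    (h : run n t k N (2 ^ N - 1) (List.range n) nodes [] 0 0 = true)
    (hK2 : (finalK nodes []).all (fun c => Nat.blt c (2 ^ n)) = true)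
    {tab : List (List (List (ℕ × ℕ)))} (htab : tab.length = t)
    (hchain : chainOK n (maskL (finalK nodes [])) (finalK nodes []) 0 tab = true)
    {c0 q : ℕ} (hbase : baseOK n t (maskL (finalK nodes [])) c0 q = true)
    {rows : List (List (ℕ × ℕ × ℕ))}
    (hrig : rigOK n (maskL (finalK nodes [])) c0 (List.range n)
      ((List.range n).filter (fun p => !c0.testBit p)) rows = true)
    {α : Type*} [Fintype α] [DecidableEq α] (hα : Fintype.card α = n) {B : Set (Finset α)}
    (hB : Cfsg.IsSteinerSystem t k B) :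
    MulAction.IsMultiplyPretransitive (Cfsg.setSystemAut B) α t ∧
      ∀ x : Fin t ↪ α, MulAction.stabilizer (Cfsg.setSystemAut B) x = ⊥ := by
  obtain ⟨e, he⟩ := exists_equiv_final ht htk hN nodes h hα hB
  have hX := steiner_of_equiv e he hB
  have hK2' : ∀ c ∈ finalK nodes [], c < 2 ^ n := by
    intro c hc
    have h1 := List.all_eq_true.mp hK2 c hc
    rw [Nat.blt_eq] at h1
    exact h1
  have T1 := fun x => trans_of_chain htab htn hchain x
  have T3 : ∀ (x' : Fin t ↪ Fin n) (g : Equiv.Perm (Fin n)),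
      g ∈ Cfsg.setSystemAut (finalSet n (finalK nodes [])) → (∀ i, g (x' i) = x' i) → g = 1 := by
    intro x' g hg hgx
    obtain ⟨hx, hhx, hmap⟩ := T1 x'
    have h1 : hx⁻¹ * g * hx = 1 := by
      apply rigid_of_cert hX hK2' htn hbase hrig
        (Subgroup.mul_mem _ (Subgroup.mul_mem _ (Subgroup.inv_mem _ hhx) hg) hhx)
      intro j hj
      have hj' := hmap ⟨j.val, hj⟩
      have hc : Fin.castLE htn ⟨j.val, hj⟩ = j := Fin.ext rfl
      rw [hc] at hj'
      rw [Equiv.Perm.mul_apply, Equiv.Perm.mul_apply, hj', hgx, ← hj']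
      simp
    have h2 : g = hx * (hx⁻¹ * g * hx) * hx⁻¹ := by group
    rw [h2, h1]
    group
  constructor
  · refine ⟨fun x y => ?_⟩
    obtain ⟨hx, hhx, hmapx⟩ := T1 (x.trans e.toEmbedding)
    obtain ⟨hy, hhy, hmapy⟩ := T1 (y.trans e.toEmbedding)
    have hh : hy * hx⁻¹ ∈ Cfsg.setSystemAut (finalSet n (finalK nodes [])) :=
      Subgroup.mul_mem _ hhy (Subgroup.inv_mem _ hhx)
    refine ⟨⟨(e.trans (hy * hx⁻¹)).trans e.symm, aut_transport e he hh⟩, ?_⟩
    ext i
    show e.symm ((hy * hx⁻¹) (e (x i))) = y i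
    have h1 : e (x i) = hx (Fin.castLE htn i) := (hmapx i).symm
    have h2 : e (y i) = hy (Fin.castLE htn i) := (hmapy i).symm
    have h3 : hx⁻¹ (hx (Fin.castLE htn i)) = Fin.castLE htn i := by simp
    rw [h1, Equiv.Perm.mul_apply, h3, ← h2, Equiv.symm_apply_apply]
  · intro x
    rw [Subgroup.eq_bot_iff_forall]
    intro g hg
    have hgx : ∀ i, (g : Equiv.Perm α) (x i) = x i := by
      intro i
      have h1 := congrArg (fun f : Fin t ↪ α => f i) (MulAction.mem_stabilizer_iff.mp hg)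
      exact h1
    have hg' := aut_transport' e he g.2
    have h1 := T3 (x.trans e.toEmbedding) _ hg' (by
      intro i
      show e ((g : Equiv.Perm α) (e.symm (e (x i)))) = e (x i)
      rw [Equiv.symm_apply_apply, hgx i])
    apply Subtype.ext
    apply Equiv.ext
    intro a
    have h2 := congrArg (fun f : Equiv.Perm (Fin n) => e.symm (f (e a))) h1
    simp only [Equiv.trans_apply, Equiv.symm_apply_apply, Equiv.Perm.coe_one, id_eq] at h2
    exact h2

end Cfsg.Agent.Lib.Helper7.SC
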