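import Cfsg.Agent.Lib.Helper7.SteinerCert

set_option autoImplicit false

set_option maxRecDepth 100000

namespace Cfsg.Agent.Lib.Helper7.SC

noncomputable def cert12_0 : List Node := [
  ⟨[0,1,2,3,4],[5],[.main,.sym [(5,6)],.sym [(5,7)],.sym [(5,8)],.sym [(5,9)],.sym [(5,10)],.sym [(5,11)]]⟩,
  ⟨[0,1,2,3,6],[7],[.main,.sym [(7,8)],.sym [(7,9)],.sym [(7,10)],.sym [(7,11)]]⟩,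
  ⟨[0,1,2,3,8],[10],[.sym [(10,9)],.main,.sym [(10,11)]]⟩,
  ⟨[0,1,2,3,9],[11],[.main]⟩,
  ⟨[0,1,2,4,6],[8],[.main,.sym [(8,9),(10,11)],.sym [(8,10)],.sym [(8,11),(9,8),(10,9)]]⟩,
  ⟨[0,1,2,4,9],[10],[.sym [(6,8),(7,10)],.main]⟩,
  ⟨[0,1,2,4,7],[11],[.main]⟩,
  ⟨[0,1,2,6,9],[5],[.main]⟩,
  ⟨[0,1,2,6,10],[11],[.main]⟩,
  ⟨[0,1,2,5,10],[7],[.main]⟩,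
  ⟨[0,1,2,5,8],[11],[.main]⟩,
  ⟨[0,1,2,7,8],[9],[.main]⟩,
  ⟨[0,1,3,4,6],[9],[.main,.sym [(4,10),(5,8),(6,4),(7,5),(7,9),(7,6),(7,11)],.sym [(4,6),(5,7),(9,11)]]⟩,
  ⟨[0,1,3,6,10],[5],[.main]⟩,
  ⟨[0,1,3,5,11],[7],[.main]⟩,
  ⟨[0,1,3,5,8],[9],[.main]⟩,
  ⟨[0,1,3,6,8],[11],[.main]⟩,
  ⟨[0,1,3,4,8],[7],[.main]⟩,
  ⟨[0,1,3,4,10],[11],[.main]⟩,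
  ⟨[0,1,3,7,9],[10],[.main]⟩,
  ⟨[0,1,4,5,8],[10],[.main]⟩,
  ⟨[0,1,4,6,10],[7],[.main]⟩,
  ⟨[0,1,4,5,6],[11],[.main]⟩,
  ⟨[0,1,4,5,7],[9],[.main]⟩,
  ⟨[0,1,4,8,9],[11],[.main]⟩,
  ⟨[0,1,5,6,7],[8],[.main]⟩,
  ⟨[0,1,5,9,10],[11],[.main]⟩,
  ⟨[0,1,6,7,9],[11],[.main]⟩,
  ⟨[0,1,6,8,9],[10],[.main]⟩,
  ⟨[0,1,7,8,10],[11],[.main]⟩,
  ⟨[0,2,3,4,6],[10],[.main,.sym [(4,11),(5,9),(6,4),(7,5),(8,7),(8,10),(8,6)]]⟩,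
  ⟨[0,2,3,4,7],[9],[.main]⟩,
  ⟨[0,2,3,4,8],[11],[.main]⟩,
  ⟨[0,2,3,5,7],[8],[.main]⟩,
  ⟨[0,2,3,5,6],[11],[.main]⟩,
  ⟨[0,2,3,5,9],[10],[.main]⟩,
  ⟨[0,2,3,6,8],[9],[.main]⟩,
  ⟨[0,2,3,7,10],[11],[.main]⟩,
  ⟨[0,2,4,5,6],[7],[.main]⟩,
  ⟨[0,2,4,5,8],[9],[.main]⟩]

noncomputable def cert12_1 : List Node := [
  ⟨[0,2,4,5,10],[11],[.main]⟩,
  ⟨[0,2,4,6,9],[11],[.main]⟩,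
  ⟨[0,2,4,7,8],[10],[.main]⟩,
  ⟨[0,2,5,6,8],[10],[.main]⟩,
  ⟨[0,2,5,7,9],[11],[.main]⟩,
  ⟨[0,2,6,7,8],[11],[.main]⟩,
  ⟨[0,2,6,7,9],[10],[.main]⟩,
  ⟨[0,2,8,9,10],[11],[.main]⟩,
  ⟨[0,3,4,5,6],[8],[.main]⟩,
  ⟨[0,3,4,5,7],[10],[.main]⟩,
  ⟨[0,3,4,5,9],[11],[.main]⟩,
  ⟨[0,3,4,6,7],[11],[.main]⟩,
  ⟨[0,3,4,8,9],[10],[.main]⟩,
  ⟨[0,3,5,6,7],[9],[.main]⟩,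
  ⟨[0,3,5,8,10],[11],[.main]⟩,
  ⟨[0,3,6,7,8],[10],[.main]⟩,
  ⟨[0,3,6,9,10],[11],[.main]⟩,
  ⟨[0,3,7,8,9],[11],[.main]⟩,
  ⟨[0,4,5,6,9],[10],[.main]⟩,
  ⟨[0,4,5,7,8],[11],[.main]⟩,
  ⟨[0,4,6,7,8],[9],[.main]⟩,
  ⟨[0,4,6,8,10],[11],[.main]⟩,
  ⟨[0,4,7,9,10],[11],[.main]⟩,
  ⟨[0,5,6,7,10],[11],[.main]⟩,
  ⟨[0,5,6,8,9],[11],[.main]⟩,
  ⟨[0,5,7,8,9],[10],[.main]⟩,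
  ⟨[1,2,3,4,6],[11],[.main]⟩,
  ⟨[1,2,3,4,7],[10],[.main]⟩,
  ⟨[1,2,3,4,8],[9],[.main]⟩,
  ⟨[1,2,3,5,6],[8],[.main]⟩,
  ⟨[1,2,3,5,7],[9],[.main]⟩,
  ⟨[1,2,3,5,10],[11],[.main]⟩,
  ⟨[1,2,3,6,9],[10],[.main]⟩,
  ⟨[1,2,3,7,8],[11],[.main]⟩,
  ⟨[1,2,4,5,6],[10],[.main]⟩,
  ⟨[1,2,4,5,7],[8],[.main]⟩,
  ⟨[1,2,4,5,9],[11],[.main]⟩,
  ⟨[1,2,4,6,7],[9],[.main]⟩,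
  ⟨[1,2,4,8,10],[11],[.main]⟩,
  ⟨[1,2,5,6,7],[11],[.main]⟩]

noncomputable def cert12_2 : List Node := [
  ⟨[1,2,5,8,9],[10],[.main]⟩,
  ⟨[1,2,6,7,8],[10],[.main]⟩,
  ⟨[1,2,6,8,9],[11],[.main]⟩,
  ⟨[1,2,7,9,10],[11],[.main]⟩,
  ⟨[1,3,4,5,6],[7],[.main]⟩,
  ⟨[1,3,4,5,8],[11],[.main]⟩,
  ⟨[1,3,4,5,9],[10],[.main]⟩,
  ⟨[1,3,4,6,8],[10],[.main]⟩,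
  ⟨[1,3,4,7,9],[11],[.main]⟩,
  ⟨[1,3,5,6,9],[11],[.main]⟩,
  ⟨[1,3,5,7,8],[10],[.main]⟩,
  ⟨[1,3,6,7,8],[9],[.main]⟩,
  ⟨[1,3,6,7,10],[11],[.main]⟩,
  ⟨[1,3,8,9,10],[11],[.main]⟩,
  ⟨[1,4,5,6,8],[9],[.main]⟩,
  ⟨[1,4,5,7,10],[11],[.main]⟩,
  ⟨[1,4,6,7,8],[11],[.main]⟩,
  ⟨[1,4,6,9,10],[11],[.main]⟩,
  ⟨[1,4,7,8,9],[10],[.main]⟩,
  ⟨[1,5,6,7,9],[10],[.main]⟩,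
  ⟨[1,5,6,8,10],[11],[.main]⟩,
  ⟨[1,5,7,8,9],[11],[.main]⟩,
  ⟨[2,3,4,5,6],[9],[.main]⟩,
  ⟨[2,3,4,5,7],[11],[.main]⟩,
  ⟨[2,3,4,5,8],[10],[.main]⟩,
  ⟨[2,3,4,6,7],[8],[.main]⟩,
  ⟨[2,3,4,9,10],[11],[.main]⟩,
  ⟨[2,3,5,6,7],[10],[.main]⟩,
  ⟨[2,3,5,8,9],[11],[.main]⟩,
  ⟨[2,3,6,7,9],[11],[.main]⟩,
  ⟨[2,3,6,8,10],[11],[.main]⟩,
  ⟨[2,3,7,8,9],[10],[.main]⟩,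
  ⟨[2,4,5,6,8],[11],[.main]⟩,
  ⟨[2,4,5,7,9],[10],[.main]⟩,
  ⟨[2,4,6,7,10],[11],[.main]⟩,
  ⟨[2,4,6,8,9],[10],[.main]⟩,
  ⟨[2,4,7,8,9],[11],[.main]⟩,
  ⟨[2,5,6,7,8],[9],[.main]⟩,
  ⟨[2,5,6,9,10],[11],[.main]⟩,
  ⟨[2,5,7,8,10],[11],[.main]⟩]

noncomputable def cert12_3 : List Node := [
  ⟨[3,4,5,6,10],[11],[.main]⟩,
  ⟨[3,4,5,7,8],[9],[.main]⟩,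
  ⟨[3,4,6,7,9],[10],[.main]⟩,
  ⟨[3,4,6,8,9],[11],[.main]⟩,
  ⟨[3,4,7,8,10],[11],[.main]⟩,
  ⟨[3,5,6,7,8],[11],[.main]⟩,
  ⟨[3,5,6,8,9],[10],[.main]⟩,
  ⟨[3,5,7,9,10],[11],[.main]⟩,
  ⟨[4,5,6,7,8],[10],[.main]⟩,
  ⟨[4,5,6,7,9],[11],[.main]⟩,
  ⟨[4,5,8,9,10],[11],[.main]⟩,
  ⟨[6,7,8,9,10],[11],[.main]⟩]

noncomputable def cert12 : List Node := cert12_0 ++ cert12_1 ++ cert12_2 ++ cert12_3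

theorem cert12_ok : run 12 5 6 132 (2 ^ 132 - 1) (List.range 12) cert12 [] 0 0 = true := by
  decide +kernel

end Cfsg.Agent.Lib.Helper7.SC
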