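import Cfsg.Agent.Lib.Helper7.SteinerAut
import Cfsg.Agent.Lib.Helper7.SteinerData12

set_option autoImplicit false

set_option maxRecDepth 100000

namespace Cfsg.Agent.Lib.Helper7.SC

noncomputable def chain12 : List (List (List (ℕ × ℕ))) := [
  [[],[(0,1),(6,9),(7,11),(8,10)],[(0,2),(1,0),(6,11),(7,9),(8,7),(10,6)],[(0,3),(1,0),(2,1),(8,9),(8,10),(8,11)],[(0,4),(1,0),(2,1),(3,2),(6,9),(7,10),(8,6),(8,7)],[(0,5),(1,0),(2,1),(3,2),(4,3),(6,11),(7,8),(9,6)],[(0,6),(1,0),(2,1),(3,2),(4,3),(5,7),(4,10),(5,11),(8,5),(9,4)],[(0,7),(1,0),(2,1),(3,2),(4,3),(5,6),(5,8),(4,9),(5,4),(10,11)],[(0,8),(1,0),(2,1),(3,2),(4,3),(5,10),(7,4),(7,11)],[(0,9),(1,0),(2,1),(3,2),(4,3),(5,11),(6,5),(7,6),(4,10),(4,7)],[(0,10),(1,0),(2,1),(3,2),(4,3),(5,8),(6,7),(6,5),(6,9),(6,11)],[(0,11),(1,0),(2,1),(3,2),(4,3),(5,9),(6,4),(8,10),(5,8),(5,6)]],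
  [[],[(1,2),(6,8),(7,10),(9,11)],[(1,3),(2,1),(6,10),(7,8),(7,11),(9,6)],[(1,4),(2,1),(3,2),(6,7),(6,11),(10,6)],[(1,5),(2,1),(3,2),(4,3),(7,9),(8,10),(7,11),(8,7)],[(1,6),(2,1),(3,2),(4,3),(5,7),(5,8),(5,9),(5,10)],[(1,7),(2,1),(3,2),(4,3),(5,6),(4,10),(8,11),(9,8)],[(1,8),(2,1),(3,2),(4,3),(5,10),(6,9),(4,5),(4,11)],[(1,9),(2,1),(3,2),(4,3),(5,11),(6,10),(7,4),(8,7),(8,5),(6,8)],[(1,10),(2,1),(3,2),(4,3),(5,8),(6,11),(7,6),(5,4),(9,7),(5,9)],[(1,11),(2,1),(3,2),(4,3),(5,9),(6,8),(7,5),(7,4)]],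
  [[],[(2,3),(6,11),(7,9),(8,10)],[(2,4),(3,2),(6,8),(7,6),(9,10),(9,11)],[(2,5),(3,2),(4,3),(6,10),(8,6),(9,8)],[(2,6),(3,2),(4,3),(5,7),(4,9),(8,4),(8,11),(10,8)],[(2,7),(3,2),(4,3),(5,6),(5,11),(8,5)],[(2,8),(3,2),(4,3),(5,10),(6,5),(7,11),(4,9),(6,7)],[(2,9),(3,2),(4,3),(5,11),(6,7),(6,8),(6,10),(4,6)],[(2,10),(3,2),(4,3),(5,8),(6,4),(7,9),(5,11),(7,5)],[(2,11),(3,2),(4,3),(5,9),(7,10),(5,7)]],
  [[],[(3,4),(6,9),(7,10),(8,11)],[(3,5),(4,3),(6,11),(7,8),(7,9),(10,6)],[(3,6),(4,3),(5,7),(4,10),(5,11),(9,5)],[(3,7),(4,3),(5,6),(5,8),(4,9),(5,10)],[(3,8),(4,3),(5,10),(7,4),(9,11),(5,9)],[(3,9),(4,3),(5,11),(6,5),(7,6),(8,4)],[(3,10),(4,3),(5,8),(6,7),(6,5),(4,11)],[(3,11),(4,3),(5,9),(6,4),(8,5),(8,10)]],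
  [[],[(4,5),(6,7),(8,10),(9,11)],[(4,6),(5,7),(4,5),(8,9),(8,10),(8,11)],[(4,7),(5,6),(5,4),(8,11),(9,8),(10,9)],[(4,8),(5,10),(6,11),(7,9),(4,5),(7,6)],[(4,9),(5,11),(6,8),(7,10),(6,7),(4,5)],[(4,10),(5,8),(6,9),(7,11),(5,4),(6,7)],[(4,11),(5,9),(6,10),(7,8),(7,6),(5,4)]]]

noncomputable def rig12 : List (List (ℕ × ℕ × ℕ)) := [
  [(0,0,0),(8,366,377),(7,250,245),(7,250,245),(7,250,245),(7,250,245)],
  [(8,438,429),(0,0,0),(6,250,245),(6,250,245),(6,250,245),(6,250,245)],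
  [(7,438,429),(6,366,377),(0,0,0),(6,366,377),(6,366,377),(6,366,377)],
  [(7,686,669),(6,636,603),(6,636,603),(0,0,0),(6,636,603),(6,636,603)],
  [(7,1182,1209),(6,1142,1117),(6,1142,1117),(6,1142,1117),(0,0,0),(6,1142,1117)],
  [(7,2236,2219),(6,2142,2157),(6,2142,2157),(6,2142,2157),(6,2142,2157),(0,0,0)]]

theorem K12_lt : (finalK cert12 []).all (fun c => Nat.blt c (2 ^ 12)) = true := by
  decide +kernel

theorem chain12_len : chain12.length = 5 := by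
  decide +kernel

theorem chain12_ok : chainOK 12 (maskL (finalK cert12 [])) (finalK cert12 []) 0 chain12 = true := by
  decide +kernel

theorem base12_ok : baseOK 12 5 (maskL (finalK cert12 [])) 63 5 = true := by
  decide +kernel

theorem rig12_ok : rigOK 12 (maskL (finalK cert12 [])) 63 (List.range 12)
    ((List.range 12).filter (fun p => !Nat.testBit 63 p)) rig12 = true := by
  decide +kernel

/-- The automorphism group of every Steiner system `S(5, 6, 12)` is sharply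
`5`-transitive on the points. -/
theorem aut_sharp12 {α : Type*} [Fintype α] [DecidableEq α] (hα : Fintype.card α = 12)
    {B : Set (Finset α)} (hB : Cfsg.IsSteinerSystem 5 6 B) :
    MulAction.IsMultiplyPretransitive (Cfsg.setSystemAut B) α 5 ∧
      ∀ x : Fin 5 ↪ α, MulAction.stabilizer (Cfsg.setSystemAut B) x = ⊥ :=
  aut_sharp (n := 12) (t := 5) (k := 6) (N := 132) (by norm_num) (by norm_num)
    (by decide +kernel) (by norm_num) cert12 cert12_ok K12_lt chain12_len chain12_ok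
    base12_ok rig12_ok hα hB

end Cfsg.Agent.Lib.Helper7.SC
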