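import Mathlib
import Cfsg.Prelude.Def_Sporadic_a

/-!
# Kernel-checked search certificates for uniqueness of Steiner systems

`run n t k N (2 ^ N - 1) (List.range n) nodes [] 0 0 = true` certifies that every Steiner system
`S(t, k, n)` on `Fin n` is isomorphic to one fixed system (`unique_of_cert` turns this into
`Cfsg.SetSystemIso` for any two such systems on types of cardinality `n`).

Blocks are bit masks; the state of the checker consists of the list `K` of the blocks found so
far, the number `cnt` of them and one number `inc` holding for every point `p` the set of the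
(indices of the) blocks through `p`, in the bits `N * p, …, N * p + N - 1`.
All the functions evaluated by the kernel are written with recursors and the raw operations
on `ℕ`, which the kernel evaluates much faster than compiled definitions.
-/

set_option autoImplicit false

namespace Cfsg.Agent.Lib.Helper7.SC

/-- A child of a search node. -/
inductive Kid
  | main
  | dead (w : List ℕ)
  | sym (sw : List (ℕ × ℕ))

/-- A search node: the chosen uncovered `t`-set `s`, the completion `T` of the main block, and one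
entry for every candidate block through `s`. -/
structure Node where
  s : List ℕ
  T : List ℕ
  kids : List Kid

/-! ### Raw combinators -/

noncomputable def foldR {α β : Type} (f : β → α → β) (l : List α) : β → β :=
  List.rec (motive := fun _ => β → β) (fun b => b) (fun x _ ih b => ih (f b x)) l

noncomputable def allR {α : Type} (f : α → Bool) (l : List α) : Bool :=
  List.rec (motive := fun _ => Bool) true (fun x _ ih => Bool.rec false ih (f x)) l

noncomputable def anyR {α : Type} (f : α → Bool) (l : List α) : Bool :=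
  List.rec (motive := fun _ => Bool) false (fun x _ ih => Bool.rec ih true (f x)) l

noncomputable def filterR {α : Type} (f : α → Bool) (l : List α) : List α :=
  List.rec (motive := fun _ => List α) [] (fun x _ ih => Bool.rec ih (x :: ih) (f x)) l

noncomputable def appR {α : Type} (l₁ l₂ : List α) : List α :=
  List.rec (motive := fun _ => List α) l₂ (fun x _ ih => x :: ih) l₁

noncomputable def mapConsR (y : ℕ) (L : List (List ℕ)) : List (List ℕ) :=
  List.rec (motive := fun _ => List (List ℕ)) [] (fun T _ ih => (y :: T) :: ih) L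

noncomputable def lenR {α : Type} (l : List α) : ℕ :=
  List.rec (motive := fun _ => ℕ) 0 (fun _ _ ih => Nat.succ ih) l

lemma brec_and (a b : Bool) : @Bool.rec (fun _ => Bool) false b a = (a && b) := by
  cases a <;> rfl

lemma brec_or (a b : Bool) : @Bool.rec (fun _ => Bool) b true a = (a || b) := by
  cases a <;> rfl

lemma foldR_eq {α β : Type} (f : β → α → β) (l : List α) (b : β) :
    foldR f l b = l.foldl f b := by
  induction l generalizing b with
  | nil => rfl
  | cons x l ih => exact ih (f b x)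

lemma allR_eq {α : Type} (f : α → Bool) (l : List α) : allR f l = l.all f := by
  induction l with
  | nil => rfl
  | cons x l ih =>
    show @Bool.rec (fun _ => Bool) false (allR f l) (f x) = _
    rw [List.all_cons, ih, brec_and]

lemma anyR_eq {α : Type} (f : α → Bool) (l : List α) : anyR f l = l.any f := by
  induction l with
  | nil => rfl
  | cons x l ih =>
    show @Bool.rec (fun _ => Bool) (anyR f l) true (f x) = _
    rw [List.any_cons, ih, brec_or]

lemma filterR_eq {α : Type} (f : α → Bool) (l : List α) : filterR f l = l.filter f := by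
  induction l with
  | nil => rfl
  | cons x l ih =>
    show @Bool.rec (fun _ => List α) (filterR f l) (x :: filterR f l) (f x) = _
    rw [ih]
    cases h : f x <;> simp [h]

lemma appR_eq {α : Type} (l₁ l₂ : List α) : appR l₁ l₂ = l₁ ++ l₂ := by
  induction l₁ with
  | nil => rfl
  | cons x l ih =>
    show x :: appR l l₂ = _
    rw [ih]; rfl

lemma mapConsR_eq (y : ℕ) (L : List (List ℕ)) : mapConsR y L = L.map (y :: ·) := by
  induction L with
  | nil => rfl
  | cons T L ih =>
    show (y :: T) :: mapConsR y L = _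
    rw [ih]; rfl

lemma lenR_eq {α : Type} (l : List α) : lenR l = l.length := by
  induction l with
  | nil => rfl
  | cons x l ih =>
    show Nat.succ (lenR l) = _
    rw [ih]; rfl

/-! ### Sublists of given length -/

/-- Sublists of length `r`. -/
noncomputable def subs (l : List ℕ) : ℕ → List (List ℕ) :=
  List.rec (motive := fun _ => ℕ → List (List ℕ))
    (fun r => Nat.rec (motive := fun _ => List (List ℕ)) [[]] (fun _ _ => []) r)
    (fun y _ ih r => Nat.rec (motive := fun _ => List (List ℕ)) [[]]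
      (fun r' _ => appR (mapConsR y (ih r')) (ih (Nat.succ r'))) r) l

lemma subs_nil_zero : subs [] 0 = [[]] := rfl

lemma subs_cons_zero (y : ℕ) (ys : List ℕ) : subs (y :: ys) 0 = [[]] := rfl

lemma subs_cons_succ (y : ℕ) (ys : List ℕ) (r : ℕ) :
    subs (y :: ys) (r + 1) = (subs ys r).map (y :: ·) ++ subs ys (r + 1) := by
  show appR (mapConsR y (subs ys r)) (subs ys (Nat.succ r)) = _
  rw [appR_eq, mapConsR_eq]

lemma mem_subs {T F : List ℕ} (h : T.Sublist F) : T ∈ subs F T.length := by
  induction h with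
  | slnil => simp [subs_nil_zero]
  | @cons T' F' a h ih =>
    cases T' with
    | nil => simp [subs_cons_zero]
    | cons x T'' =>
      rw [List.length_cons, subs_cons_succ]
      exact List.mem_append_right _ ih
  | @cons_cons T' F' a h ih =>
    rw [List.length_cons, subs_cons_succ]
    exact List.mem_append_left _ (List.mem_map.mpr ⟨T', ih, rfl⟩)

/-! ### Raw bit operations -/

lemma tb_lor (a b i : ℕ) : (Nat.lor a b).testBit i = (a.testBit i || b.testBit i) :=
  Nat.testBit_or a b i

lemma tb_land (a b i : ℕ) : (Nat.land a b).testBit i = (a.testBit i && b.testBit i) :=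
  Nat.testBit_and a b i

lemma tb_xor (a b i : ℕ) : (Nat.xor a b).testBit i = (a.testBit i ^^ b.testBit i) :=
  Nat.testBit_xor a b i

lemma tb_shl1 (p b : ℕ) : (Nat.shiftLeft 1 p).testBit b = decide (p = b) := by
  have h : Nat.shiftLeft 1 p = 2 ^ p := Nat.one_shiftLeft p
  rw [h, Nat.testBit_two_pow]

lemma tb_shr (a i j : ℕ) : (Nat.shiftRight a i).testBit j = a.testBit (i + j) :=
  Nat.testBit_shiftRight a

lemma land1 (m i : ℕ) : Nat.land (Nat.shiftRight m i) 1 = (m.testBit i).toNat := by
  have h : Nat.land (Nat.shiftRight m i) 1 = (Nat.shiftRight m i) % 2 := Nat.and_one_is_mod _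
  have h2 : m.testBit i = decide ((Nat.shiftRight m i) % 2 = 1) := by
    rw [← Nat.testBit_zero, tb_shr, Nat.add_zero]
  rw [h, h2]
  rcases Nat.mod_two_eq_zero_or_one (Nat.shiftRight m i) with h3 | h3 <;> rw [h3] <;> rfl

lemma ne_zero_iff_testBit (x : ℕ) : x ≠ 0 ↔ ∃ j, x.testBit j = true := by
  constructor
  · exact Nat.exists_testBit_of_ne_zero
  · rintro ⟨j, hj⟩ rfl
    simp at hj

lemma foldl_or_testBit (g : ℕ → ℕ) (l : List ℕ) (a b : ℕ) :
    (l.foldl (fun a p => Nat.lor a (Nat.shiftLeft 1 (g p))) a).testBit b = true ↔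
      a.testBit b = true ∨ ∃ p ∈ l, g p = b := by
  induction l generalizing a with
  | nil => simp
  | cons q l ih =>
    rw [List.foldl_cons, ih, tb_lor, tb_shl1]
    simp only [Bool.or_eq_true, decide_eq_true_eq, List.mem_cons, exists_eq_or_imp, or_assoc]

lemma foldl_and_testBit (g : ℕ → ℕ) (l : List ℕ) (a j : ℕ) :
    (l.foldl (fun a p => Nat.land a (g p)) a).testBit j = true ↔
      a.testBit j = true ∧ ∀ p ∈ l, (g p).testBit j = true := by
  induction l generalizing a with
  | nil => simp
  | cons q l ih =>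
    rw [List.foldl_cons, ih, tb_land]
    simp only [Bool.and_eq_true, List.mem_cons, forall_eq_or_imp, and_assoc]

/-! ### Masks -/

/-- The mask of a list of points. -/
noncomputable def maskL (l : List ℕ) : ℕ := foldR (fun a p => Nat.lor a (Nat.shiftLeft 1 p)) l 0

lemma maskL_testBit (l : List ℕ) (b : ℕ) : (maskL l).testBit b = true ↔ b ∈ l := by
  unfold maskL
  rw [foldR_eq, foldl_or_testBit (fun p => p)]
  simp

/-- The set of points `< n` of a mask. -/
def setM (n m : ℕ) : Finset (Fin n) := Finset.univ.filter (fun i => m.testBit i.val = true)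

lemma mem_setM {n m : ℕ} {i : Fin n} : i ∈ setM n m ↔ m.testBit i.val = true := by simp [setM]

lemma card_setM_maskL {n : ℕ} {l : List ℕ} (hn : l.Nodup) (hl : ∀ p ∈ l, p < n) :
    (setM n (maskL l)).card = l.length := by
  have h : (setM n (maskL l)).map Fin.valEmbedding = l.toFinset := by
    ext a
    simp only [Finset.mem_map, mem_setM, maskL_testBit, Fin.valEmbedding_apply, List.mem_toFinset]
    constructor
    · rintro ⟨i, hi, rfl⟩; exact hi
    · intro ha; exact ⟨⟨a, hl a ha⟩, ha, rfl⟩
  rw [← Finset.card_map Fin.valEmbedding, h, List.toFinset_card_of_nodup hn]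

/-- Strictly increasing, starting at least at `lo`, all entries `< n`. -/
noncomputable def incr (n : ℕ) (l : List ℕ) : ℕ → Bool :=
  List.rec (motive := fun _ => ℕ → Bool) (fun _ => true)
    (fun p _ ih lo => Bool.rec false (Bool.rec false (ih (Nat.succ p)) (Nat.blt p n))
      (Nat.ble lo p)) l

lemma incr_spec {n : ℕ} {l : List ℕ} {lo : ℕ} (h : incr n l lo = true) :
    l.Nodup ∧ ∀ p ∈ l, lo ≤ p ∧ p < n := by
  induction l generalizing lo with
  | nil => simp
  | cons p l ih =>
    have h' : @Bool.rec (fun _ => Bool) false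
        (@Bool.rec (fun _ => Bool) false (incr n l (Nat.succ p)) (Nat.blt p n)) (Nat.ble lo p)
          = true := h
    rw [brec_and, brec_and] at h'
    simp only [Bool.and_eq_true, Nat.ble_eq, Nat.blt_eq] at h'
    obtain ⟨h1, h2, h3⟩ := h'
    obtain ⟨hnd, hall⟩ := ih h3
    refine ⟨List.nodup_cons.mpr ⟨fun hp => ?_, hnd⟩, fun q hq => ?_⟩
    · have := (hall p hp).1
      omega
    · rcases List.mem_cons.mp hq with rfl | hq
      · exact ⟨h1, h2⟩
      · have := hall q hq
        exact ⟨by omega, this.2⟩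

/-! ### Incidence lanes -/

/-- AND of the lanes of the points of `w`. -/
noncomputable def covF (N M inc : ℕ) (w : List ℕ) : ℕ :=
  foldR (fun a p => Nat.land a (Nat.shiftRight inc (Nat.mul N p))) w M

lemma covF_testBit (N M inc : ℕ) (w : List ℕ) (j : ℕ) :
    (covF N M inc w).testBit j = true ↔
      M.testBit j = true ∧ ∀ p ∈ w, inc.testBit (N * p + j) = true := by
  unfold covF
  rw [foldR_eq, foldl_and_testBit (fun p => Nat.shiftRight inc (Nat.mul N p))]
  simp only [tb_shr]
  rfl

/-- `(P, Q)`: the blocks containing all points of `s`, resp. all but at most one. -/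
noncomputable def pqF (N M inc : ℕ) (s : List ℕ) : ℕ × ℕ :=
  foldR (fun (PQ : ℕ × ℕ) p =>
    (Nat.land PQ.1 (Nat.shiftRight inc (Nat.mul N p)),
     Nat.lor (Nat.land PQ.2 (Nat.shiftRight inc (Nat.mul N p))) PQ.1)) s (M, M)

lemma pq_aux (N inc : ℕ) (l : List ℕ) (P0 Q0 j : ℕ) :
    ((l.foldl (fun (PQ : ℕ × ℕ) p =>
      (Nat.land PQ.1 (Nat.shiftRight inc (Nat.mul N p)),
       Nat.lor (Nat.land PQ.2 (Nat.shiftRight inc (Nat.mul N p))) PQ.1)) (P0, Q0)).1.testBit j = true
      ↔ P0.testBit j = true ∧ ∀ p ∈ l, inc.testBit (N * p + j) = true) ∧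
    ((l.foldl (fun (PQ : ℕ × ℕ) p =>
      (Nat.land PQ.1 (Nat.shiftRight inc (Nat.mul N p)),
       Nat.lor (Nat.land PQ.2 (Nat.shiftRight inc (Nat.mul N p))) PQ.1)) (P0, Q0)).2.testBit j = true
      → (Q0.testBit j = true ∧ ∀ p ∈ l, inc.testBit (N * p + j) = true) ∨
        (P0.testBit j = true ∧ l.countP (fun p => !inc.testBit (N * p + j)) ≤ 1)) := by
  induction l generalizing P0 Q0 with
  | nil => exact ⟨by simp, fun h => Or.inl ⟨h, by simp⟩⟩
  | cons x l ih =>
    rw [List.foldl_cons]
    obtain ⟨ih1, ih2⟩ := ih (Nat.land P0 (Nat.shiftRight inc (Nat.mul N x)))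
      (Nat.lor (Nat.land Q0 (Nat.shiftRight inc (Nat.mul N x))) P0)
    have hx : (Nat.shiftRight inc (Nat.mul N x)).testBit j = inc.testBit (N * x + j) :=
      tb_shr inc _ j
    constructor
    · rw [ih1, tb_land, hx]
      simp only [Bool.and_eq_true, List.mem_cons, forall_eq_or_imp, and_assoc]
    · intro h
      rw [List.countP_cons]
      rcases ih2 h with ⟨h1, h2⟩ | ⟨h1, h2⟩
      · rw [tb_lor, tb_land, hx] at h1
        simp only [Bool.or_eq_true, Bool.and_eq_true] at h1
        rcases h1 with ⟨h3, h4⟩ | h3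
        · left
          exact ⟨h3, fun p hp => by
            rcases List.mem_cons.mp hp with rfl | hp
            · exact h4
            · exact h2 p hp⟩
        · right
          refine ⟨h3, ?_⟩
          have h0 : l.countP (fun p => !inc.testBit (N * p + j)) = 0 := by
            rw [List.countP_eq_zero]
            intro a ha
            simp [h2 a ha]
          rw [h0]
          split <;> omega
      · rw [tb_land, hx] at h1
        simp only [Bool.and_eq_true] at h1
        right
        refine ⟨h1.1, ?_⟩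
        simp [h1.2, h2]

lemma pqF_fst (N M inc : ℕ) (s : List ℕ) (j : ℕ) :
    (pqF N M inc s).1.testBit j = true ↔
      M.testBit j = true ∧ ∀ p ∈ s, inc.testBit (N * p + j) = true := by
  unfold pqF
  rw [foldR_eq]
  exact (pq_aux N inc s M M j).1

lemma pqF_snd (N M inc : ℕ) (s : List ℕ) (j : ℕ) (h : (pqF N M inc s).2.testBit j = true) :
    M.testBit j = true ∧ s.countP (fun p => !inc.testBit (N * p + j)) ≤ 1 := by
  unfold pqF at h
  rw [foldR_eq] at h
  rcases (pq_aux N inc s M M j).2 h with ⟨h1, h2⟩ | h1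
  · refine ⟨h1, ?_⟩
    have h0 : s.countP (fun p => !inc.testBit (N * p + j)) = 0 := by
      rw [List.countP_eq_zero]
      intro a ha
      simp [h2 a ha]
    omega
  · exact h1

/-- The points that can still be added to `s`. -/
noncomputable def fList (N inc Q sm : ℕ) (pts : List ℕ) : List ℕ :=
  filterR (fun y => Bool.rec false (Nat.beq (Nat.land (Nat.shiftRight sm y) 1) 0)
    (Nat.beq (Nat.land (Nat.shiftRight inc (Nat.mul N y)) Q) 0)) pts

lemma mem_fList {N inc Q sm : ℕ} {pts : List ℕ} {y : ℕ} :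
    y ∈ fList N inc Q sm pts ↔
      y ∈ pts ∧ Nat.land (Nat.shiftRight inc (Nat.mul N y)) Q = 0 ∧ sm.testBit y = false := by
  unfold fList
  rw [filterR_eq, List.mem_filter, brec_and, land1]
  simp only [Bool.and_eq_true, Nat.beq_eq]
  cases sm.testBit y <;> simp

/-! ### Transpositions -/

/-- Swap two bits of a mask. -/
noncomputable def swapBits (m : ℕ) (ij : ℕ × ℕ) : ℕ :=
  Bool.rec (Nat.xor m (Nat.lor (Nat.shiftLeft 1 ij.1) (Nat.shiftLeft 1 ij.2))) m
    (Nat.beq (Nat.land (Nat.shiftRight m ij.1) 1) (Nat.land (Nat.shiftRight m ij.2) 1))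

lemma swapBits_testBit (m i j q : ℕ) :
    (swapBits m (i, j)).testBit q = m.testBit (if q = i then j else if q = j then i else q) := by
  unfold swapBits
  simp only [land1]
  cases hi : m.testBit i <;> cases hj : m.testBit j
  · show m.testBit q = _
    split_ifs with h1 h2
    · rw [h1, hi, hj]
    · rw [h2, hj, hi]
    · rfl
  · show (Nat.xor m (Nat.lor (Nat.shiftLeft 1 i) (Nat.shiftLeft 1 j))).testBit q = _
    rw [tb_xor, tb_lor, tb_shl1, tb_shl1]
    split_ifs with h1 h2
    · subst h1; simp [hi, hj]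
    · subst h2; simp [hi, hj]
    · simp [Ne.symm h1, Ne.symm h2]
  · show (Nat.xor m (Nat.lor (Nat.shiftLeft 1 i) (Nat.shiftLeft 1 j))).testBit q = _
    rw [tb_xor, tb_lor, tb_shl1, tb_shl1]
    split_ifs with h1 h2
    · subst h1; simp [hi, hj]
    · subst h2; simp [hi, hj]
    · simp [Ne.symm h1, Ne.symm h2]
  · show m.testBit q = _
    split_ifs with h1 h2
    · rw [h1, hi, hj]
    · rw [h2, hj, hi]
    · rfl

/-- Apply a list of transpositions to a mask. -/
noncomputable def applySw (sw : List (ℕ × ℕ)) (m : ℕ) : ℕ := foldR swapBits sw m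

noncomputable def swOK (n : ℕ) (sw : List (ℕ × ℕ)) : Bool :=
  allR (fun ij : ℕ × ℕ => Bool.rec false (Nat.blt ij.2 n) (Nat.blt ij.1 n)) sw

/-- The transposition of `Fin n` given by a pair of numbers. -/
noncomputable def swapPerm (n : ℕ) (ij : ℕ × ℕ) : Equiv.Perm (Fin n) :=
  if h : ij.1 < n ∧ ij.2 < n then Equiv.swap ⟨ij.1, h.1⟩ ⟨ij.2, h.2⟩ else 1

/-- The permutation of `Fin n` given by a list of transpositions (the first one acts first). -/
noncomputable def permOf (n : ℕ) : List (ℕ × ℕ) → Equiv.Perm (Fin n)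
  | [] => 1
  | ij :: sw => permOf n sw * swapPerm n ij

lemma setM_swapBits {n : ℕ} (m : ℕ) (ij : ℕ × ℕ) (h : ij.1 < n ∧ ij.2 < n) :
    setM n (swapBits m ij) = (setM n m).map (swapPerm n ij).toEmbedding := by
  obtain ⟨i, j⟩ := ij
  ext q
  rw [Finset.mem_map_equiv, mem_setM, mem_setM, swapBits_testBit]
  simp only [swapPerm, dif_pos h, Equiv.symm_swap, Equiv.swap_apply_def]
  have hv : ((if q = (⟨i, h.1⟩ : Fin n) then (⟨j, h.2⟩ : Fin n)
      else if q = (⟨j, h.2⟩ : Fin n) then (⟨i, h.1⟩ : Fin n) else q) : Fin n).val =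
      if q.val = i then j else if q.val = j then i else q.val := by
    split_ifs with h1 h2 h3 h4 h5 h6 <;> simp_all [Fin.ext_iff]
  rw [hv]

lemma setM_applySw {n : ℕ} (sw : List (ℕ × ℕ)) (h : swOK n sw = true) (m : ℕ) :
    setM n (applySw sw m) = (setM n m).map (permOf n sw).toEmbedding := by
  induction sw generalizing m with
  | nil =>
    show setM n m = (setM n m).map (1 : Equiv.Perm (Fin n)).toEmbedding
    ext a
    rw [Finset.mem_map_equiv]
    rfl
  | cons ij sw ih =>
    unfold swOK at h
    rw [allR_eq, List.all_cons, brec_and] at h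
    simp only [Bool.and_eq_true, Nat.blt_eq] at h
    have h2 : swOK n sw = true := by unfold swOK; rw [allR_eq]; exact h.2
    show setM n (applySw sw (swapBits m ij)) = _
    rw [ih h2, setM_swapBits m ij h.1, Finset.map_map]
    congr 1

/-! ### The checker -/

/-- Check of one child (`sm`: mask of `s`, `ms`: mask of the main block). -/
noncomputable def kidOK (n t N M : ℕ) (K : List ℕ) (inc sm ms : ℕ) (T : List ℕ) (kid : Kid) :
    Bool :=
  Kid.rec (motive := fun _ => Bool)
    (Nat.beq (Nat.lor sm (maskL T)) ms)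
    (fun w => incr n w 0 && Nat.beq (lenR w) t
      && Nat.beq (Nat.land (maskL w) (Nat.lor sm (maskL T))) (maskL w)
      && !(Nat.beq (covF N M inc w) 0))
    (fun sw => swOK n sw && Nat.beq (applySw sw ms) (Nat.lor sm (maskL T))
      && allR (fun c => anyR (fun c' => Nat.beq (applySw sw c) c') K) K) kid

noncomputable def checkKids (g : List ℕ → Kid → Bool) (cs : List (List ℕ)) : List Kid → Bool :=
  List.rec (motive := fun _ => List Kid → Bool)
    (fun ks => List.rec (motive := fun _ => Bool) true (fun _ _ _ => false) ks)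
    (fun T _ ih ks => List.rec (motive := fun _ => Bool) false
      (fun kid ks' _ => Bool.rec false (ih ks') (g T kid)) ks) cs

lemma checkKids_mem {g : List ℕ → Kid → Bool} {cs : List (List ℕ)} {ks : List Kid}
    (h : checkKids g cs ks = true) {T : List ℕ} (hT : T ∈ cs) :
    ∃ kid ∈ ks, g T kid = true := by
  induction cs generalizing ks with
  | nil => simp at hT
  | cons T' cs ih =>
    cases ks with
    | nil => exact absurd h (by show ¬ (false = true); simp)
    | cons kid ks =>
      have h' : @Bool.rec (fun _ => Bool) false (checkKids g cs ks) (g T' kid) = true := h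
      rw [brec_and, Bool.and_eq_true] at h'
      rcases List.mem_cons.mp hT with rfl | hT
      · exact ⟨kid, List.mem_cons_self .., h'.1⟩
      · obtain ⟨kid', hk, hg⟩ := ih h'.2 hT
        exact ⟨kid', List.mem_cons_of_mem _ hk, hg⟩

/-- Check of one node. -/
noncomputable def nodeOK (n t k N M : ℕ) (pts : List ℕ) (K : List ℕ) (inc cnt : ℕ) (nd : Node) :
    Bool :=
  incr n nd.s 0 && Nat.beq (lenR nd.s) t
  && incr n nd.T 0 && Nat.beq (Nat.add (lenR nd.T) t) k
  && Nat.beq (Nat.land (maskL nd.s) (maskL nd.T)) 0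
  && Nat.blt cnt N
  && Nat.beq (pqF N M inc nd.s).1 0
  && checkKids (kidOK n t N M K inc (maskL nd.s) (Nat.lor (maskL nd.s) (maskL nd.T)))
      (subs (fList N inc (pqF N M inc nd.s).2 (maskL nd.s) pts) (Nat.sub k t)) nd.kids

/-- Add the block number `cnt` with point list `l` to the incidence lanes. -/
noncomputable def spread (N cnt : ℕ) (l : List ℕ) (inc : ℕ) : ℕ :=
  foldR (fun a p => Nat.lor a (Nat.shiftLeft 1 (Nat.add (Nat.mul N p) cnt))) l inc

/-- The checker. -/
noncomputable def run (n t k N M : ℕ) (pts : List ℕ) : List Node → List ℕ → ℕ → ℕ → Bool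
  | [], _, _, cnt => Nat.beq cnt N
  | nd :: rest, K, inc, cnt =>
    nodeOK n t k N M pts K inc cnt nd &&
      run n t k N M pts rest (Nat.lor (maskL nd.s) (maskL nd.T) :: K)
        (spread N cnt nd.T (spread N cnt nd.s inc)) (Nat.succ cnt)

/-- The block list at the end of the run. -/
noncomputable def finalK : List Node → List ℕ → List ℕ
  | [], K => K
  | nd :: rest, K => finalK rest (Nat.lor (maskL nd.s) (maskL nd.T) :: K)

/-- The set system given by a list of masks. -/
def finalSet (n : ℕ) (K : List ℕ) : Set (Finset (Fin n)) := {x | ∃ c ∈ K, setM n c = x}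

/-! ### Invariants -/

/-- Well-formedness of the checker state. -/
structure WF (n N : ℕ) (K : List ℕ) (inc cnt : ℕ) : Prop where
  cnt_eq : cnt = K.length
  cnt_le : cnt ≤ N
  lane : ∀ p < n, ∀ j < N,
    (inc.testBit (N * p + j) = true ↔ ∃ c, K.reverse[j]? = some c ∧ c.testBit p = true)
  nodup : (K.map (setM n)).Nodup

/-- The point list `w` is contained in a block of `K`. -/
def Cov (K : List ℕ) (w : List ℕ) : Prop := ∃ c ∈ K, ∀ p ∈ w, c.testBit p = true

lemma lane_cov {n N : ℕ} {K : List ℕ} {inc cnt : ℕ} (hWF : WF n N K inc cnt)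
    {w : List ℕ} (hw : w ≠ []) (hlt : ∀ p ∈ w, p < n) :
    (∃ j < N, ∀ p ∈ w, inc.testBit (N * p + j) = true) ↔ Cov K w := by
  constructor
  · rintro ⟨j, hjN, hj⟩
    obtain ⟨p0, hp0⟩ := List.exists_mem_of_ne_nil w hw
    obtain ⟨c, hc, -⟩ := (hWF.lane p0 (hlt p0 hp0) j hjN).mp (hj p0 hp0)
    refine ⟨c, List.mem_reverse.mp (List.mem_of_getElem? hc), fun p hp => ?_⟩
    obtain ⟨c', hc', hpc⟩ := (hWF.lane p (hlt p hp) j hjN).mp (hj p hp)
    rw [hc] at hc'
    cases hc'
    exact hpc
  · rintro ⟨c, hc, hall⟩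
    obtain ⟨j, hj⟩ := List.getElem?_of_mem (List.mem_reverse.mpr hc)
    have hjlt : j < N := by
      obtain ⟨hlt', -⟩ := List.getElem?_eq_some_iff.mp hj
      rw [List.length_reverse, ← hWF.cnt_eq] at hlt'
      exact lt_of_lt_of_le hlt' hWF.cnt_le
    exact ⟨j, hjlt, fun p hp => (hWF.lane p (hlt p hp) j hjlt).mpr ⟨c, hj, hall p hp⟩⟩

lemma ne_zero_iff_Cov {n N M : ℕ} {K : List ℕ} {inc cnt : ℕ}
    (hM : ∀ j, M.testBit j = decide (j < N)) (hWF : WF n N K inc cnt) {X : ℕ} {w : List ℕ}
    (hX : ∀ j, X.testBit j = true ↔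
      (M.testBit j = true ∧ ∀ p ∈ w, inc.testBit (N * p + j) = true))
    (hw : w ≠ []) (hlt : ∀ p ∈ w, p < n) : X ≠ 0 ↔ Cov K w := by
  rw [ne_zero_iff_testBit, ← lane_cov hWF hw hlt]
  constructor
  · rintro ⟨j, hj⟩
    rw [hX, hM] at hj
    exact ⟨j, by simpa using hj.1, hj.2⟩
  · rintro ⟨j, hjN, hj⟩
    exact ⟨j, by rw [hX, hM]; exact ⟨by simpa using hjN, hj⟩⟩

lemma lane_inj {N q c p j : ℕ} (hc : c < N) (hj : j < N) (h : N * q + c = N * p + j) :
    q = p ∧ c = j := by
  have hN : 0 < N := by omega
  have h1 : (N * q + c) / N = q := by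
    rw [Nat.mul_add_div hN, Nat.div_eq_of_lt hc, Nat.add_zero]
  have h2 : (N * p + j) / N = p := by
    rw [Nat.mul_add_div hN, Nat.div_eq_of_lt hj, Nat.add_zero]
  have h3 : q = p := by rw [← h1, ← h2, h]
  subst h3
  exact ⟨rfl, by omega⟩

lemma wf_step {n N : ℕ} {K : List ℕ} {inc cnt : ℕ} (hWF : WF n N K inc cnt) (hcnt : cnt < N)
    {s T : List ℕ} (hslt : ∀ p ∈ s, p < n) (hsNC : ¬ Cov K s) :
    WF n N (Nat.lor (maskL s) (maskL T) :: K) (spread N cnt T (spread N cnt s inc))
      (Nat.succ cnt) := by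
  have hbit : ∀ b, (spread N cnt T (spread N cnt s inc)).testBit b = true ↔
      inc.testBit b = true ∨ (∃ p ∈ s, N * p + cnt = b) ∨ (∃ p ∈ T, N * p + cnt = b) := by
    intro b
    unfold spread
    rw [foldR_eq, foldR_eq, foldl_or_testBit (fun p => Nat.add (Nat.mul N p) cnt),
      foldl_or_testBit (fun p => Nat.add (Nat.mul N p) cnt), or_assoc]
    rfl
  refine ⟨?_, ?_, ?_, ?_⟩
  · simp [hWF.cnt_eq]
  · exact hcnt
  · intro p hp j hj
    rw [hbit, List.reverse_cons, List.getElem?_append, List.length_reverse, ← hWF.cnt_eq]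
    have hl : ∀ l : List ℕ, (∃ q ∈ l, N * q + cnt = N * p + j) ↔ (p ∈ l ∧ j = cnt) := by
      intro l
      constructor
      · rintro ⟨q, hq, h⟩
        obtain ⟨rfl, rfl⟩ := lane_inj hcnt hj h
        exact ⟨hq, rfl⟩
      · rintro ⟨hq, rfl⟩
        exact ⟨p, hq, rfl⟩
    rw [hl, hl, hWF.lane p hp j hj]
    have hnone : ¬ j < cnt → ¬ ∃ c, K.reverse[j]? = some c ∧ c.testBit p = true := by
      rintro hjc ⟨c, hc, -⟩
      obtain ⟨hlt', -⟩ := List.getElem?_eq_some_iff.mp hc
      rw [List.length_reverse, ← hWF.cnt_eq] at hlt'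
      exact hjc hlt'
    by_cases hjc : j < cnt
    · rw [if_pos hjc]
      constructor
      · rintro (h | h | h)
        · exact h
        · omega
        · omega
      · exact Or.inl
    · rw [if_neg hjc]
      by_cases hjc2 : j = cnt
      · subst hjc2
        have hm : (Nat.lor (maskL s) (maskL T)).testBit p = true ↔ p ∈ s ∨ p ∈ T := by
          rw [tb_lor, Bool.or_eq_true, maskL_testBit, maskL_testBit]
        simp only [Nat.sub_self, List.getElem?_cons_zero, Option.some.injEq, exists_eq_left',
          and_true, hm]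
        constructor
        · rintro (h | h | h)
          · exact absurd h (hnone hjc)
          · exact Or.inl h
          · exact Or.inr h
        · rintro (h | h)
          · exact Or.inr (Or.inl h)
          · exact Or.inr (Or.inr h)
      · have hn : [Nat.lor (maskL s) (maskL T)][j - cnt]? = none := by
          rw [List.getElem?_eq_none_iff]
          simp only [List.length_cons, List.length_nil]
          omega
        rw [hn]
        constructor
        · rintro (h | h | h)
          · exact absurd h (hnone hjc)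
          · exact absurd h.2 hjc2
          · exact absurd h.2 hjc2
        · rintro ⟨c, hc, -⟩
          exact absurd hc (by simp)
  · rw [List.map_cons, List.nodup_cons]
    refine ⟨fun hmem => hsNC ?_, hWF.nodup⟩
    obtain ⟨c, hc, hceq⟩ := List.mem_map.mp hmem
    refine ⟨c, hc, fun p hp => ?_⟩
    have hpm : (⟨p, hslt p hp⟩ : Fin n) ∈ setM n (Nat.lor (maskL s) (maskL T)) := by
      rw [mem_setM, tb_lor, Bool.or_eq_true, maskL_testBit]
      exact Or.inl hp
    rw [← hceq] at hpm
    exact mem_setM.mp hpm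

/-! ### Steiner systems -/

/-- Pulling a Steiner system back along a bijection. -/
lemma steiner_comap {α β : Type*} {t k : ℕ} (e : α ≃ β) {B : Set (Finset β)}
    (hB : Cfsg.IsSteinerSystem t k B) :
    Cfsg.IsSteinerSystem t k {x : Finset α | x.map e.toEmbedding ∈ B} := by
  refine ⟨fun x hx => by simpa using hB.1 _ hx, fun s hs => ?_⟩
  obtain ⟨b, ⟨hb, hsb⟩, huniq⟩ := hB.2 (s.map e.toEmbedding) (by simpa using hs)
  have hmm : (b.map e.symm.toEmbedding).map e.toEmbedding = b := by
    ext a; simp
  refine ⟨b.map e.symm.toEmbedding, ⟨?_, ?_⟩, ?_⟩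
  · show (b.map e.symm.toEmbedding).map e.toEmbedding ∈ B
    rw [hmm]; exact hb
  · intro a ha
    have := hsb (Finset.mem_map_of_mem e.toEmbedding ha)
    simpa using this
  · rintro y ⟨hy, hsy⟩
    have := huniq (y.map e.toEmbedding) ⟨hy, Finset.map_subset_map.mpr hsy⟩
    rw [← this]
    ext a; simp

lemma steiner_eq_of_inter {α : Type*} [DecidableEq α] {t k : ℕ} {B : Set (Finset α)}
    (hB : Cfsg.IsSteinerSystem t k B) {c b : Finset α} (hc : c ∈ B) (hb : b ∈ B)
    (h : t ≤ (c ∩ b).card) : c = b := by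
  obtain ⟨W, hW, hWc⟩ := Finset.exists_subset_card_eq h
  obtain ⟨b', -, huniq⟩ := hB.2 W hWc
  exact (huniq c ⟨hc, fun a ha => (Finset.mem_inter.mp (hW ha)).1⟩).trans
    (huniq b ⟨hb, fun a ha => (Finset.mem_inter.mp (hW ha)).2⟩).symm

/-! ### Soundness of one node -/

lemma nodeOK_facts {n t k N M : ℕ} {pts : List ℕ} {K : List ℕ} {inc cnt : ℕ} {nd : Node}
    (hok : nodeOK n t k N M pts K inc cnt nd = true) :
    (nd.s.Nodup ∧ ∀ p ∈ nd.s, p < n) ∧ nd.s.length = t ∧
    (nd.T.Nodup ∧ ∀ p ∈ nd.T, p < n) ∧ nd.T.length + t = k ∧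
    Nat.land (maskL nd.s) (maskL nd.T) = 0 ∧ cnt < N ∧ (pqF N M inc nd.s).1 = 0 ∧
    checkKids (kidOK n t N M K inc (maskL nd.s) (Nat.lor (maskL nd.s) (maskL nd.T)))
      (subs (fList N inc (pqF N M inc nd.s).2 (maskL nd.s) pts) (Nat.sub k t)) nd.kids = true := by
  unfold nodeOK at hok
  simp only [Bool.and_eq_true, Nat.beq_eq, Nat.blt_eq, lenR_eq] at hok
  obtain ⟨⟨⟨⟨⟨⟨⟨h1, h2⟩, h3⟩, h4⟩, h5⟩, h6⟩, h7⟩, h8⟩ := hok
  exact ⟨⟨(incr_spec h1).1, fun p hp => ((incr_spec h1).2 p hp).2⟩, h2,
    ⟨(incr_spec h3).1, fun p hp => ((incr_spec h3).2 p hp).2⟩, h4, h5, h6, h7, h8⟩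

lemma node_sNC {n t k N M : ℕ} {pts : List ℕ} (ht : 1 ≤ t)
    (hM : ∀ j, M.testBit j = decide (j < N)) {K : List ℕ} {inc cnt : ℕ}
    (hWF : WF n N K inc cnt) {nd : Node} (hok : nodeOK n t k N M pts K inc cnt nd = true) :
    ¬ Cov K nd.s := by
  obtain ⟨⟨hsnd, hslt⟩, hslen, -, -, -, -, hP, -⟩ := nodeOK_facts hok
  have hs_ne : nd.s ≠ [] := by
    intro h
    rw [h] at hslen
    simp at hslen
    omega
  exact fun hC => (ne_zero_iff_Cov hM hWF (pqF_fst N M inc nd.s) hs_ne hslt).mpr hC hP

lemma node_wf {n t k N M : ℕ} {pts : List ℕ} (ht : 1 ≤ t)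
    (hM : ∀ j, M.testBit j = decide (j < N)) {K : List ℕ} {inc cnt : ℕ}
    (hWF : WF n N K inc cnt) {nd : Node} (hok : nodeOK n t k N M pts K inc cnt nd = true) :
    WF n N (Nat.lor (maskL nd.s) (maskL nd.T) :: K)
      (spread N cnt nd.T (spread N cnt nd.s inc)) (Nat.succ cnt) := by
  obtain ⟨⟨hsnd, hslt⟩, hslen, -, -, -, hcnt, hP, -⟩ := nodeOK_facts hok
  exact wf_step hWF hcnt hslt (node_sNC ht hM hWF hok)

lemma node_step {n t k N M : ℕ} {pts : List ℕ} (ht : 1 ≤ t)
    (hM : ∀ j, M.testBit j = decide (j < N)) (hpts : ∀ y, y ∈ pts ↔ y < n) (hptsnd : pts.Nodup)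
    {K : List ℕ} {inc cnt : ℕ} (hWF : WF n N K inc cnt) {nd : Node}
    (hok : nodeOK n t k N M pts K inc cnt nd = true)
    (P : Set (Finset (Fin n)) → Prop)
    (hsym : ∀ (B : Set (Finset (Fin n))) (sw : List (ℕ × ℕ)), Kid.sym sw ∈ nd.kids →
      P {x | x.map (permOf n sw).toEmbedding ∈ B} → P B)
    (ih : ∀ B, Cfsg.IsSteinerSystem t k B →
      (∀ c ∈ Nat.lor (maskL nd.s) (maskL nd.T) :: K, setM n c ∈ B) → P B)
    (B : Set (Finset (Fin n))) (hB : Cfsg.IsSteinerSystem t k B)
    (hK : ∀ c ∈ K, setM n c ∈ B) : P B := by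
  have hsNC := node_sNC ht hM hWF hok
  obtain ⟨⟨hsnd, hslt⟩, hslen, ⟨hTnd, hTlt⟩, hTlen, hdisj, hcnt, hP, hkids⟩ := nodeOK_facts hok
  have hScard : (setM n (maskL nd.s)).card = t := by rw [card_setM_maskL hsnd hslt, hslen]
  obtain ⟨b, ⟨hbB, hSb⟩, -⟩ := hB.2 (setM n (maskL nd.s)) hScard
  have hbcard : b.card = k := hB.1 b hbB
  have hsb : ∀ p (hp : p ∈ nd.s), (⟨p, hslt p hp⟩ : Fin n) ∈ b := fun p hp =>
    hSb (mem_setM.mpr ((maskL_testBit _ _).mpr hp))
  -- a block of `K` sharing `t` points with `b` would contain `s`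
  have key : ∀ c ∈ K, t ≤ (setM n c ∩ b).card → False := by
    intro c hc hcard
    have hcb := steiner_eq_of_inter hB (hK c hc) hbB hcard
    exact hsNC ⟨c, hc, fun p hp => by
      have : (⟨p, hslt p hp⟩ : Fin n) ∈ setM n c := by rw [hcb]; exact hsb p hp
      exact mem_setM.mp this⟩
  classical
  -- every point of `b` outside `s` survives the filter
  have hF_mem : ∀ i : Fin n, i ∈ b → i.val ∉ nd.s →
      i.val ∈ fList N inc (pqF N M inc nd.s).2 (maskL nd.s) pts := by
    intro i hib his
    rw [mem_fList]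
    refine ⟨(hpts _).mpr i.isLt, ?_, ?_⟩
    · by_contra hne
      obtain ⟨j, hj⟩ := (ne_zero_iff_testBit _).mp hne
      rw [tb_land, Bool.and_eq_true, tb_shr] at hj
      obtain ⟨hj1, hj2⟩ := hj
      obtain ⟨hjM, hcount⟩ := pqF_snd N M inc nd.s j hj2
      have hjN : j < N := by rw [hM] at hjM; simpa using hjM
      obtain ⟨c, hc, hci⟩ := (hWF.lane i.val i.isLt j hjN).mp hj1
      have hcK : c ∈ K := List.mem_reverse.mp (List.mem_of_getElem? hc)
      have hbad : ∀ p ∈ nd.s, (inc.testBit (N * p + j) = true ↔ c.testBit p = true) := by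
        intro p hp
        rw [hWF.lane p (hslt p hp) j hjN]
        constructor
        · rintro ⟨c', hc', h⟩
          rw [hc] at hc'
          cases hc'
          exact h
        · intro h
          exact ⟨c, hc, h⟩
      apply key c hcK
      have h1 : (setM n (maskL nd.s) \ setM n c).card ≤ 1 := by
        have hsub : (setM n (maskL nd.s) \ setM n c).map Fin.valEmbedding ⊆
            (nd.s.filter (fun p => !inc.testBit (N * p + j))).toFinset := by
          intro a ha
          obtain ⟨q, hq, rfl⟩ := Finset.mem_map.mp ha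
          rw [Finset.mem_sdiff, mem_setM, mem_setM, maskL_testBit] at hq
          rw [List.mem_toFinset, List.mem_filter]
          refine ⟨hq.1, ?_⟩
          have hb2 := hbad q.val hq.1
          simp only [Fin.valEmbedding_apply, Bool.not_eq_true']
          by_contra hcon
          rw [Bool.not_eq_false] at hcon
          exact hq.2 (hb2.mp hcon)
        calc (setM n (maskL nd.s) \ setM n c).card
            = ((setM n (maskL nd.s) \ setM n c).map Fin.valEmbedding).card :=
              (Finset.card_map _).symm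
          _ ≤ (nd.s.filter (fun p => !inc.testBit (N * p + j))).toFinset.card :=
              Finset.card_le_card hsub
          _ ≤ (nd.s.filter (fun p => !inc.testBit (N * p + j))).length :=
              List.toFinset_card_le _
          _ = nd.s.countP (fun p => !inc.testBit (N * p + j)) :=
              (List.countP_eq_length_filter).symm
          _ ≤ 1 := hcount
      have h2 := Finset.card_inter_add_card_sdiff (setM n (maskL nd.s)) (setM n c)
      have h3 : insert i (setM n (maskL nd.s) ∩ setM n c) ⊆ setM n c ∩ b := by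
        intro q hq
        rcases Finset.mem_insert.mp hq with rfl | hq
        · exact Finset.mem_inter.mpr ⟨mem_setM.mpr hci, hib⟩
        · exact Finset.mem_inter.mpr ⟨(Finset.mem_inter.mp hq).2,
            hSb (Finset.mem_inter.mp hq).1⟩
      have h4 : i ∉ setM n (maskL nd.s) ∩ setM n c := by
        intro h
        exact his ((maskL_testBit _ _).mp (mem_setM.mp (Finset.mem_inter.mp h).1))
      have h5 := Finset.card_le_card h3
      rw [Finset.card_insert_of_notMem h4] at h5
      omega
    · cases h : (maskL nd.s).testBit i.val with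
      | false => rfl
      | true => exact absurd ((maskL_testBit _ _).mp h) his
  have hF_props : ∀ y ∈ fList N inc (pqF N M inc nd.s).2 (maskL nd.s) pts, y < n ∧ y ∉ nd.s := by
    intro y hy
    rw [mem_fList] at hy
    refine ⟨(hpts y).mp hy.1, fun hys => ?_⟩
    have h := (maskL_testBit nd.s y).mpr hys
    rw [hy.2.2] at h
    exact absurd h (by simp)
  have hFnd : (fList N inc (pqF N M inc nd.s).2 (maskL nd.s) pts).Nodup := by
    unfold fList
    rw [filterR_eq]
    exact hptsnd.filter _
  obtain ⟨Tl, hTl_sub, hTl_mem⟩ : ∃ Tl : List ℕ,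
      Tl.Sublist (fList N inc (pqF N M inc nd.s).2 (maskL nd.s) pts) ∧
      ∀ y, y ∈ Tl ↔ y ∈ fList N inc (pqF N M inc nd.s).2 (maskL nd.s) pts ∧
        ∃ h : y < n, (⟨y, h⟩ : Fin n) ∈ b :=
    ⟨(fList N inc (pqF N M inc nd.s).2 (maskL nd.s) pts).filter
      (fun y => decide (∃ h : y < n, (⟨y, h⟩ : Fin n) ∈ b)), List.filter_sublist,
      fun y => by rw [List.mem_filter, decide_eq_true_eq]⟩
  have hb_eq : setM n (Nat.lor (maskL nd.s) (maskL Tl)) = b := by
    ext i
    rw [mem_setM, tb_lor, Bool.or_eq_true, maskL_testBit, maskL_testBit]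
    constructor
    · rintro (h | h)
      · exact hsb _ h
      · obtain ⟨-, hlt, hmem⟩ := (hTl_mem _).mp h
        exact hmem
    · intro hib
      by_cases his : i.val ∈ nd.s
      · exact Or.inl his
      · exact Or.inr ((hTl_mem _).mpr ⟨hF_mem i hib his, i.isLt, hib⟩)
  have hsT_nd : (nd.s ++ Tl).Nodup := by
    refine List.Nodup.append hsnd (hFnd.sublist hTl_sub) ?_
    intro a has haT
    exact (hF_props a (hTl_sub.subset haT)).2 has
  have hsT_lt : ∀ p ∈ nd.s ++ Tl, p < n := by
    intro p hp
    rcases List.mem_append.mp hp with h | h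
    · exact hslt p h
    · exact (hF_props p (hTl_sub.subset h)).1
  have hmask_app : setM n (Nat.lor (maskL nd.s) (maskL Tl)) = setM n (maskL (nd.s ++ Tl)) := by
    ext i
    rw [mem_setM, mem_setM, tb_lor, Bool.or_eq_true, maskL_testBit, maskL_testBit,
      maskL_testBit, List.mem_append]
  have hTlen : Tl.length = k - t := by
    have h := card_setM_maskL hsT_nd hsT_lt
    rw [← hmask_app, hb_eq, hbcard, List.length_append, hslen] at h
    omega
  have hTmem : Tl ∈ subs (fList N inc (pqF N M inc nd.s).2 (maskL nd.s) pts) (Nat.sub k t) := by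
    have h := mem_subs hTl_sub
    rw [hTlen] at h
    exact h
  obtain ⟨kid, hkidmem, hkid⟩ := checkKids_mem hkids hTmem
  cases kid with
  | main =>
    have hm : Nat.lor (maskL nd.s) (maskL Tl) = Nat.lor (maskL nd.s) (maskL nd.T) := by
      have h : Nat.beq (Nat.lor (maskL nd.s) (maskL Tl))
          (Nat.lor (maskL nd.s) (maskL nd.T)) = true := hkid
      exact Nat.eq_of_beq_eq_true h
    apply ih B hB
    intro c hc
    rcases List.mem_cons.mp hc with rfl | hc
    · rw [← hm, hb_eq]; exact hbB
    · exact hK c hc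
  | dead w =>
    exfalso
    have hkid' : (incr n w 0 && Nat.beq (lenR w) t
      && Nat.beq (Nat.land (maskL w) (Nat.lor (maskL nd.s) (maskL Tl))) (maskL w)
      && !(Nat.beq (covF N M inc w) 0)) = true := hkid
    simp only [Bool.and_eq_true, Nat.beq_eq, lenR_eq, Bool.not_eq_true'] at hkid'
    obtain ⟨⟨⟨hw1, hw2⟩, hw3⟩, hw4⟩ := hkid'
    obtain ⟨hwnd, hwlt⟩ := incr_spec hw1
    have hwlt' : ∀ p ∈ w, p < n := fun p hp => (hwlt p hp).2
    have hw_ne : w ≠ [] := by
      intro h
      rw [h] at hw2
      simp at hw2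
      omega
    have hwC : Cov K w :=
      (ne_zero_iff_Cov hM hWF (covF_testBit N M inc w) hw_ne hwlt').mp (by
        intro h0
        rw [h0] at hw4
        exact absurd hw4 (by decide))
    obtain ⟨c, hcK, hwc⟩ := hwC
    apply key c hcK
    have hsub : setM n (maskL w) ⊆ setM n c ∩ b := by
      intro i hi
      have hiw := (maskL_testBit _ _).mp (mem_setM.mp hi)
      refine Finset.mem_inter.mpr ⟨mem_setM.mpr (hwc _ hiw), ?_⟩
      rw [← hb_eq, mem_setM]
      have h := congrArg (fun x => x.testBit i.val) hw3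
      simp only [tb_land] at h
      rw [(maskL_testBit w i.val).mpr hiw] at h
      simpa using h
    have h := Finset.card_le_card hsub
    rw [card_setM_maskL hwnd hwlt', hw2] at h
    exact h
  | sym sw =>
    have hkid' : (swOK n sw
      && Nat.beq (applySw sw (Nat.lor (maskL nd.s) (maskL nd.T)))
        (Nat.lor (maskL nd.s) (maskL Tl))
      && allR (fun c => anyR (fun c' => Nat.beq (applySw sw c) c') K) K) = true := hkid
    rw [allR_eq] at hkid'
    simp only [Bool.and_eq_true, Nat.beq_eq, List.all_eq_true, anyR_eq, List.any_eq_true]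
      at hkid'
    obtain ⟨⟨hsw, hmσ⟩, hKσ⟩ := hkid'
    apply hsym B sw hkidmem
    apply ih _ (steiner_comap (permOf n sw) hB)
    intro c hc
    show (setM n c).map (permOf n sw).toEmbedding ∈ B
    rw [← setM_applySw sw hsw]
    rcases List.mem_cons.mp hc with rfl | hc
    · rw [hmσ, hb_eq]; exact hbB
    · obtain ⟨c', hc', hceq⟩ := hKσ c hc
      rw [hceq]; exact hK c' hc'

/-! ### The end of the run and the main theorem -/

lemma leaf_eq {n t k N : ℕ} (htk : t ≤ k) (hN : N * k.choose t = n.choose t) {K : List ℕ}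
    (hnd : (K.map (setM n)).Nodup) (hlen : K.length = N) {B : Set (Finset (Fin n))}
    (hB : Cfsg.IsSteinerSystem t k B) (hK : ∀ c ∈ K, setM n c ∈ B) (x : Finset (Fin n)) :
    x ∈ B ↔ ∃ c ∈ K, setM n c = x := by
  classical
  constructor
  · intro hx
    have hKF : ∀ y ∈ (K.map (setM n)).toFinset, y ∈ B := by
      intro y hy
      obtain ⟨c, hc, rfl⟩ := List.mem_map.mp (List.mem_toFinset.mp hy)
      exact hK c hc
    have hKFcard : (K.map (setM n)).toFinset.card = N := by
      rw [List.toFinset_card_of_nodup hnd, List.length_map, hlen]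
    have hdisj : ((K.map (setM n)).toFinset : Set (Finset (Fin n))).PairwiseDisjoint
        (fun y => y.powersetCard t) := by
      intro y hy z hz hyz
      rw [Function.onFun, Finset.disjoint_left]
      intro W hWy hWz
      rw [Finset.mem_powersetCard] at hWy hWz
      obtain ⟨b', -, huniq⟩ := hB.2 W hWy.2
      exact hyz ((huniq y ⟨hKF y hy, hWy.1⟩).trans (huniq z ⟨hKF z hz, hWz.1⟩).symm)
    have hcardU : ((K.map (setM n)).toFinset.biUnion (fun y => y.powersetCard t)).card
        = n.choose t := by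
      rw [Finset.card_biUnion hdisj, Finset.sum_congr rfl (fun y hy => by
        rw [Finset.card_powersetCard, hB.1 y (hKF y hy)]), Finset.sum_const, hKFcard,
        smul_eq_mul, hN]
    have hsubU : (K.map (setM n)).toFinset.biUnion (fun y => y.powersetCard t) ⊆
        (Finset.univ : Finset (Fin n)).powersetCard t := by
      intro W hW
      obtain ⟨y, -, hWy⟩ := Finset.mem_biUnion.mp hW
      rw [Finset.mem_powersetCard] at hWy ⊢
      exact ⟨Finset.subset_univ _, hWy.2⟩
    have hU := Finset.eq_of_subset_of_card_le hsubU (by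
      rw [hcardU, Finset.card_powersetCard, Finset.card_univ, Fintype.card_fin])
    obtain ⟨W, hWx, hWcard⟩ :=
      Finset.exists_subset_card_eq (show t ≤ x.card by rw [hB.1 x hx]; exact htk)
    have hWU : W ∈ (K.map (setM n)).toFinset.biUnion (fun y => y.powersetCard t) := by
      rw [hU, Finset.mem_powersetCard]
      exact ⟨Finset.subset_univ _, hWcard⟩
    obtain ⟨y, hy, hWy⟩ := Finset.mem_biUnion.mp hWU
    rw [Finset.mem_powersetCard] at hWy
    obtain ⟨b', -, huniq⟩ := hB.2 W hWcard
    have hxy : x = y := (huniq x ⟨hx, hWx⟩).trans (huniq y ⟨hKF y hy, hWy.1⟩).symm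
    obtain ⟨c, hc, hceq⟩ := List.mem_map.mp (List.mem_toFinset.mp hy)
    exact ⟨c, hc, hceq.trans hxy.symm⟩
  · rintro ⟨c, hc, rfl⟩
    exact hK c hc

lemma map_map_equiv {α β γ : Type*} (e : α ≃ β) (f : β ≃ γ) (x : Finset α) :
    (x.map e.toEmbedding).map f.toEmbedding = x.map (e.trans f).toEmbedding := by
  rw [Finset.map_map]
  rfl

lemma map_symm_map {α β : Type*} (e : α ≃ β) (x : Finset α) :
    (x.map e.toEmbedding).map e.symm.toEmbedding = x := by
  rw [map_map_equiv, Equiv.self_trans_symm]
  exact Finset.map_refl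

lemma map_map_symm {α β : Type*} (e : α ≃ β) (y : Finset β) :
    (y.map e.symm.toEmbedding).map e.toEmbedding = y := by
  rw [map_map_equiv, Equiv.symm_trans_self]
  exact Finset.map_refl

/-- Soundness of the checker: every Steiner system containing the blocks of the initial state is
the image of the final block list under a permutation from the subgroup `H`, provided `H`
contains all the permutations used in the certificate. -/
theorem run_sound {n t k N M : ℕ} {pts : List ℕ} (ht : 1 ≤ t) (htk : t ≤ k)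
    (hM : ∀ j, M.testBit j = decide (j < N)) (hpts : ∀ y, y ∈ pts ↔ y < n) (hptsnd : pts.Nodup)
    (hN : N * k.choose t = n.choose t) (H : Subgroup (Equiv.Perm (Fin n))) :
    ∀ (nodes : List Node) (K : List ℕ) (inc cnt : ℕ),
      run n t k N M pts nodes K inc cnt = true → WF n N K inc cnt →
      (∀ nd ∈ nodes, ∀ sw, Kid.sym sw ∈ nd.kids → permOf n sw ∈ H) →
      ∀ B : Set (Finset (Fin n)), Cfsg.IsSteinerSystem t k B → (∀ c ∈ K, setM n c ∈ B) →
        ∃ τ ∈ H, ∀ x, x ∈ B ↔
          x.map (τ : Equiv.Perm (Fin n)).toEmbedding ∈ finalSet n (finalK nodes K) := by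
  intro nodes
  induction nodes with
  | nil =>
    intro K inc cnt hrun hWF _ B hB hK
    have hcnt : cnt = N := Nat.eq_of_beq_eq_true hrun
    refine ⟨1, H.one_mem, fun x => ?_⟩
    rw [leaf_eq htk hN hWF.nodup (by rw [← hWF.cnt_eq, hcnt]) hB hK]
    have h1 : x.map (1 : Equiv.Perm (Fin n)).toEmbedding = x := Finset.map_refl
    rw [h1]
    rfl
  | cons nd rest ih =>
    intro K inc cnt hrun hWF hH B hB hK
    have hrun' : (nodeOK n t k N M pts K inc cnt nd &&
        run n t k N M pts rest (Nat.lor (maskL nd.s) (maskL nd.T) :: K)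
          (spread N cnt nd.T (spread N cnt nd.s inc)) (Nat.succ cnt)) = true := hrun
    rw [Bool.and_eq_true] at hrun'
    obtain ⟨hok, hrest⟩ := hrun'
    have hWF' := node_wf ht hM hWF hok
    refine node_step ht hM hpts hptsnd hWF hok (fun B => ∃ τ ∈ H, ∀ x, x ∈ B ↔
      x.map (τ : Equiv.Perm (Fin n)).toEmbedding ∈ finalSet n (finalK (nd :: rest) K))
      ?_ ?_ B hB hK
    · rintro B sw hsw ⟨τ, hτ, hτB⟩
      have hπ : permOf n sw ∈ H := hH nd (List.mem_cons_self ..) sw hsw
      refine ⟨(permOf n sw).symm.trans τ, H.mul_mem hτ (H.inv_mem hπ), fun x => ?_⟩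
      have h1 : (x.map (permOf n sw).symm.toEmbedding).map (permOf n sw).toEmbedding ∈ B ↔
          (x.map (permOf n sw).symm.toEmbedding).map τ.toEmbedding ∈
            finalSet n (finalK (nd :: rest) K) := hτB _
      rw [map_map_symm, map_map_equiv] at h1
      exact h1
    · intro B hB hK'
      exact ih _ _ _ hrest hWF' (fun nd' hnd' => hH nd' (List.mem_cons_of_mem _ hnd')) B hB hK'

/-- An isomorphism of set systems, from the `Finset.map` form. -/
lemma setSystemIso_of_map {α β : Type*} [DecidableEq β] {B : Set (Finset α)}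
    {B' : Set (Finset β)} (e : α ≃ β) (h : ∀ x, x ∈ B ↔ x.map e.toEmbedding ∈ B') :
    Cfsg.SetSystemIso B B' := by
  refine ⟨e, ?_⟩
  ext y
  constructor
  · rintro ⟨x, hx, rfl⟩
    have h1 : x.image e = x.map e.toEmbedding := (Finset.map_eq_image e.toEmbedding x).symm
    show x.image e ∈ B'
    rw [h1]
    exact (h x).mp hx
  · intro hy
    have h2 := map_map_symm e y
    refine ⟨y.map e.symm.toEmbedding, (h _).mpr (by rw [h2]; exact hy), ?_⟩
    have h3 := Finset.map_eq_image e.toEmbedding (y.map e.symm.toEmbedding)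
    rw [h2] at h3
    exact h3.symm

/-- Uniqueness of the Steiner system `S(t, k, n)` from a certificate. -/
theorem unique_of_cert {n t k N : ℕ} (ht : 1 ≤ t) (htk : t ≤ k)
    (hN : N * k.choose t = n.choose t) (nodes : List Node)
    (h : run n t k N (2 ^ N - 1) (List.range n) nodes [] 0 0 = true)
    {α β : Type*} [Fintype α] [DecidableEq α] [Fintype β] [DecidableEq β]
    (hα : Fintype.card α = n) (hβ : Fintype.card β = n)
    {B : Set (Finset α)} {B' : Set (Finset β)}
    (hB : Cfsg.IsSteinerSystem t k B) (hB' : Cfsg.IsSteinerSystem t k B') :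
    Cfsg.SetSystemIso B B' := by
  have hWF : WF n N [] 0 0 := ⟨rfl, Nat.zero_le _, fun p _ j _ => by simp, by simp⟩
  have key := run_sound ht htk (Nat.testBit_two_pow_sub_one N) (fun y => List.mem_range)
    List.nodup_range hN ⊤ nodes [] 0 0 h hWF (fun _ _ _ _ => Subgroup.mem_top _)
  obtain ⟨τ, -, hτ⟩ := key _ (steiner_comap (Fintype.equivFinOfCardEq hα).symm hB) (by simp)
  obtain ⟨τ', -, hτ'⟩ := key _ (steiner_comap (Fintype.equivFinOfCardEq hβ).symm hB') (by simp)
  apply setSystemIso_of_map ((Fintype.equivFinOfCardEq hα).trans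
    (τ.trans (τ'.symm.trans (Fintype.equivFinOfCardEq hβ).symm)))
  intro x
  have h1 : (x.map (Fintype.equivFinOfCardEq hα).toEmbedding).map
      (Fintype.equivFinOfCardEq hα).symm.toEmbedding ∈ B ↔
      (x.map (Fintype.equivFinOfCardEq hα).toEmbedding).map τ.toEmbedding ∈
        finalSet n (finalK nodes []) := hτ _
  have h2 : ((((x.map (Fintype.equivFinOfCardEq hα).toEmbedding).map τ.toEmbedding).map
      τ'.symm.toEmbedding).map (Fintype.equivFinOfCardEq hβ).symm.toEmbedding ∈ B') ↔
      (((x.map (Fintype.equivFinOfCardEq hα).toEmbedding).map τ.toEmbedding).map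
        τ'.symm.toEmbedding).map τ'.toEmbedding ∈ finalSet n (finalK nodes []) := hτ' _
  rw [map_symm_map] at h1
  rw [map_map_symm τ', map_map_equiv, map_map_equiv, map_map_equiv] at h2
  rw [h1, ← h2]

end Cfsg.Agent.Lib.Helper7.SC
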