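import Cfsg.Agent.Lib.Helper7.SteinerCert

set_option autoImplicit false

set_option maxRecDepth 100000

namespace Cfsg.Agent.Lib.Helper7.SC

noncomputable def cert22_0 : List Node := [
  ⟨[0,1,2],[4,13,16],[.sym [(13,3),(16,5)],.sym [(13,3),(16,6)],.sym [(13,3),(16,7)],.sym [(13,3),(16,8)],.sym [(13,3),(16,9)],.sym [(13,3),(16,10)],.sym [(13,3),(16,11)],.sym [(13,3),(16,12)],.sym [(16,3)],.sym [(13,3),(16,14)],.sym [(13,3),(16,15)],.sym [(13,3)],.sym [(13,3),(16,17)],.sym [(13,3),(16,18)],.sym [(13,3),(16,19)],.sym [(13,3),(16,20)],.sym [(13,3),(16,21)],.sym [(4,3),(13,5),(16,6)],.sym [(4,3),(13,5),(16,7)],.sym [(4,3),(13,5),(16,8)],.sym [(4,3),(13,5),(16,9)],.sym [(4,3),(13,5),(16,10)],.sym [(4,3),(13,5),(16,11)],.sym [(4,3),(13,5),(16,12)],.sym [(4,3),(16,5)],.sym [(4,3),(13,5),(16,14)],.sym [(4,3),(13,5),(16,15)],.sym [(4,3),(13,5)],.sym [(4,3),(13,5),(16,17)],.sym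 [(4,3),(13,5),(16,18)],.sym [(4,3),(13,5),(16,19)],.sym [(4,3),(13,5),(16,20)],.sym [(4,3),(13,5),(16,21)],.sym [(4,3),(13,6),(16,7)],.sym [(4,3),(13,6),(16,8)],.sym [(4,3),(13,6),(16,9)],.sym [(4,3),(13,6),(16,10)],.sym [(4,3),(13,6),(16,11)],.sym [(4,3),(13,6),(16,12)],.sym [(4,3),(16,6)],.sym [(4,3),(13,6),(16,14)],.sym [(4,3),(13,6),(16,15)],.sym [(4,3),(13,6)],.sym [(4,3),(13,6),(16,17)],.sym [(4,3),(13,6),(16,18)],.sym [(4,3),(13,6),(16,19)],.sym [(4,3),(13,6),(16,20)],.sym [(4,3),(13,6),(16,21)],.sym [(4,3),(13,7),(16,8)],.sym [(4,3),(13,7),(16,9)],.sym [(4,3),(13,7),(16,10)],.sym [(4,3),(13,7),(16,11)],.sym [(4,3),(13,7),(16,12)],.sym [(4,3),(16,7)],.sym [(4,3),(13,7),(16,14)],.sym [(4,3),(13,7),(16,15)],.sym [(4,3),(13,7)],.sym [(4,3),(13,7),(16,17)],.sym [(4,3),(13,7),(16,18)],.sym [(4,3),(13,7),(16,19)],.sym [(4,3),(13,7),(16,20)],.sym [(4,3),(13,7),(16,21)],.sym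 [(4,3),(13,8),(16,9)],.sym [(4,3),(13,8),(16,10)],.sym [(4,3),(13,8),(16,11)],.sym [(4,3),(13,8),(16,12)],.sym [(4,3),(16,8)],.sym [(4,3),(13,8),(16,14)],.sym [(4,3),(13,8),(16,15)],.sym [(4,3),(13,8)],.sym [(4,3),(13,8),(16,17)],.sym [(4,3),(13,8),(16,18)],.sym [(4,3),(13,8),(16,19)],.sym [(4,3),(13,8),(16,20)],.sym [(4,3),(13,8),(16,21)],.sym [(4,3),(13,9),(16,10)],.sym [(4,3),(13,9),(16,11)],.sym [(4,3),(13,9),(16,12)],.sym [(4,3),(16,9)],.sym [(4,3),(13,9),(16,14)],.sym [(4,3),(13,9),(16,15)],.sym [(4,3),(13,9)],.sym [(4,3),(13,9),(16,17)],.sym [(4,3),(13,9),(16,18)],.sym [(4,3),(13,9),(16,19)],.sym [(4,3),(13,9),(16,20)],.sym [(4,3),(13,9),(16,21)],.sym [(4,3),(13,10),(16,11)],.sym [(4,3),(13,10),(16,12)],.sym [(4,3),(16,10)],.sym [(4,3),(13,10),(16,14)],.sym [(4,3),(13,10),(16,15)],.sym [(4,3),(13,10)],.sym [(4,3),(13,10),(16,17)],.sym [(4,3),(13,10),(16,18)],.sym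 [(4,3),(13,10),(16,19)],.sym [(4,3),(13,10),(16,20)],.sym [(4,3),(13,10),(16,21)],.sym [(4,3),(13,11),(16,12)],.sym [(4,3),(16,11)],.sym [(4,3),(13,11),(16,14)],.sym [(4,3),(13,11),(16,15)],.sym [(4,3),(13,11)],.sym [(4,3),(13,11),(16,17)],.sym [(4,3),(13,11),(16,18)],.sym [(4,3),(13,11),(16,19)],.sym [(4,3),(13,11),(16,20)],.sym [(4,3),(13,11),(16,21)],.sym [(4,3),(16,12)],.sym [(4,3),(13,12),(16,14)],.sym [(4,3),(13,12),(16,15)],.sym [(4,3),(13,12)],.sym [(4,3),(13,12),(16,17)],.sym [(4,3),(13,12),(16,18)],.sym [(4,3),(13,12),(16,19)],.sym [(4,3),(13,12),(16,20)],.sym [(4,3),(13,12),(16,21)],.sym [(4,3),(16,14)],.sym [(4,3),(16,15)],.sym [(4,3)],.sym [(4,3),(16,17)],.sym [(4,3),(16,18)],.sym [(4,3),(16,19)],.sym [(4,3),(16,20)],.sym [(4,3),(16,21)],.sym [(4,3),(13,14),(16,15)],.sym [(4,3),(13,14)],.sym [(4,3),(13,14),(16,17)],.sym [(4,3),(13,14),(16,18)],.sym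 [(4,3),(13,14),(16,19)],.sym [(4,3),(13,14),(16,20)],.sym [(4,3),(13,14),(16,21)],.sym [(4,3),(13,15)],.sym [(4,3),(13,15),(16,17)],.sym [(4,3),(13,15),(16,18)],.sym [(4,3),(13,15),(16,19)],.sym [(4,3),(13,15),(16,20)],.sym [(4,3),(13,15),(16,21)],.sym [(4,3),(13,17)],.sym [(4,3),(13,18)],.sym [(4,3),(13,19)],.sym [(4,3),(13,20)],.sym [(4,3),(13,21)],.sym [(4,3),(13,17),(16,18)],.sym [(4,3),(13,17),(16,19)],.sym [(4,3),(13,17),(16,20)],.sym [(4,3),(13,17),(16,21)],.sym [(4,3),(13,18),(16,19)],.sym [(4,3),(13,18),(16,20)],.sym [(4,3),(13,18),(16,21)],.sym [(4,3),(13,19),(16,20)],.sym [(4,3),(13,19),(16,21)],.sym [(4,3),(13,20),(16,21)],.sym [(13,5),(16,6)],.sym [(13,5),(16,7)],.sym [(13,5),(16,8)],.sym [(13,5),(16,9)],.sym [(13,5),(16,10)],.sym [(13,5),(16,11)],.sym [(13,5),(16,12)],.sym [(16,5)],.sym [(13,5),(16,14)],.sym [(13,5),(16,15)],.sym [(13,5)],.sym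 [(13,5),(16,17)],.sym [(13,5),(16,18)],.sym [(13,5),(16,19)],.sym [(13,5),(16,20)],.sym [(13,5),(16,21)],.sym [(13,6),(16,7)],.sym [(13,6),(16,8)],.sym [(13,6),(16,9)],.sym [(13,6),(16,10)],.sym [(13,6),(16,11)],.sym [(13,6),(16,12)],.sym [(16,6)],.sym [(13,6),(16,14)],.sym [(13,6),(16,15)],.sym [(13,6)],.sym [(13,6),(16,17)],.sym [(13,6),(16,18)],.sym [(13,6),(16,19)],.sym [(13,6),(16,20)],.sym [(13,6),(16,21)],.sym [(13,7),(16,8)],.sym [(13,7),(16,9)],.sym [(13,7),(16,10)],.sym [(13,7),(16,11)],.sym [(13,7),(16,12)],.sym [(16,7)],.sym [(13,7),(16,14)],.sym [(13,7),(16,15)],.sym [(13,7)],.sym [(13,7),(16,17)],.sym [(13,7),(16,18)],.sym [(13,7),(16,19)],.sym [(13,7),(16,20)],.sym [(13,7),(16,21)],.sym [(13,8),(16,9)],.sym [(13,8),(16,10)],.sym [(13,8),(16,11)],.sym [(13,8),(16,12)],.sym [(16,8)],.sym [(13,8),(16,14)],.sym [(13,8),(16,15)],.sym [(13,8)],.sym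 [(13,8),(16,17)],.sym [(13,8),(16,18)],.sym [(13,8),(16,19)],.sym [(13,8),(16,20)],.sym [(13,8),(16,21)],.sym [(13,9),(16,10)],.sym [(13,9),(16,11)],.sym [(13,9),(16,12)],.sym [(16,9)],.sym [(13,9),(16,14)],.sym [(13,9),(16,15)],.sym [(13,9)],.sym [(13,9),(16,17)],.sym [(13,9),(16,18)],.sym [(13,9),(16,19)],.sym [(13,9),(16,20)],.sym [(13,9),(16,21)],.sym [(13,10),(16,11)],.sym [(13,10),(16,12)],.sym [(16,10)],.sym [(13,10),(16,14)],.sym [(13,10),(16,15)],.sym [(13,10)],.sym [(13,10),(16,17)],.sym [(13,10),(16,18)],.sym [(13,10),(16,19)],.sym [(13,10),(16,20)],.sym [(13,10),(16,21)],.sym [(13,11),(16,12)],.sym [(16,11)],.sym [(13,11),(16,14)],.sym [(13,11),(16,15)],.sym [(13,11)],.sym [(13,11),(16,17)],.sym [(13,11),(16,18)],.sym [(13,11),(16,19)],.sym [(13,11),(16,20)],.sym [(13,11),(16,21)],.sym [(16,12)],.sym [(13,12),(16,14)],.sym [(13,12),(16,15)],.sym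 [(13,12)],.sym [(13,12),(16,17)],.sym [(13,12),(16,18)],.sym [(13,12),(16,19)],.sym [(13,12),(16,20)],.sym [(13,12),(16,21)],.sym [(16,14)],.sym [(16,15)],.main,.sym [(16,17)],.sym [(16,18)],.sym [(16,19)],.sym [(16,20)],.sym [(16,21)],.sym [(13,14),(16,15)],.sym [(13,14)],.sym [(13,14),(16,17)],.sym [(13,14),(16,18)],.sym [(13,14),(16,19)],.sym [(13,14),(16,20)],.sym [(13,14),(16,21)],.sym [(13,15)],.sym [(13,15),(16,17)],.sym [(13,15),(16,18)],.sym [(13,15),(16,19)],.sym [(13,15),(16,20)],.sym [(13,15),(16,21)],.sym [(13,17)],.sym [(13,18)],.sym [(13,19)],.sym [(13,20)],.sym [(13,21)],.sym [(13,17),(16,18)],.sym [(13,17),(16,19)],.sym [(13,17),(16,20)],.sym [(13,17),(16,21)],.sym [(13,18),(16,19)],.sym [(13,18),(16,20)],.sym [(13,18),(16,21)],.sym [(13,19),(16,20)],.sym [(13,19),(16,21)],.sym [(13,20),(16,21)],.sym [(4,5),(13,6),(16,7)],.sym [(4,5),(13,6),(16,8)],.sym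 [(4,5),(13,6),(16,9)],.sym [(4,5),(13,6),(16,10)],.sym [(4,5),(13,6),(16,11)],.sym [(4,5),(13,6),(16,12)],.sym [(4,5),(16,6)],.sym [(4,5),(13,6),(16,14)],.sym [(4,5),(13,6),(16,15)],.sym [(4,5),(13,6)],.sym [(4,5),(13,6),(16,17)],.sym [(4,5),(13,6),(16,18)],.sym [(4,5),(13,6),(16,19)],.sym [(4,5),(13,6),(16,20)],.sym [(4,5),(13,6),(16,21)],.sym [(4,5),(13,7),(16,8)],.sym [(4,5),(13,7),(16,9)],.sym [(4,5),(13,7),(16,10)],.sym [(4,5),(13,7),(16,11)],.sym [(4,5),(13,7),(16,12)],.sym [(4,5),(16,7)],.sym [(4,5),(13,7),(16,14)],.sym [(4,5),(13,7),(16,15)],.sym [(4,5),(13,7)],.sym [(4,5),(13,7),(16,17)],.sym [(4,5),(13,7),(16,18)],.sym [(4,5),(13,7),(16,19)],.sym [(4,5),(13,7),(16,20)],.sym [(4,5),(13,7),(16,21)],.sym [(4,5),(13,8),(16,9)],.sym [(4,5),(13,8),(16,10)],.sym [(4,5),(13,8),(16,11)],.sym [(4,5),(13,8),(16,12)],.sym [(4,5),(16,8)],.sym [(4,5),(13,8),(16,14)],.sym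 [(4,5),(13,8),(16,15)],.sym [(4,5),(13,8)],.sym [(4,5),(13,8),(16,17)],.sym [(4,5),(13,8),(16,18)],.sym [(4,5),(13,8),(16,19)],.sym [(4,5),(13,8),(16,20)],.sym [(4,5),(13,8),(16,21)],.sym [(4,5),(13,9),(16,10)],.sym [(4,5),(13,9),(16,11)],.sym [(4,5),(13,9),(16,12)],.sym [(4,5),(16,9)],.sym [(4,5),(13,9),(16,14)],.sym [(4,5),(13,9),(16,15)],.sym [(4,5),(13,9)],.sym [(4,5),(13,9),(16,17)],.sym [(4,5),(13,9),(16,18)],.sym [(4,5),(13,9),(16,19)],.sym [(4,5),(13,9),(16,20)],.sym [(4,5),(13,9),(16,21)],.sym [(4,5),(13,10),(16,11)],.sym [(4,5),(13,10),(16,12)],.sym [(4,5),(16,10)],.sym [(4,5),(13,10),(16,14)],.sym [(4,5),(13,10),(16,15)],.sym [(4,5),(13,10)],.sym [(4,5),(13,10),(16,17)],.sym [(4,5),(13,10),(16,18)],.sym [(4,5),(13,10),(16,19)],.sym [(4,5),(13,10),(16,20)],.sym [(4,5),(13,10),(16,21)],.sym [(4,5),(13,11),(16,12)],.sym [(4,5),(16,11)],.sym [(4,5),(13,11),(16,14)],.sym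 [(4,5),(13,11),(16,15)],.sym [(4,5),(13,11)],.sym [(4,5),(13,11),(16,17)],.sym [(4,5),(13,11),(16,18)],.sym [(4,5),(13,11),(16,19)],.sym [(4,5),(13,11),(16,20)],.sym [(4,5),(13,11),(16,21)],.sym [(4,5),(16,12)],.sym [(4,5),(13,12),(16,14)],.sym [(4,5),(13,12),(16,15)],.sym [(4,5),(13,12)],.sym [(4,5),(13,12),(16,17)],.sym [(4,5),(13,12),(16,18)],.sym [(4,5),(13,12),(16,19)],.sym [(4,5),(13,12),(16,20)],.sym [(4,5),(13,12),(16,21)],.sym [(4,5),(16,14)],.sym [(4,5),(16,15)],.sym [(4,5)],.sym [(4,5),(16,17)],.sym [(4,5),(16,18)],.sym [(4,5),(16,19)],.sym [(4,5),(16,20)],.sym [(4,5),(16,21)],.sym [(4,5),(13,14),(16,15)],.sym [(4,5),(13,14)],.sym [(4,5),(13,14),(16,17)],.sym [(4,5),(13,14),(16,18)],.sym [(4,5),(13,14),(16,19)],.sym [(4,5),(13,14),(16,20)],.sym [(4,5),(13,14),(16,21)],.sym [(4,5),(13,15)],.sym [(4,5),(13,15),(16,17)],.sym [(4,5),(13,15),(16,18)],.sym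 [(4,5),(13,15),(16,19)],.sym [(4,5),(13,15),(16,20)],.sym [(4,5),(13,15),(16,21)],.sym [(4,5),(13,17)],.sym [(4,5),(13,18)],.sym [(4,5),(13,19)],.sym [(4,5),(13,20)],.sym [(4,5),(13,21)],.sym [(4,5),(13,17),(16,18)],.sym [(4,5),(13,17),(16,19)],.sym [(4,5),(13,17),(16,20)],.sym [(4,5),(13,17),(16,21)],.sym [(4,5),(13,18),(16,19)],.sym [(4,5),(13,18),(16,20)],.sym [(4,5),(13,18),(16,21)],.sym [(4,5),(13,19),(16,20)],.sym [(4,5),(13,19),(16,21)],.sym [(4,5),(13,20),(16,21)],.sym [(4,6),(13,7),(16,8)],.sym [(4,6),(13,7),(16,9)],.sym [(4,6),(13,7),(16,10)],.sym [(4,6),(13,7),(16,11)],.sym [(4,6),(13,7),(16,12)],.sym [(4,6),(16,7)],.sym [(4,6),(13,7),(16,14)],.sym [(4,6),(13,7),(16,15)],.sym [(4,6),(13,7)],.sym [(4,6),(13,7),(16,17)],.sym [(4,6),(13,7),(16,18)],.sym [(4,6),(13,7),(16,19)],.sym [(4,6),(13,7),(16,20)],.sym [(4,6),(13,7),(16,21)],.sym [(4,6),(13,8),(16,9)],.sym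 [(4,6),(13,8),(16,10)],.sym [(4,6),(13,8),(16,11)],.sym [(4,6),(13,8),(16,12)],.sym [(4,6),(16,8)],.sym [(4,6),(13,8),(16,14)],.sym [(4,6),(13,8),(16,15)],.sym [(4,6),(13,8)],.sym [(4,6),(13,8),(16,17)],.sym [(4,6),(13,8),(16,18)],.sym [(4,6),(13,8),(16,19)],.sym [(4,6),(13,8),(16,20)],.sym [(4,6),(13,8),(16,21)],.sym [(4,6),(13,9),(16,10)],.sym [(4,6),(13,9),(16,11)],.sym [(4,6),(13,9),(16,12)],.sym [(4,6),(16,9)],.sym [(4,6),(13,9),(16,14)],.sym [(4,6),(13,9),(16,15)],.sym [(4,6),(13,9)],.sym [(4,6),(13,9),(16,17)],.sym [(4,6),(13,9),(16,18)],.sym [(4,6),(13,9),(16,19)],.sym [(4,6),(13,9),(16,20)],.sym [(4,6),(13,9),(16,21)],.sym [(4,6),(13,10),(16,11)],.sym [(4,6),(13,10),(16,12)],.sym [(4,6),(16,10)],.sym [(4,6),(13,10),(16,14)],.sym [(4,6),(13,10),(16,15)],.sym [(4,6),(13,10)],.sym [(4,6),(13,10),(16,17)],.sym [(4,6),(13,10),(16,18)],.sym [(4,6),(13,10),(16,19)],.sym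 [(4,6),(13,10),(16,20)],.sym [(4,6),(13,10),(16,21)],.sym [(4,6),(13,11),(16,12)],.sym [(4,6),(16,11)],.sym [(4,6),(13,11),(16,14)],.sym [(4,6),(13,11),(16,15)],.sym [(4,6),(13,11)],.sym [(4,6),(13,11),(16,17)],.sym [(4,6),(13,11),(16,18)],.sym [(4,6),(13,11),(16,19)],.sym [(4,6),(13,11),(16,20)],.sym [(4,6),(13,11),(16,21)],.sym [(4,6),(16,12)],.sym [(4,6),(13,12),(16,14)],.sym [(4,6),(13,12),(16,15)],.sym [(4,6),(13,12)],.sym [(4,6),(13,12),(16,17)],.sym [(4,6),(13,12),(16,18)],.sym [(4,6),(13,12),(16,19)],.sym [(4,6),(13,12),(16,20)],.sym [(4,6),(13,12),(16,21)],.sym [(4,6),(16,14)],.sym [(4,6),(16,15)],.sym [(4,6)],.sym [(4,6),(16,17)],.sym [(4,6),(16,18)],.sym [(4,6),(16,19)],.sym [(4,6),(16,20)],.sym [(4,6),(16,21)],.sym [(4,6),(13,14),(16,15)],.sym [(4,6),(13,14)],.sym [(4,6),(13,14),(16,17)],.sym [(4,6),(13,14),(16,18)],.sym [(4,6),(13,14),(16,19)],.sym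 [(4,6),(13,14),(16,20)],.sym [(4,6),(13,14),(16,21)],.sym [(4,6),(13,15)],.sym [(4,6),(13,15),(16,17)],.sym [(4,6),(13,15),(16,18)],.sym [(4,6),(13,15),(16,19)],.sym [(4,6),(13,15),(16,20)],.sym [(4,6),(13,15),(16,21)],.sym [(4,6),(13,17)],.sym [(4,6),(13,18)],.sym [(4,6),(13,19)],.sym [(4,6),(13,20)],.sym [(4,6),(13,21)],.sym [(4,6),(13,17),(16,18)],.sym [(4,6),(13,17),(16,19)],.sym [(4,6),(13,17),(16,20)],.sym [(4,6),(13,17),(16,21)],.sym [(4,6),(13,18),(16,19)],.sym [(4,6),(13,18),(16,20)],.sym [(4,6),(13,18),(16,21)],.sym [(4,6),(13,19),(16,20)],.sym [(4,6),(13,19),(16,21)],.sym [(4,6),(13,20),(16,21)],.sym [(4,7),(13,8),(16,9)],.sym [(4,7),(13,8),(16,10)],.sym [(4,7),(13,8),(16,11)],.sym [(4,7),(13,8),(16,12)],.sym [(4,7),(16,8)],.sym [(4,7),(13,8),(16,14)],.sym [(4,7),(13,8),(16,15)],.sym [(4,7),(13,8)],.sym [(4,7),(13,8),(16,17)],.sym [(4,7),(13,8),(16,18)],.sym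 [(4,7),(13,8),(16,19)],.sym [(4,7),(13,8),(16,20)],.sym [(4,7),(13,8),(16,21)],.sym [(4,7),(13,9),(16,10)],.sym [(4,7),(13,9),(16,11)],.sym [(4,7),(13,9),(16,12)],.sym [(4,7),(16,9)],.sym [(4,7),(13,9),(16,14)],.sym [(4,7),(13,9),(16,15)],.sym [(4,7),(13,9)],.sym [(4,7),(13,9),(16,17)],.sym [(4,7),(13,9),(16,18)],.sym [(4,7),(13,9),(16,19)],.sym [(4,7),(13,9),(16,20)],.sym [(4,7),(13,9),(16,21)],.sym [(4,7),(13,10),(16,11)],.sym [(4,7),(13,10),(16,12)],.sym [(4,7),(16,10)],.sym [(4,7),(13,10),(16,14)],.sym [(4,7),(13,10),(16,15)],.sym [(4,7),(13,10)],.sym [(4,7),(13,10),(16,17)],.sym [(4,7),(13,10),(16,18)],.sym [(4,7),(13,10),(16,19)],.sym [(4,7),(13,10),(16,20)],.sym [(4,7),(13,10),(16,21)],.sym [(4,7),(13,11),(16,12)],.sym [(4,7),(16,11)],.sym [(4,7),(13,11),(16,14)],.sym [(4,7),(13,11),(16,15)],.sym [(4,7),(13,11)],.sym [(4,7),(13,11),(16,17)],.sym [(4,7),(13,11),(16,18)],.sym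 [(4,7),(13,11),(16,19)],.sym [(4,7),(13,11),(16,20)],.sym [(4,7),(13,11),(16,21)],.sym [(4,7),(16,12)],.sym [(4,7),(13,12),(16,14)],.sym [(4,7),(13,12),(16,15)],.sym [(4,7),(13,12)],.sym [(4,7),(13,12),(16,17)],.sym [(4,7),(13,12),(16,18)],.sym [(4,7),(13,12),(16,19)],.sym [(4,7),(13,12),(16,20)],.sym [(4,7),(13,12),(16,21)],.sym [(4,7),(16,14)],.sym [(4,7),(16,15)],.sym [(4,7)],.sym [(4,7),(16,17)],.sym [(4,7),(16,18)],.sym [(4,7),(16,19)],.sym [(4,7),(16,20)],.sym [(4,7),(16,21)],.sym [(4,7),(13,14),(16,15)],.sym [(4,7),(13,14)],.sym [(4,7),(13,14),(16,17)],.sym [(4,7),(13,14),(16,18)],.sym [(4,7),(13,14),(16,19)],.sym [(4,7),(13,14),(16,20)],.sym [(4,7),(13,14),(16,21)],.sym [(4,7),(13,15)],.sym [(4,7),(13,15),(16,17)],.sym [(4,7),(13,15),(16,18)],.sym [(4,7),(13,15),(16,19)],.sym [(4,7),(13,15),(16,20)],.sym [(4,7),(13,15),(16,21)],.sym [(4,7),(13,17)],.sym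 [(4,7),(13,18)],.sym [(4,7),(13,19)],.sym [(4,7),(13,20)],.sym [(4,7),(13,21)],.sym [(4,7),(13,17),(16,18)],.sym [(4,7),(13,17),(16,19)],.sym [(4,7),(13,17),(16,20)],.sym [(4,7),(13,17),(16,21)],.sym [(4,7),(13,18),(16,19)],.sym [(4,7),(13,18),(16,20)],.sym [(4,7),(13,18),(16,21)],.sym [(4,7),(13,19),(16,20)],.sym [(4,7),(13,19),(16,21)],.sym [(4,7),(13,20),(16,21)],.sym [(4,8),(13,9),(16,10)],.sym [(4,8),(13,9),(16,11)],.sym [(4,8),(13,9),(16,12)],.sym [(4,8),(16,9)],.sym [(4,8),(13,9),(16,14)],.sym [(4,8),(13,9),(16,15)],.sym [(4,8),(13,9)],.sym [(4,8),(13,9),(16,17)],.sym [(4,8),(13,9),(16,18)],.sym [(4,8),(13,9),(16,19)],.sym [(4,8),(13,9),(16,20)],.sym [(4,8),(13,9),(16,21)],.sym [(4,8),(13,10),(16,11)],.sym [(4,8),(13,10),(16,12)],.sym [(4,8),(16,10)],.sym [(4,8),(13,10),(16,14)],.sym [(4,8),(13,10),(16,15)],.sym [(4,8),(13,10)],.sym [(4,8),(13,10),(16,17)],.sym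 [(4,8),(13,10),(16,18)],.sym [(4,8),(13,10),(16,19)],.sym [(4,8),(13,10),(16,20)],.sym [(4,8),(13,10),(16,21)],.sym [(4,8),(13,11),(16,12)],.sym [(4,8),(16,11)],.sym [(4,8),(13,11),(16,14)],.sym [(4,8),(13,11),(16,15)],.sym [(4,8),(13,11)],.sym [(4,8),(13,11),(16,17)],.sym [(4,8),(13,11),(16,18)],.sym [(4,8),(13,11),(16,19)],.sym [(4,8),(13,11),(16,20)],.sym [(4,8),(13,11),(16,21)],.sym [(4,8),(16,12)],.sym [(4,8),(13,12),(16,14)],.sym [(4,8),(13,12),(16,15)],.sym [(4,8),(13,12)],.sym [(4,8),(13,12),(16,17)],.sym [(4,8),(13,12),(16,18)],.sym [(4,8),(13,12),(16,19)],.sym [(4,8),(13,12),(16,20)],.sym [(4,8),(13,12),(16,21)],.sym [(4,8),(16,14)],.sym [(4,8),(16,15)],.sym [(4,8)],.sym [(4,8),(16,17)],.sym [(4,8),(16,18)],.sym [(4,8),(16,19)],.sym [(4,8),(16,20)],.sym [(4,8),(16,21)],.sym [(4,8),(13,14),(16,15)],.sym [(4,8),(13,14)],.sym [(4,8),(13,14),(16,17)],.sym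 [(4,8),(13,14),(16,18)],.sym [(4,8),(13,14),(16,19)],.sym [(4,8),(13,14),(16,20)],.sym [(4,8),(13,14),(16,21)],.sym [(4,8),(13,15)],.sym [(4,8),(13,15),(16,17)],.sym [(4,8),(13,15),(16,18)],.sym [(4,8),(13,15),(16,19)],.sym [(4,8),(13,15),(16,20)],.sym [(4,8),(13,15),(16,21)],.sym [(4,8),(13,17)],.sym [(4,8),(13,18)],.sym [(4,8),(13,19)],.sym [(4,8),(13,20)],.sym [(4,8),(13,21)],.sym [(4,8),(13,17),(16,18)],.sym [(4,8),(13,17),(16,19)],.sym [(4,8),(13,17),(16,20)],.sym [(4,8),(13,17),(16,21)],.sym [(4,8),(13,18),(16,19)],.sym [(4,8),(13,18),(16,20)],.sym [(4,8),(13,18),(16,21)],.sym [(4,8),(13,19),(16,20)],.sym [(4,8),(13,19),(16,21)],.sym [(4,8),(13,20),(16,21)],.sym [(4,9),(13,10),(16,11)],.sym [(4,9),(13,10),(16,12)],.sym [(4,9),(16,10)],.sym [(4,9),(13,10),(16,14)],.sym [(4,9),(13,10),(16,15)],.sym [(4,9),(13,10)],.sym [(4,9),(13,10),(16,17)],.sym [(4,9),(13,10),(16,18)],.sym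 [(4,9),(13,10),(16,19)],.sym [(4,9),(13,10),(16,20)],.sym [(4,9),(13,10),(16,21)],.sym [(4,9),(13,11),(16,12)],.sym [(4,9),(16,11)],.sym [(4,9),(13,11),(16,14)],.sym [(4,9),(13,11),(16,15)],.sym [(4,9),(13,11)],.sym [(4,9),(13,11),(16,17)],.sym [(4,9),(13,11),(16,18)],.sym [(4,9),(13,11),(16,19)],.sym [(4,9),(13,11),(16,20)],.sym [(4,9),(13,11),(16,21)],.sym [(4,9),(16,12)],.sym [(4,9),(13,12),(16,14)],.sym [(4,9),(13,12),(16,15)],.sym [(4,9),(13,12)],.sym [(4,9),(13,12),(16,17)],.sym [(4,9),(13,12),(16,18)],.sym [(4,9),(13,12),(16,19)],.sym [(4,9),(13,12),(16,20)],.sym [(4,9),(13,12),(16,21)],.sym [(4,9),(16,14)],.sym [(4,9),(16,15)],.sym [(4,9)],.sym [(4,9),(16,17)],.sym [(4,9),(16,18)],.sym [(4,9),(16,19)],.sym [(4,9),(16,20)],.sym [(4,9),(16,21)],.sym [(4,9),(13,14),(16,15)],.sym [(4,9),(13,14)],.sym [(4,9),(13,14),(16,17)],.sym [(4,9),(13,14),(16,18)],.sym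 [(4,9),(13,14),(16,19)],.sym [(4,9),(13,14),(16,20)],.sym [(4,9),(13,14),(16,21)],.sym [(4,9),(13,15)],.sym [(4,9),(13,15),(16,17)],.sym [(4,9),(13,15),(16,18)],.sym [(4,9),(13,15),(16,19)],.sym [(4,9),(13,15),(16,20)],.sym [(4,9),(13,15),(16,21)],.sym [(4,9),(13,17)],.sym [(4,9),(13,18)],.sym [(4,9),(13,19)],.sym [(4,9),(13,20)],.sym [(4,9),(13,21)],.sym [(4,9),(13,17),(16,18)],.sym [(4,9),(13,17),(16,19)],.sym [(4,9),(13,17),(16,20)],.sym [(4,9),(13,17),(16,21)],.sym [(4,9),(13,18),(16,19)],.sym [(4,9),(13,18),(16,20)],.sym [(4,9),(13,18),(16,21)],.sym [(4,9),(13,19),(16,20)],.sym [(4,9),(13,19),(16,21)],.sym [(4,9),(13,20),(16,21)],.sym [(4,10),(13,11),(16,12)],.sym [(4,10),(16,11)],.sym [(4,10),(13,11),(16,14)],.sym [(4,10),(13,11),(16,15)],.sym [(4,10),(13,11)],.sym [(4,10),(13,11),(16,17)],.sym [(4,10),(13,11),(16,18)],.sym [(4,10),(13,11),(16,19)],.sym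 [(4,10),(13,11),(16,20)],.sym [(4,10),(13,11),(16,21)],.sym [(4,10),(16,12)],.sym [(4,10),(13,12),(16,14)],.sym [(4,10),(13,12),(16,15)],.sym [(4,10),(13,12)],.sym [(4,10),(13,12),(16,17)],.sym [(4,10),(13,12),(16,18)],.sym [(4,10),(13,12),(16,19)],.sym [(4,10),(13,12),(16,20)],.sym [(4,10),(13,12),(16,21)],.sym [(4,10),(16,14)],.sym [(4,10),(16,15)],.sym [(4,10)],.sym [(4,10),(16,17)],.sym [(4,10),(16,18)],.sym [(4,10),(16,19)],.sym [(4,10),(16,20)],.sym [(4,10),(16,21)],.sym [(4,10),(13,14),(16,15)],.sym [(4,10),(13,14)],.sym [(4,10),(13,14),(16,17)],.sym [(4,10),(13,14),(16,18)],.sym [(4,10),(13,14),(16,19)],.sym [(4,10),(13,14),(16,20)],.sym [(4,10),(13,14),(16,21)],.sym [(4,10),(13,15)],.sym [(4,10),(13,15),(16,17)],.sym [(4,10),(13,15),(16,18)],.sym [(4,10),(13,15),(16,19)],.sym [(4,10),(13,15),(16,20)],.sym [(4,10),(13,15),(16,21)],.sym [(4,10),(13,17)],.sym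 [(4,10),(13,18)],.sym [(4,10),(13,19)],.sym [(4,10),(13,20)],.sym [(4,10),(13,21)],.sym [(4,10),(13,17),(16,18)],.sym [(4,10),(13,17),(16,19)],.sym [(4,10),(13,17),(16,20)],.sym [(4,10),(13,17),(16,21)],.sym [(4,10),(13,18),(16,19)],.sym [(4,10),(13,18),(16,20)],.sym [(4,10),(13,18),(16,21)],.sym [(4,10),(13,19),(16,20)],.sym [(4,10),(13,19),(16,21)],.sym [(4,10),(13,20),(16,21)],.sym [(4,11),(16,12)],.sym [(4,11),(13,12),(16,14)],.sym [(4,11),(13,12),(16,15)],.sym [(4,11),(13,12)],.sym [(4,11),(13,12),(16,17)],.sym [(4,11),(13,12),(16,18)],.sym [(4,11),(13,12),(16,19)],.sym [(4,11),(13,12),(16,20)],.sym [(4,11),(13,12),(16,21)],.sym [(4,11),(16,14)],.sym [(4,11),(16,15)],.sym [(4,11)],.sym [(4,11),(16,17)],.sym [(4,11),(16,18)],.sym [(4,11),(16,19)],.sym [(4,11),(16,20)],.sym [(4,11),(16,21)],.sym [(4,11),(13,14),(16,15)],.sym [(4,11),(13,14)],.sym [(4,11),(13,14),(16,17)],.sym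 [(4,11),(13,14),(16,18)],.sym [(4,11),(13,14),(16,19)],.sym [(4,11),(13,14),(16,20)],.sym [(4,11),(13,14),(16,21)],.sym [(4,11),(13,15)],.sym [(4,11),(13,15),(16,17)],.sym [(4,11),(13,15),(16,18)],.sym [(4,11),(13,15),(16,19)],.sym [(4,11),(13,15),(16,20)],.sym [(4,11),(13,15),(16,21)],.sym [(4,11),(13,17)],.sym [(4,11),(13,18)],.sym [(4,11),(13,19)],.sym [(4,11),(13,20)],.sym [(4,11),(13,21)],.sym [(4,11),(13,17),(16,18)],.sym [(4,11),(13,17),(16,19)],.sym [(4,11),(13,17),(16,20)],.sym [(4,11),(13,17),(16,21)],.sym [(4,11),(13,18),(16,19)],.sym [(4,11),(13,18),(16,20)],.sym [(4,11),(13,18),(16,21)],.sym [(4,11),(13,19),(16,20)],.sym [(4,11),(13,19),(16,21)],.sym [(4,11),(13,20),(16,21)],.sym [(4,12),(16,14)],.sym [(4,12),(16,15)],.sym [(4,12)],.sym [(4,12),(16,17)],.sym [(4,12),(16,18)],.sym [(4,12),(16,19)],.sym [(4,12),(16,20)],.sym [(4,12),(16,21)],.sym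 [(4,12),(13,14),(16,15)],.sym [(4,12),(13,14)],.sym [(4,12),(13,14),(16,17)],.sym [(4,12),(13,14),(16,18)],.sym [(4,12),(13,14),(16,19)],.sym [(4,12),(13,14),(16,20)],.sym [(4,12),(13,14),(16,21)],.sym [(4,12),(13,15)],.sym [(4,12),(13,15),(16,17)],.sym [(4,12),(13,15),(16,18)],.sym [(4,12),(13,15),(16,19)],.sym [(4,12),(13,15),(16,20)],.sym [(4,12),(13,15),(16,21)],.sym [(4,12),(13,17)],.sym [(4,12),(13,18)],.sym [(4,12),(13,19)],.sym [(4,12),(13,20)],.sym [(4,12),(13,21)],.sym [(4,12),(13,17),(16,18)],.sym [(4,12),(13,17),(16,19)],.sym [(4,12),(13,17),(16,20)],.sym [(4,12),(13,17),(16,21)],.sym [(4,12),(13,18),(16,19)],.sym [(4,12),(13,18),(16,20)],.sym [(4,12),(13,18),(16,21)],.sym [(4,12),(13,19),(16,20)],.sym [(4,12),(13,19),(16,21)],.sym [(4,12),(13,20),(16,21)],.sym [(4,14),(16,15)],.sym [(4,14)],.sym [(4,14),(16,17)],.sym [(4,14),(16,18)],.sym [(4,14),(16,19)],.sym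 [(4,14),(16,20)],.sym [(4,14),(16,21)],.sym [(4,15)],.sym [(4,15),(16,17)],.sym [(4,15),(16,18)],.sym [(4,15),(16,19)],.sym [(4,15),(16,20)],.sym [(4,15),(16,21)],.sym [(4,17)],.sym [(4,18)],.sym [(4,19)],.sym [(4,20)],.sym [(4,21)],.sym [(4,17),(16,18)],.sym [(4,17),(16,19)],.sym [(4,17),(16,20)],.sym [(4,17),(16,21)],.sym [(4,18),(16,19)],.sym [(4,18),(16,20)],.sym [(4,18),(16,21)],.sym [(4,19),(16,20)],.sym [(4,19),(16,21)],.sym [(4,20),(16,21)],.sym [(4,14),(13,15)],.sym [(4,14),(13,15),(16,17)],.sym [(4,14),(13,15),(16,18)],.sym [(4,14),(13,15),(16,19)],.sym [(4,14),(13,15),(16,20)],.sym [(4,14),(13,15),(16,21)],.sym [(4,14),(13,17)],.sym [(4,14),(13,18)],.sym [(4,14),(13,19)],.sym [(4,14),(13,20)],.sym [(4,14),(13,21)],.sym [(4,14),(13,17),(16,18)],.sym [(4,14),(13,17),(16,19)],.sym [(4,14),(13,17),(16,20)],.sym [(4,14),(13,17),(16,21)],.sym [(4,14),(13,18),(16,19)],.sym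 [(4,14),(13,18),(16,20)],.sym [(4,14),(13,18),(16,21)],.sym [(4,14),(13,19),(16,20)],.sym [(4,14),(13,19),(16,21)],.sym [(4,14),(13,20),(16,21)],.sym [(4,15),(13,17)],.sym [(4,15),(13,18)],.sym [(4,15),(13,19)],.sym [(4,15),(13,20)],.sym [(4,15),(13,21)],.sym [(4,15),(13,17),(16,18)],.sym [(4,15),(13,17),(16,19)],.sym [(4,15),(13,17),(16,20)],.sym [(4,15),(13,17),(16,21)],.sym [(4,15),(13,18),(16,19)],.sym [(4,15),(13,18),(16,20)],.sym [(4,15),(13,18),(16,21)],.sym [(4,15),(13,19),(16,20)],.sym [(4,15),(13,19),(16,21)],.sym [(4,15),(13,20),(16,21)],.sym [(4,17),(13,18)],.sym [(4,17),(13,19)],.sym [(4,17),(13,20)],.sym [(4,17),(13,21)],.sym [(4,18),(13,19)],.sym [(4,18),(13,20)],.sym [(4,18),(13,21)],.sym [(4,19),(13,20)],.sym [(4,19),(13,21)],.sym [(4,20),(13,21)],.sym [(4,17),(13,18),(16,19)],.sym [(4,17),(13,18),(16,20)],.sym [(4,17),(13,18),(16,21)],.sym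 [(4,17),(13,19),(16,20)],.sym [(4,17),(13,19),(16,21)],.sym [(4,17),(13,20),(16,21)],.sym [(4,18),(13,19),(16,20)],.sym [(4,18),(13,19),(16,21)],.sym [(4,18),(13,20),(16,21)],.sym [(4,19),(13,20),(16,21)]]⟩,
  ⟨[0,1,3],[12,15,21],[.sym [(12,5),(15,6),(21,7)],.sym [(12,5),(15,6),(21,8)],.sym [(12,5),(15,6),(21,9)],.sym [(12,5),(15,6),(21,10)],.sym [(12,5),(15,6),(21,11)],.sym [(15,5),(21,6)],.sym [(12,5),(15,6),(21,14)],.sym [(12,5),(21,6)],.sym [(12,5),(15,6),(21,17)],.sym [(12,5),(15,6),(21,18)],.sym [(12,5),(15,6),(21,19)],.sym [(12,5),(15,6),(21,20)],.sym [(12,5),(15,6)],.sym [(12,5),(15,7),(21,8)],.sym [(12,5),(15,7),(21,9)],.sym [(12,5),(15,7),(21,10)],.sym [(12,5),(15,7),(21,11)],.sym [(15,5),(21,7)],.sym [(12,5),(15,7),(21,14)],.sym [(12,5),(21,7)],.sym [(12,5),(15,7),(21,17)],.sym [(12,5),(15,7),(21,18)],.sym [(12,5),(15,7),(21,19)],.sym [(12,5),(15,7),(21,20)],.sym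 [(12,5),(15,7)],.sym [(12,5),(15,8),(21,9)],.sym [(12,5),(15,8),(21,10)],.sym [(12,5),(15,8),(21,11)],.sym [(15,5),(21,8)],.sym [(12,5),(15,8),(21,14)],.sym [(12,5),(21,8)],.sym [(12,5),(15,8),(21,17)],.sym [(12,5),(15,8),(21,18)],.sym [(12,5),(15,8),(21,19)],.sym [(12,5),(15,8),(21,20)],.sym [(12,5),(15,8)],.sym [(12,5),(15,9),(21,10)],.sym [(12,5),(15,9),(21,11)],.sym [(15,5),(21,9)],.sym [(12,5),(15,9),(21,14)],.sym [(12,5),(21,9)],.sym [(12,5),(15,9),(21,17)],.sym [(12,5),(15,9),(21,18)],.sym [(12,5),(15,9),(21,19)],.sym [(12,5),(15,9),(21,20)],.sym [(12,5),(15,9)],.sym [(12,5),(15,10),(21,11)],.sym [(15,5),(21,10)],.sym [(12,5),(15,10),(21,14)],.sym [(12,5),(21,10)],.sym [(12,5),(15,10),(21,17)],.sym [(12,5),(15,10),(21,18)],.sym [(12,5),(15,10),(21,19)],.sym [(12,5),(15,10),(21,20)],.sym [(12,5),(15,10)],.sym [(15,5),(21,11)],.sym [(12,5),(15,11),(21,14)],.sym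 [(12,5),(21,11)],.sym [(12,5),(15,11),(21,17)],.sym [(12,5),(15,11),(21,18)],.sym [(12,5),(15,11),(21,19)],.sym [(12,5),(15,11),(21,20)],.sym [(12,5),(15,11)],.sym [(15,5),(21,14)],.sym [(21,5)],.sym [(15,5),(21,17)],.sym [(15,5),(21,18)],.sym [(15,5),(21,19)],.sym [(15,5),(21,20)],.sym [(15,5)],.sym [(12,5),(21,14)],.sym [(12,5),(15,14),(21,17)],.sym [(12,5),(15,14),(21,18)],.sym [(12,5),(15,14),(21,19)],.sym [(12,5),(15,14),(21,20)],.sym [(12,5),(15,14)],.sym [(12,5),(21,17)],.sym [(12,5),(21,18)],.sym [(12,5),(21,19)],.sym [(12,5),(21,20)],.sym [(12,5)],.sym [(12,5),(15,17),(21,18)],.sym [(12,5),(15,17),(21,19)],.sym [(12,5),(15,17),(21,20)],.sym [(12,5),(15,17)],.sym [(12,5),(15,18),(21,19)],.sym [(12,5),(15,18),(21,20)],.sym [(12,5),(15,18)],.sym [(12,5),(15,19),(21,20)],.sym [(12,5),(15,19)],.sym [(12,5),(15,20)],.sym [(12,6),(15,7),(21,8)],.sym [(12,6),(15,7),(21,9)],.sym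 [(12,6),(15,7),(21,10)],.sym [(12,6),(15,7),(21,11)],.sym [(15,6),(21,7)],.sym [(12,6),(15,7),(21,14)],.sym [(12,6),(21,7)],.sym [(12,6),(15,7),(21,17)],.sym [(12,6),(15,7),(21,18)],.sym [(12,6),(15,7),(21,19)],.sym [(12,6),(15,7),(21,20)],.sym [(12,6),(15,7)],.sym [(12,6),(15,8),(21,9)],.sym [(12,6),(15,8),(21,10)],.sym [(12,6),(15,8),(21,11)],.sym [(15,6),(21,8)],.sym [(12,6),(15,8),(21,14)],.sym [(12,6),(21,8)],.sym [(12,6),(15,8),(21,17)],.sym [(12,6),(15,8),(21,18)],.sym [(12,6),(15,8),(21,19)],.sym [(12,6),(15,8),(21,20)],.sym [(12,6),(15,8)],.sym [(12,6),(15,9),(21,10)],.sym [(12,6),(15,9),(21,11)],.sym [(15,6),(21,9)],.sym [(12,6),(15,9),(21,14)],.sym [(12,6),(21,9)],.sym [(12,6),(15,9),(21,17)],.sym [(12,6),(15,9),(21,18)],.sym [(12,6),(15,9),(21,19)],.sym [(12,6),(15,9),(21,20)],.sym [(12,6),(15,9)],.sym [(12,6),(15,10),(21,11)],.sym [(15,6),(21,10)],.sym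 [(12,6),(15,10),(21,14)],.sym [(12,6),(21,10)],.sym [(12,6),(15,10),(21,17)],.sym [(12,6),(15,10),(21,18)],.sym [(12,6),(15,10),(21,19)],.sym [(12,6),(15,10),(21,20)],.sym [(12,6),(15,10)],.sym [(15,6),(21,11)],.sym [(12,6),(15,11),(21,14)],.sym [(12,6),(21,11)],.sym [(12,6),(15,11),(21,17)],.sym [(12,6),(15,11),(21,18)],.sym [(12,6),(15,11),(21,19)],.sym [(12,6),(15,11),(21,20)],.sym [(12,6),(15,11)],.sym [(15,6),(21,14)],.sym [(21,6)],.sym [(15,6),(21,17)],.sym [(15,6),(21,18)],.sym [(15,6),(21,19)],.sym [(15,6),(21,20)],.sym [(15,6)],.sym [(12,6),(21,14)],.sym [(12,6),(15,14),(21,17)],.sym [(12,6),(15,14),(21,18)],.sym [(12,6),(15,14),(21,19)],.sym [(12,6),(15,14),(21,20)],.sym [(12,6),(15,14)],.sym [(12,6),(21,17)],.sym [(12,6),(21,18)],.sym [(12,6),(21,19)],.sym [(12,6),(21,20)],.sym [(12,6)],.sym [(12,6),(15,17),(21,18)],.sym [(12,6),(15,17),(21,19)],.sym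 [(12,6),(15,17),(21,20)],.sym [(12,6),(15,17)],.sym [(12,6),(15,18),(21,19)],.sym [(12,6),(15,18),(21,20)],.sym [(12,6),(15,18)],.sym [(12,6),(15,19),(21,20)],.sym [(12,6),(15,19)],.sym [(12,6),(15,20)],.sym [(12,7),(15,8),(21,9)],.sym [(12,7),(15,8),(21,10)],.sym [(12,7),(15,8),(21,11)],.sym [(15,7),(21,8)],.sym [(12,7),(15,8),(21,14)],.sym [(12,7),(21,8)],.sym [(12,7),(15,8),(21,17)],.sym [(12,7),(15,8),(21,18)],.sym [(12,7),(15,8),(21,19)],.sym [(12,7),(15,8),(21,20)],.sym [(12,7),(15,8)],.sym [(12,7),(15,9),(21,10)],.sym [(12,7),(15,9),(21,11)],.sym [(15,7),(21,9)],.sym [(12,7),(15,9),(21,14)],.sym [(12,7),(21,9)],.sym [(12,7),(15,9),(21,17)],.sym [(12,7),(15,9),(21,18)],.sym [(12,7),(15,9),(21,19)],.sym [(12,7),(15,9),(21,20)],.sym [(12,7),(15,9)],.sym [(12,7),(15,10),(21,11)],.sym [(15,7),(21,10)],.sym [(12,7),(15,10),(21,14)],.sym [(12,7),(21,10)],.sym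 [(12,7),(15,10),(21,17)],.sym [(12,7),(15,10),(21,18)],.sym [(12,7),(15,10),(21,19)],.sym [(12,7),(15,10),(21,20)],.sym [(12,7),(15,10)],.sym [(15,7),(21,11)],.sym [(12,7),(15,11),(21,14)],.sym [(12,7),(21,11)],.sym [(12,7),(15,11),(21,17)],.sym [(12,7),(15,11),(21,18)],.sym [(12,7),(15,11),(21,19)],.sym [(12,7),(15,11),(21,20)],.sym [(12,7),(15,11)],.sym [(15,7),(21,14)],.sym [(21,7)],.sym [(15,7),(21,17)],.sym [(15,7),(21,18)],.sym [(15,7),(21,19)],.sym [(15,7),(21,20)],.sym [(15,7)],.sym [(12,7),(21,14)],.sym [(12,7),(15,14),(21,17)],.sym [(12,7),(15,14),(21,18)],.sym [(12,7),(15,14),(21,19)],.sym [(12,7),(15,14),(21,20)],.sym [(12,7),(15,14)],.sym [(12,7),(21,17)],.sym [(12,7),(21,18)],.sym [(12,7),(21,19)],.sym [(12,7),(21,20)],.sym [(12,7)],.sym [(12,7),(15,17),(21,18)],.sym [(12,7),(15,17),(21,19)],.sym [(12,7),(15,17),(21,20)],.sym [(12,7),(15,17)],.sym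 [(12,7),(15,18),(21,19)],.sym [(12,7),(15,18),(21,20)],.sym [(12,7),(15,18)],.sym [(12,7),(15,19),(21,20)],.sym [(12,7),(15,19)],.sym [(12,7),(15,20)],.sym [(12,8),(15,9),(21,10)],.sym [(12,8),(15,9),(21,11)],.sym [(15,8),(21,9)],.sym [(12,8),(15,9),(21,14)],.sym [(12,8),(21,9)],.sym [(12,8),(15,9),(21,17)],.sym [(12,8),(15,9),(21,18)],.sym [(12,8),(15,9),(21,19)],.sym [(12,8),(15,9),(21,20)],.sym [(12,8),(15,9)],.sym [(12,8),(15,10),(21,11)],.sym [(15,8),(21,10)],.sym [(12,8),(15,10),(21,14)],.sym [(12,8),(21,10)],.sym [(12,8),(15,10),(21,17)],.sym [(12,8),(15,10),(21,18)],.sym [(12,8),(15,10),(21,19)],.sym [(12,8),(15,10),(21,20)],.sym [(12,8),(15,10)],.sym [(15,8),(21,11)],.sym [(12,8),(15,11),(21,14)],.sym [(12,8),(21,11)],.sym [(12,8),(15,11),(21,17)],.sym [(12,8),(15,11),(21,18)],.sym [(12,8),(15,11),(21,19)],.sym [(12,8),(15,11),(21,20)],.sym [(12,8),(15,11)],.sym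 [(15,8),(21,14)],.sym [(21,8)],.sym [(15,8),(21,17)],.sym [(15,8),(21,18)],.sym [(15,8),(21,19)],.sym [(15,8),(21,20)],.sym [(15,8)],.sym [(12,8),(21,14)],.sym [(12,8),(15,14),(21,17)],.sym [(12,8),(15,14),(21,18)],.sym [(12,8),(15,14),(21,19)],.sym [(12,8),(15,14),(21,20)],.sym [(12,8),(15,14)],.sym [(12,8),(21,17)],.sym [(12,8),(21,18)],.sym [(12,8),(21,19)],.sym [(12,8),(21,20)],.sym [(12,8)],.sym [(12,8),(15,17),(21,18)],.sym [(12,8),(15,17),(21,19)],.sym [(12,8),(15,17),(21,20)],.sym [(12,8),(15,17)],.sym [(12,8),(15,18),(21,19)],.sym [(12,8),(15,18),(21,20)],.sym [(12,8),(15,18)],.sym [(12,8),(15,19),(21,20)],.sym [(12,8),(15,19)],.sym [(12,8),(15,20)],.sym [(12,9),(15,10),(21,11)],.sym [(15,9),(21,10)],.sym [(12,9),(15,10),(21,14)],.sym [(12,9),(21,10)],.sym [(12,9),(15,10),(21,17)],.sym [(12,9),(15,10),(21,18)],.sym [(12,9),(15,10),(21,19)],.sym [(12,9),(15,10),(21,20)],.sym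 [(12,9),(15,10)],.sym [(15,9),(21,11)],.sym [(12,9),(15,11),(21,14)],.sym [(12,9),(21,11)],.sym [(12,9),(15,11),(21,17)],.sym [(12,9),(15,11),(21,18)],.sym [(12,9),(15,11),(21,19)],.sym [(12,9),(15,11),(21,20)],.sym [(12,9),(15,11)],.sym [(15,9),(21,14)],.sym [(21,9)],.sym [(15,9),(21,17)],.sym [(15,9),(21,18)],.sym [(15,9),(21,19)],.sym [(15,9),(21,20)],.sym [(15,9)],.sym [(12,9),(21,14)],.sym [(12,9),(15,14),(21,17)],.sym [(12,9),(15,14),(21,18)],.sym [(12,9),(15,14),(21,19)],.sym [(12,9),(15,14),(21,20)],.sym [(12,9),(15,14)],.sym [(12,9),(21,17)],.sym [(12,9),(21,18)],.sym [(12,9),(21,19)],.sym [(12,9),(21,20)],.sym [(12,9)],.sym [(12,9),(15,17),(21,18)],.sym [(12,9),(15,17),(21,19)],.sym [(12,9),(15,17),(21,20)],.sym [(12,9),(15,17)],.sym [(12,9),(15,18),(21,19)],.sym [(12,9),(15,18),(21,20)],.sym [(12,9),(15,18)],.sym [(12,9),(15,19),(21,20)],.sym [(12,9),(15,19)],.sym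 [(12,9),(15,20)],.sym [(15,10),(21,11)],.sym [(12,10),(15,11),(21,14)],.sym [(12,10),(21,11)],.sym [(12,10),(15,11),(21,17)],.sym [(12,10),(15,11),(21,18)],.sym [(12,10),(15,11),(21,19)],.sym [(12,10),(15,11),(21,20)],.sym [(12,10),(15,11)],.sym [(15,10),(21,14)],.sym [(21,10)],.sym [(15,10),(21,17)],.sym [(15,10),(21,18)],.sym [(15,10),(21,19)],.sym [(15,10),(21,20)],.sym [(15,10)],.sym [(12,10),(21,14)],.sym [(12,10),(15,14),(21,17)],.sym [(12,10),(15,14),(21,18)],.sym [(12,10),(15,14),(21,19)],.sym [(12,10),(15,14),(21,20)],.sym [(12,10),(15,14)],.sym [(12,10),(21,17)],.sym [(12,10),(21,18)],.sym [(12,10),(21,19)],.sym [(12,10),(21,20)],.sym [(12,10)],.sym [(12,10),(15,17),(21,18)],.sym [(12,10),(15,17),(21,19)],.sym [(12,10),(15,17),(21,20)],.sym [(12,10),(15,17)],.sym [(12,10),(15,18),(21,19)],.sym [(12,10),(15,18),(21,20)],.sym [(12,10),(15,18)],.sym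 [(12,10),(15,19),(21,20)],.sym [(12,10),(15,19)],.sym [(12,10),(15,20)],.sym [(15,11),(21,14)],.sym [(21,11)],.sym [(15,11),(21,17)],.sym [(15,11),(21,18)],.sym [(15,11),(21,19)],.sym [(15,11),(21,20)],.sym [(15,11)],.sym [(12,11),(21,14)],.sym [(12,11),(15,14),(21,17)],.sym [(12,11),(15,14),(21,18)],.sym [(12,11),(15,14),(21,19)],.sym [(12,11),(15,14),(21,20)],.sym [(12,11),(15,14)],.sym [(12,11),(21,17)],.sym [(12,11),(21,18)],.sym [(12,11),(21,19)],.sym [(12,11),(21,20)],.sym [(12,11)],.sym [(12,11),(15,17),(21,18)],.sym [(12,11),(15,17),(21,19)],.sym [(12,11),(15,17),(21,20)],.sym [(12,11),(15,17)],.sym [(12,11),(15,18),(21,19)],.sym [(12,11),(15,18),(21,20)],.sym [(12,11),(15,18)],.sym [(12,11),(15,19),(21,20)],.sym [(12,11),(15,19)],.sym [(12,11),(15,20)],.sym [(21,14)],.sym [(15,14),(21,17)],.sym [(15,14),(21,18)],.sym [(15,14),(21,19)],.sym [(15,14),(21,20)],.sym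 [(15,14)],.sym [(21,17)],.sym [(21,18)],.sym [(21,19)],.sym [(21,20)],.main,.sym [(15,17),(21,18)],.sym [(15,17),(21,19)],.sym [(15,17),(21,20)],.sym [(15,17)],.sym [(15,18),(21,19)],.sym [(15,18),(21,20)],.sym [(15,18)],.sym [(15,19),(21,20)],.sym [(15,19)],.sym [(15,20)],.sym [(12,14),(21,17)],.sym [(12,14),(21,18)],.sym [(12,14),(21,19)],.sym [(12,14),(21,20)],.sym [(12,14)],.sym [(12,14),(15,17),(21,18)],.sym [(12,14),(15,17),(21,19)],.sym [(12,14),(15,17),(21,20)],.sym [(12,14),(15,17)],.sym [(12,14),(15,18),(21,19)],.sym [(12,14),(15,18),(21,20)],.sym [(12,14),(15,18)],.sym [(12,14),(15,19),(21,20)],.sym [(12,14),(15,19)],.sym [(12,14),(15,20)],.sym [(12,17),(21,18)],.sym [(12,17),(21,19)],.sym [(12,17),(21,20)],.sym [(12,17)],.sym [(12,18),(21,19)],.sym [(12,18),(21,20)],.sym [(12,18)],.sym [(12,19),(21,20)],.sym [(12,19)],.sym [(12,20)],.sym [(12,17),(15,18),(21,19)],.sym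 [(12,17),(15,18),(21,20)],.sym [(12,17),(15,18)],.sym [(12,17),(15,19),(21,20)],.sym [(12,17),(15,19)],.sym [(12,17),(15,20)],.sym [(12,18),(15,19),(21,20)],.sym [(12,18),(15,19)],.sym [(12,18),(15,20)],.sym [(12,19),(15,20)]]⟩,
  ⟨[0,1,5],[6,18,20],[.sym [(18,7),(20,8)],.sym [(18,7),(20,9)],.sym [(18,7),(20,10)],.sym [(18,7),(20,11)],.sym [(18,7),(20,14)],.sym [(18,7),(20,17)],.sym [(20,7)],.sym [(18,7),(20,19)],.sym [(18,7)],.sym [(18,8),(20,9)],.sym [(18,8),(20,10)],.sym [(18,8),(20,11)],.sym [(18,8),(20,14)],.sym [(18,8),(20,17)],.sym [(20,8)],.sym [(18,8),(20,19)],.sym [(18,8)],.sym [(18,9),(20,10)],.sym [(18,9),(20,11)],.sym [(18,9),(20,14)],.sym [(18,9),(20,17)],.sym [(20,9)],.sym [(18,9),(20,19)],.sym [(18,9)],.sym [(18,10),(20,11)],.sym [(18,10),(20,14)],.sym [(18,10),(20,17)],.sym [(20,10)],.sym [(18,10),(20,19)],.sym [(18,10)],.sym [(18,11),(20,14)],.sym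 [(18,11),(20,17)],.sym [(20,11)],.sym [(18,11),(20,19)],.sym [(18,11)],.sym [(18,14),(20,17)],.sym [(20,14)],.sym [(18,14),(20,19)],.sym [(18,14)],.sym [(20,17)],.sym [(18,17),(20,19)],.sym [(18,17)],.sym [(20,19)],.main,.sym [(18,19)],.sym [(6,7),(18,8),(20,9)],.sym [(6,7),(18,8),(20,10)],.sym [(6,7),(18,8),(20,11)],.sym [(6,7),(18,8),(20,14)],.sym [(6,7),(18,8),(20,17)],.sym [(6,7),(20,8)],.sym [(6,7),(18,8),(20,19)],.sym [(6,7),(18,8)],.sym [(6,7),(18,9),(20,10)],.sym [(6,7),(18,9),(20,11)],.sym [(6,7),(18,9),(20,14)],.sym [(6,7),(18,9),(20,17)],.sym [(6,7),(20,9)],.sym [(6,7),(18,9),(20,19)],.sym [(6,7),(18,9)],.sym [(6,7),(18,10),(20,11)],.sym [(6,7),(18,10),(20,14)],.sym [(6,7),(18,10),(20,17)],.sym [(6,7),(20,10)],.sym [(6,7),(18,10),(20,19)],.sym [(6,7),(18,10)],.sym [(6,7),(18,11),(20,14)],.sym [(6,7),(18,11),(20,17)],.sym [(6,7),(20,11)],.sym [(6,7),(18,11),(20,19)],.sym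 [(6,7),(18,11)],.sym [(6,7),(18,14),(20,17)],.sym [(6,7),(20,14)],.sym [(6,7),(18,14),(20,19)],.sym [(6,7),(18,14)],.sym [(6,7),(20,17)],.sym [(6,7),(18,17),(20,19)],.sym [(6,7),(18,17)],.sym [(6,7),(20,19)],.sym [(6,7)],.sym [(6,7),(18,19)],.sym [(6,8),(18,9),(20,10)],.sym [(6,8),(18,9),(20,11)],.sym [(6,8),(18,9),(20,14)],.sym [(6,8),(18,9),(20,17)],.sym [(6,8),(20,9)],.sym [(6,8),(18,9),(20,19)],.sym [(6,8),(18,9)],.sym [(6,8),(18,10),(20,11)],.sym [(6,8),(18,10),(20,14)],.sym [(6,8),(18,10),(20,17)],.sym [(6,8),(20,10)],.sym [(6,8),(18,10),(20,19)],.sym [(6,8),(18,10)],.sym [(6,8),(18,11),(20,14)],.sym [(6,8),(18,11),(20,17)],.sym [(6,8),(20,11)],.sym [(6,8),(18,11),(20,19)],.sym [(6,8),(18,11)],.sym [(6,8),(18,14),(20,17)],.sym [(6,8),(20,14)],.sym [(6,8),(18,14),(20,19)],.sym [(6,8),(18,14)],.sym [(6,8),(20,17)],.sym [(6,8),(18,17),(20,19)],.sym [(6,8),(18,17)],.sym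 [(6,8),(20,19)],.sym [(6,8)],.sym [(6,8),(18,19)],.sym [(6,9),(18,10),(20,11)],.sym [(6,9),(18,10),(20,14)],.sym [(6,9),(18,10),(20,17)],.sym [(6,9),(20,10)],.sym [(6,9),(18,10),(20,19)],.sym [(6,9),(18,10)],.sym [(6,9),(18,11),(20,14)],.sym [(6,9),(18,11),(20,17)],.sym [(6,9),(20,11)],.sym [(6,9),(18,11),(20,19)],.sym [(6,9),(18,11)],.sym [(6,9),(18,14),(20,17)],.sym [(6,9),(20,14)],.sym [(6,9),(18,14),(20,19)],.sym [(6,9),(18,14)],.sym [(6,9),(20,17)],.sym [(6,9),(18,17),(20,19)],.sym [(6,9),(18,17)],.sym [(6,9),(20,19)],.sym [(6,9)],.sym [(6,9),(18,19)],.sym [(6,10),(18,11),(20,14)],.sym [(6,10),(18,11),(20,17)],.sym [(6,10),(20,11)],.sym [(6,10),(18,11),(20,19)],.sym [(6,10),(18,11)],.sym [(6,10),(18,14),(20,17)],.sym [(6,10),(20,14)],.sym [(6,10),(18,14),(20,19)],.sym [(6,10),(18,14)],.sym [(6,10),(20,17)],.sym [(6,10),(18,17),(20,19)],.sym [(6,10),(18,17)],.sym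 [(6,10),(20,19)],.sym [(6,10)],.sym [(6,10),(18,19)],.sym [(6,11),(18,14),(20,17)],.sym [(6,11),(20,14)],.sym [(6,11),(18,14),(20,19)],.sym [(6,11),(18,14)],.sym [(6,11),(20,17)],.sym [(6,11),(18,17),(20,19)],.sym [(6,11),(18,17)],.sym [(6,11),(20,19)],.sym [(6,11)],.sym [(6,11),(18,19)],.sym [(6,14),(20,17)],.sym [(6,14),(18,17),(20,19)],.sym [(6,14),(18,17)],.sym [(6,14),(20,19)],.sym [(6,14)],.sym [(6,14),(18,19)],.sym [(6,17),(20,19)],.sym [(6,17)],.sym [(6,17),(18,19)],.sym [(6,19)]]⟩,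
  ⟨[0,1,7],[10,11,17],[.sym [(11,8),(17,9)],.sym [(10,8),(17,9)],.sym [(10,8),(11,9),(17,14)],.sym [(10,8),(11,9)],.sym [(10,8),(11,9),(17,19)],.sym [(17,8)],.sym [(11,8),(17,14)],.sym [(11,8)],.sym [(11,8),(17,19)],.sym [(10,8),(17,14)],.sym [(10,8)],.sym [(10,8),(17,19)],.sym [(10,8),(11,14)],.sym [(10,8),(11,14),(17,19)],.sym [(10,8),(11,19)],.sym [(17,9)],.sym [(11,9),(17,14)],.sym [(11,9)],.sym [(11,9),(17,19)],.sym [(10,9),(17,14)],.sym [(10,9)],.sym [(10,9),(17,19)],.sym [(10,9),(11,14)],.sym [(10,9),(11,14),(17,19)],.sym [(10,9),(11,19)],.sym [(17,14)],.main,.sym [(17,19)],.sym [(11,14)],.sym [(11,14),(17,19)],.sym [(11,19)],.sym [(10,14)],.sym [(10,14),(17,19)],.sym [(10,19)],.sym [(10,14),(11,19)]]⟩,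
  ⟨[0,1,8],[9,14,19],[.main]⟩,
  ⟨[0,2,3],[10,18,19],[.dead [0,5,6],.dead [0,5,6],.dead [0,5,6],.dead [0,5,6],.dead [0,5,6],.dead [0,5,6],.dead [0,5,6],.dead [0,5,6],.dead [0,5,6],.dead [0,5,6],.sym [(5,10),(6,11),(7,6),(8,9),(8,14),(7,18),(8,19),(17,20)],.sym [(5,10),(6,11),(7,6),(9,14),(7,18),(9,19),(17,20)],.dead [0,7,10],.dead [0,7,11],.sym [(5,10),(6,11),(7,6),(7,18),(14,19),(17,20)],.dead [0,7,17],.dead [0,5,18],.sym [(5,10),(6,11),(7,6),(7,18),(17,20)],.dead [0,5,20],.dead [0,8,9],.sym [(18,5),(19,8)],.sym [(5,9),(6,14),(7,6),(8,7),(5,10),(11,18),(8,17),(8,20),(11,8),(19,11)],.dead [0,8,14],.sym [(5,9),(6,14),(7,6),(8,7),(5,10),(11,18),(8,11),(17,20),(19,17)],.dead [0,5,18],.dead [0,8,19],.dead [0,5,20],.sym [(18,5),(19,9)],.sym [(5,8),(6,14),(7,6),(5,7),(9,10),(9,5),(11,18),(9,17),(9,20),(11,9),(19,11)],.dead [0,9,14],.sym [(5,8),(6,14),(7,6),(5,7),(9,10),(9,5),(11,18),(9,11),(17,20),(19,17)],.dead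 [0,5,18],.dead [0,9,19],.dead [0,5,20],.dead [0,10,11],.sym [(18,5),(19,14)],.dead [0,10,17],.dead [0,5,18],.sym [(18,5)],.dead [0,5,20],.sym [(5,7),(6,10),(5,6),(11,18),(14,19),(17,20)],.dead [0,11,17],.dead [0,5,18],.sym [(5,7),(6,10),(5,6),(11,18),(17,20)],.dead [0,5,20],.sym [(5,8),(6,9),(7,6),(5,7),(5,10),(11,18),(14,11),(17,20),(19,17)],.dead [0,5,18],.dead [0,14,19],.dead [0,5,20],.dead [0,5,18],.sym [(5,7),(6,10),(5,6),(11,18),(17,20),(11,17)],.dead [0,5,20],.dead [0,5,18],.dead [0,5,18],.dead [0,5,20],.sym [(5,10),(6,11),(7,5),(8,9),(8,14),(7,6),(7,18),(8,19),(17,20)],.sym [(5,10),(6,11),(7,5),(9,14),(7,6),(7,18),(9,19),(17,20)],.dead [0,7,10],.dead [0,7,11],.sym [(5,10),(6,11),(7,5),(7,6),(7,18),(14,19),(17,20)],.dead [0,7,17],.dead [0,6,18],.sym [(5,10),(6,11),(7,5),(7,6),(7,18),(17,20)],.dead [0,6,20],.dead [0,8,9],.sym [(18,6),(19,8)],.sym [(5,9),(6,14),(7,5),(8,7),(8,10),(8,6),(11,18),(8,17),(8,20),(11,8),(19,11)],.dead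 [0,8,14],.sym [(5,9),(6,14),(7,5),(8,7),(8,10),(8,6),(11,18),(8,11),(17,20),(19,17)],.dead [0,6,18],.dead [0,8,19],.dead [0,6,20],.sym [(18,6),(19,9)],.sym [(5,8),(6,14),(7,5),(9,10),(9,6),(11,18),(9,17),(9,20),(11,9),(19,11)],.dead [0,9,14],.sym [(5,8),(6,14),(7,5),(9,10),(9,6),(11,18),(9,11),(17,20),(19,17)],.dead [0,6,18],.dead [0,9,19],.dead [0,6,20],.dead [0,10,11],.sym [(18,6),(19,14)],.dead [0,10,17],.dead [0,6,18],.sym [(18,6)],.dead [0,6,20],.sym [(5,7),(6,10),(11,18),(14,19),(17,20)],.dead [0,11,17],.dead [0,6,18],.sym [(5,7),(6,10),(11,18),(17,20)],.dead [0,6,20],.sym [(5,8),(6,9),(7,5),(6,10),(11,18),(14,11),(17,20),(19,17)],.dead [0,6,18],.dead [0,14,19],.dead [0,6,20],.dead [0,6,18],.sym [(5,7),(6,10),(11,18),(17,20),(11,17)],.dead [0,6,20],.dead [0,6,18],.dead [0,6,18],.dead [0,6,20],.dead [0,8,9],.dead [0,7,10],.dead [0,7,11],.dead [0,8,14],.dead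 [0,7,17],.sym [(10,7),(19,8)],.dead [0,8,19],.sym [(5,9),(6,14),(7,10),(8,5),(8,6),(8,18),(19,20)],.dead [0,7,10],.dead [0,7,11],.dead [0,9,14],.dead [0,7,17],.sym [(10,7),(19,9)],.dead [0,9,19],.sym [(5,8),(6,14),(7,10),(9,6),(9,18),(19,20)],.dead [0,7,10],.dead [0,7,10],.dead [0,7,10],.dead [0,7,10],.dead [0,7,10],.dead [0,7,10],.dead [0,7,11],.dead [0,7,11],.dead [0,7,11],.dead [0,7,11],.dead [0,7,11],.dead [0,7,17],.sym [(10,7),(19,14)],.dead [0,14,19],.sym [(5,8),(6,9),(7,10),(14,18),(19,20)],.dead [0,7,17],.dead [0,7,17],.dead [0,7,17],.sym [(10,7)],.dead [0,18,20],.sym [(10,7),(18,20)],.dead [0,8,9],.dead [0,8,9],.dead [0,8,9],.dead [0,8,9],.dead [0,8,9],.dead [0,8,9],.dead [0,8,9],.dead [0,10,11],.dead [0,8,14],.dead [0,10,17],.sym [(19,8)],.dead [0,8,19],.sym [(5,7),(6,11),(5,9),(8,5),(8,6),(10,8),(10,14),(10,18),(17,19),(17,20)],.dead [0,8,14],.dead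 [0,11,17],.sym [(5,7),(6,10),(5,9),(8,5),(8,6),(11,14),(11,20),(17,19),(18,11),(17,18)],.dead [0,8,19],.sym [(5,7),(6,10),(5,9),(8,5),(8,6),(11,14),(11,18),(17,19),(17,20)],.dead [0,8,14],.dead [0,8,14],.dead [0,8,14],.dead [0,8,14],.sym [(5,7),(6,10),(5,9),(8,5),(8,6),(11,14),(11,20),(17,19),(18,17)],.dead [0,8,19],.sym [(5,7),(6,10),(5,9),(8,5),(8,6),(11,14),(11,18),(17,19),(11,17),(11,20)],.dead [0,8,19],.dead [0,18,20],.dead [0,8,19],.dead [0,10,11],.dead [0,9,14],.dead [0,10,17],.sym [(19,9)],.dead [0,9,19],.sym [(5,7),(6,11),(5,8),(9,6),(10,9),(10,14),(10,18),(17,19),(17,20)],.dead [0,9,14],.dead [0,11,17],.sym [(5,7),(6,10),(5,8),(9,6),(11,14),(11,20),(17,19),(18,11),(17,18)],.dead [0,9,19],.sym [(5,7),(6,10),(5,8),(9,6),(11,14),(11,18),(17,19),(17,20)],.dead [0,9,14],.dead [0,9,14],.dead [0,9,14],.dead [0,9,14],.sym [(5,7),(6,10),(5,8),(9,6),(11,14),(11,20),(17,19),(18,17)],.dead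 [0,9,19],.sym [(5,7),(6,10),(5,8),(9,6),(11,14),(11,18),(17,19),(11,17),(11,20)],.dead [0,9,19],.dead [0,18,20],.dead [0,9,19],.dead [0,10,11],.dead [0,10,11],.dead [0,10,11],.dead [0,10,11],.dead [0,10,11],.dead [0,10,17],.sym [(19,14)],.dead [0,14,19],.sym [(5,8),(6,9),(14,18),(19,20)],.dead [0,10,17],.dead [0,10,17],.dead [0,10,17],.main,.dead [0,18,20],.sym [(18,20)],.dead [0,11,17],.sym [(10,11),(19,14)],.dead [0,14,19],.sym [(5,8),(6,9),(10,11),(14,18),(19,20)],.dead [0,11,17],.dead [0,11,17],.dead [0,11,17],.sym [(10,11)],.dead [0,18,20],.sym [(10,11),(18,20)],.sym [(5,7),(6,10),(5,8),(9,6),(9,14),(11,9),(11,20),(17,19),(18,17)],.dead [0,14,19],.sym [(5,7),(6,10),(5,8),(9,6),(9,14),(11,9),(11,18),(17,19),(11,17),(11,20)],.dead [0,14,19],.dead [0,18,20],.dead [0,14,19],.sym [(10,17)],.dead [0,18,20],.sym [(10,17),(18,20)],.dead [0,18,20]]⟩,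
  ⟨[0,2,5],[7,9,12],[.dead [0,8,9],.dead [0,7,11],.sym [(9,8)],.dead [0,8,14],.sym [(9,8),(12,15)],.dead [0,7,17],.sym [(9,8),(12,21)],.dead [0,7,11],.main,.dead [0,9,14],.sym [(12,15)],.dead [0,7,17],.sym [(12,21)],.dead [0,7,11],.dead [0,7,11],.dead [0,7,11],.dead [0,7,11],.dead [0,7,11],.sym [(9,14)],.dead [0,12,15],.dead [0,7,17],.dead [0,12,21],.sym [(9,14),(12,15)],.dead [0,7,17],.sym [(9,14),(12,21)],.dead [0,7,17],.dead [0,15,21],.dead [0,7,17],.dead [0,8,9],.dead [0,8,9],.dead [0,8,9],.dead [0,8,9],.dead [0,8,9],.dead [0,8,9],.sym [(7,8),(9,11),(10,19),(14,17)],.dead [0,8,14],.sym [(7,8),(9,11),(10,19),(12,15),(14,17)],.dead [0,11,17],.sym [(7,8),(9,11),(10,19),(12,21),(14,17),(15,12)],.dead [0,8,14],.dead [0,12,15],.sym [(7,8),(9,17),(10,19),(11,9),(14,11)],.dead [0,12,21],.dead [0,8,14],.dead [0,8,14],.dead [0,8,14],.sym [(7,8),(9,17),(10,19),(11,9),(12,15),(14,11)],.dead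 [0,15,21],.sym [(7,8),(9,17),(10,19),(11,9),(12,21),(14,11),(15,12)],.sym [(7,11)],.dead [0,9,14],.sym [(7,11),(12,15)],.dead [0,11,17],.sym [(7,11),(12,21)],.dead [0,9,14],.dead [0,12,15],.sym [(7,17)],.dead [0,12,21],.dead [0,9,14],.dead [0,9,14],.dead [0,9,14],.sym [(7,9),(8,7),(8,17),(10,19),(11,8),(12,15),(14,11)],.dead [0,15,21],.sym [(7,17),(12,21)],.sym [(7,11),(9,14)],.dead [0,12,15],.dead [0,11,17],.dead [0,12,21],.sym [(7,11),(9,14),(12,15)],.dead [0,11,17],.sym [(7,11),(9,14),(12,21)],.dead [0,11,17],.dead [0,15,21],.dead [0,11,17],.dead [0,12,15],.sym [(7,14),(8,7),(9,17),(10,19),(11,8)],.dead [0,12,21],.dead [0,12,15],.dead [0,12,15],.dead [0,12,21],.sym [(7,14),(8,7),(9,17),(10,19),(11,8),(12,15)],.dead [0,15,21],.sym [(7,14),(8,7),(9,17),(10,19),(11,8),(12,21),(15,12)],.dead [0,15,21]]⟩,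
  ⟨[0,2,6],[8,15,17],[.dead [0,8,14],.sym [(17,11)],.dead [0,11,17],.sym [(11,17),(15,21)],.dead [0,8,14],.dead [0,8,14],.dead [0,8,14],.main,.dead [0,15,21],.sym [(15,21)],.sym [(8,14),(11,17)],.dead [0,11,17],.sym [(8,14),(11,17),(15,21)],.dead [0,11,17],.dead [0,15,21],.dead [0,11,17],.sym [(8,14)],.dead [0,15,21],.sym [(8,14),(15,21)],.dead [0,15,21]]⟩,
  ⟨[0,2,11],[14,20,21],[.main]⟩,
  ⟨[0,3,4],[6,7,14],[.dead [0,5,6],.dead [0,5,6],.dead [0,5,6],.dead [0,5,6],.dead [0,5,6],.dead [0,5,6],.dead [0,5,6],.dead [0,5,7],.dead [0,5,7],.dead [0,5,7],.dead [0,5,7],.dead [0,5,7],.dead [0,5,7],.dead [0,5,9],.sym [(5,6),(7,8),(9,17),(10,19),(11,14),(12,15)],.dead [0,8,14],.dead [0,8,17],.dead [0,5,20],.dead [0,5,9],.dead [0,5,9],.dead [0,5,9],.dead [0,5,9],.dead [0,11,14],.dead [0,11,17],.dead [0,5,20],.sym [(5,6),(7,17),(8,9),(12,15)],.dead [0,5,20],.dead [0,5,20],.dead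 [0,6,8],.dead [0,7,9],.dead [0,7,11],.main,.dead [0,6,17],.dead [0,6,20],.dead [0,6,8],.dead [0,6,8],.dead [0,6,8],.dead [0,6,8],.dead [0,6,8],.sym [(7,9),(8,17),(10,19),(11,14)],.dead [0,9,14],.dead [0,6,17],.dead [0,6,20],.dead [0,11,14],.dead [0,6,17],.dead [0,6,20],.dead [0,6,17],.dead [0,6,20],.dead [0,6,17],.dead [0,7,9],.dead [0,7,11],.dead [0,8,14],.dead [0,7,17],.sym [(5,11),(6,7),(6,20),(8,9),(8,14),(10,18),(5,6),(12,21),(15,12),(17,5)],.dead [0,7,9],.dead [0,7,9],.dead [0,7,9],.dead [0,7,9],.dead [0,7,11],.dead [0,7,11],.dead [0,7,11],.dead [0,7,17],.dead [0,14,20],.dead [0,7,17],.dead [0,8,9],.dead [0,8,9],.dead [0,8,9],.dead [0,8,9],.dead [0,8,14],.dead [0,8,17],.dead [0,11,20],.dead [0,8,14],.dead [0,8,14],.dead [0,8,17],.dead [0,9,14],.dead [0,11,17],.dead [0,11,20],.dead [0,9,14],.dead [0,9,14],.sym [(5,8),(6,9),(7,17),(12,15),(14,20),(18,19)],.dead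 [0,11,14],.dead [0,11,14],.dead [0,11,17],.dead [0,14,20]]⟩,
  ⟨[0,3,5],[8,11,16],[.sym [(16,13)],.main,.dead [0,8,17],.dead [0,13,16],.dead [0,8,17],.dead [0,8,17],.dead [0,13,16],.dead [0,11,17],.dead [0,11,17],.dead [0,13,16]]⟩,
  ⟨[0,3,9],[13,17,20],[.main]⟩,
  ⟨[0,4,5],[17,19,21],[.dead [0,10,17],.dead [0,10,19],.dead [0,15,21],.dead [0,10,17],.dead [0,10,17],.dead [0,10,19],.dead [0,15,17],.dead [0,15,17],.dead [0,15,21],.main]⟩,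
  ⟨[0,4,8],[10,12,20],[.dead [0,10,18],.main,.dead [0,10,18],.dead [0,18,20]]⟩,
  ⟨[0,4,9],[11,15,18],[.main]⟩,
  ⟨[0,5,10],[13,14,15],[.main]⟩,
  ⟨[0,6,9],[10,16,21],[.main]⟩,
  ⟨[0,6,11],[12,13,19],[.main]⟩,
  ⟨[0,7,8],[13,18,21],[.main]⟩,
  ⟨[0,7,15],[16,19,20],[.main]⟩,
  ⟨[0,12,14],[16,17,18],[.main]⟩,
  ⟨[1,2,3],[7,8,20],[.dead [1,5,6],.dead [1,5,6],.dead [1,5,6],.dead [1,5,6],.dead [1,5,6],.dead [1,5,6],.dead [1,5,6],.dead [2,5,7],.dead [2,5,7],.dead [1,7,11],.dead [2,5,7],.dead [1,7,17],.dead [1,5,20],.dead [1,8,9],.dead [3,5,8],.dead [1,8,14],.dead [2,8,17],.dead [1,5,20],.dead [2,5,9],.dead [1,9,14],.dead [2,5,9],.dead [1,5,20],.dead [2,11,14],.dead [1,11,17],.dead [1,5,20],.sym [(5,11),(6,7),(6,14),(8,5),(9,20),(10,19),(12,21),(15,12),(17,9),(18,10)],.dead [1,5,20],.dead [1,5,20],.dead [2,6,8],.dead [2,7,9],.dead [1,7,11],.dead [3,6,7],.dead [1,7,17],.dead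 [1,6,20],.dead [1,8,9],.dead [2,6,8],.dead [1,8,14],.dead [2,6,8],.dead [1,6,20],.sym [(5,8),(6,14),(7,6),(5,11),(9,17),(10,18),(12,15),(12,21),(9,20),(10,19)],.dead [1,9,14],.dead [2,6,17],.dead [1,6,20],.dead [2,11,14],.dead [1,11,17],.dead [1,6,20],.dead [2,6,17],.dead [1,6,20],.dead [1,6,20],.dead [1,8,9],.dead [1,7,11],.dead [1,8,14],.dead [1,7,17],.main,.dead [1,7,11],.dead [1,9,14],.dead [1,7,17],.dead [2,7,9],.dead [1,7,11],.dead [1,7,11],.dead [1,7,11],.dead [1,7,17],.dead [2,14,20],.dead [1,7,17],.dead [1,8,9],.dead [1,8,9],.dead [1,8,9],.dead [1,8,9],.dead [1,8,14],.dead [1,11,17],.dead [2,11,20],.dead [1,8,14],.dead [1,8,14],.dead [2,8,17],.dead [1,9,14],.dead [1,11,17],.dead [2,11,20],.dead [1,9,14],.dead [1,9,14],.dead [3,9,17],.dead [1,11,17],.dead [2,11,14],.dead [1,11,17],.dead [2,14,20]]⟩,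
  ⟨[1,2,5],[11,15,19],[.dead [1,10,11],.dead [1,10,11],.dead [1,10,11],.dead [1,10,11],.dead [1,10,11],.dead [5,10,14],.dead [1,10,17],.dead [1,14,19],.dead [2,14,21],.dead [1,10,17],.dead [2,10,19],.dead [1,15,21],.dead [1,10,17],.dead [1,10,17],.dead [2,10,19],.dead [2,11,14],.dead [1,11,17],.dead [1,14,19],.dead [2,11,14],.dead [1,11,17],.main,.dead [1,15,21],.dead [1,11,17],.dead [1,11,17],.dead [2,11,21],.dead [2,15,17],.dead [1,14,19],.dead [1,15,21],.dead [1,14,19],.dead [2,14,21],.dead [1,14,19],.dead [2,15,17],.dead [1,15,21],.dead [1,15,21],.dead [5,17,19]]⟩,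
  ⟨[1,2,6],[10,12,14],[.dead [2,9,12],.dead [1,9,14],.dead [6,9,10],.dead [1,9,14],.dead [1,12,21],.dead [1,9,14],.main,.dead [1,12,21],.dead [2,14,21],.dead [1,12,21]]⟩,
  ⟨[1,2,9],[17,18,21],[.main]⟩,
  ⟨[1,3,4],[5,9,10],[.main,.dead [1,5,11],.dead [1,9,17],.dead [1,5,18],.dead [1,5,19],.dead [1,5,11],.dead [1,10,17],.dead [1,5,18],.dead [1,5,19],.dead [1,5,11],.dead [1,5,11],.dead [1,5,11],.dead [1,5,18],.dead [1,5,19],.dead [1,5,18],.dead [1,10,11],.dead [1,9,17],.dead [1,9,18],.dead [1,9,19],.dead [1,9,17],.dead [1,9,18],.dead [1,9,19],.dead [1,9,17],.dead [1,9,17],.dead [1,9,18],.dead [1,10,11],.dead [1,10,11],.dead [1,10,11],.dead [1,10,17],.dead [1,10,17],.dead [3,10,18],.dead [1,11,17],.dead [1,11,17],.dead [1,11,19],.dead [1,17,18]]⟩,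
  ⟨[1,3,6],[16,17,19],[.dead [1,13,16],.dead [1,11,17],.dead [1,11,19],.dead [1,11,17],.dead [1,11,19],.dead [1,11,17],.dead [1,13,16],.dead [1,13,16],.dead [3,13,17],.main]⟩,
  ⟨[1,3,11],[13,14,18],[.main]⟩,
  ⟨[1,4,6],[8,11,21],[.dead [1,11,15],.main,.dead [1,15,21],.dead [1,11,15]]⟩,
  ⟨[1,4,7],[12,18,19],[.dead [1,12,15],.dead [1,12,15],.main,.dead [1,15,19]]⟩,
  ⟨[1,4,14],[15,17,20],[.main]⟩,
  ⟨[1,5,7],[14,16,21],[.dead [1,13,14],.dead [1,13,14],.dead [1,13,16],.main]⟩,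
  ⟨[1,5,8],[12,13,17],[.main]⟩,
  ⟨[1,6,7],[9,13,15],[.main]⟩,
  ⟨[1,8,10],[15,16,18],[.main]⟩,
  ⟨[1,9,11],[12,16,20],[.main]⟩,
  ⟨[1,10,13],[19,20,21],[.main]⟩,
  ⟨[2,3,4],[11,12,17],[.dead [2,11,15],.main,.dead [2,11,21],.dead [2,11,15],.dead [2,11,15],.dead [2,11,21],.dead [2,15,17],.dead [3,12,15],.dead [2,17,21],.dead [2,15,17]]⟩,
  ⟨[2,3,5],[6,13,21],[.dead [2,6,14],.main,.dead [2,6,14],.dead [2,14,21]]⟩,
  ⟨[2,3,9],[14,15,16],[.main]⟩]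

noncomputable def cert22_1 : List Node := [
  ⟨[2,4,5],[8,14,18],[.main,.dead [2,8,20],.dead [2,8,20],.dead [2,14,20]]⟩,
  ⟨[2,4,6],[9,19,20],[.main]⟩,
  ⟨[2,4,7],[10,15,21],[.main]⟩,
  ⟨[2,5,10],[16,17,20],[.main]⟩,
  ⟨[2,6,7],[11,16,18],[.main]⟩,
  ⟨[2,7,13],[14,17,19],[.main]⟩,
  ⟨[2,8,9],[10,11,13],[.main]⟩,
  ⟨[2,8,12],[16,19,21],[.main]⟩,
  ⟨[2,12,13],[15,18,20],[.main]⟩,
  ⟨[3,4,8],[13,15,19],[.main]⟩,
  ⟨[3,4,16],[18,20,21],[.main]⟩,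
  ⟨[3,5,7],[15,17,18],[.main,.dead [3,15,19],.dead [3,15,19],.dead [3,17,19]]⟩,
  ⟨[3,5,12],[14,19,20],[.main]⟩,
  ⟨[3,6,8],[9,12,18],[.dead [3,9,10],.dead [3,9,10],.main,.dead [3,10,18]]⟩,
  ⟨[3,6,10],[11,15,20],[.main]⟩,
  ⟨[3,7,9],[11,19,21],[.main]⟩,
  ⟨[3,7,10],[12,13,16],[.main]⟩,
  ⟨[3,8,10],[14,17,21],[.main]⟩,
  ⟨[4,5,6],[12,15,16],[.main]⟩,
  ⟨[4,5,7],[11,13,20],[.main]⟩,
  ⟨[4,6,10],[13,17,18],[.main]⟩,
  ⟨[4,7,8],[9,16,17],[.main]⟩,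
  ⟨[4,9,12],[13,14,21],[.main]⟩,
  ⟨[4,10,11],[14,16,19],[.main]⟩,
  ⟨[5,6,7],[8,10,19],[.main]⟩,
  ⟨[5,6,9],[11,14,17],[.main]⟩,
  ⟨[5,8,9],[15,20,21],[.main]⟩,
  ⟨[5,9,13],[16,18,19],[.main]⟩,
  ⟨[5,10,11],[12,18,21],[.main]⟩,
  ⟨[6,7,12],[17,20,21],[.main]⟩,
  ⟨[6,8,13],[14,16,20],[.main]⟩,
  ⟨[6,14,15],[18,19,21],[.main]⟩,
  ⟨[7,8,11],[12,14,15],[.main]⟩,
  ⟨[7,9,10],[14,18,20],[.main]⟩,
  ⟨[8,11,17],[18,19,20],[.main]⟩,
  ⟨[9,10,12],[15,17,19],[.main]⟩,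
  ⟨[11,13,15],[16,17,21],[.main]⟩]

noncomputable def cert22 : List Node := cert22_0 ++ cert22_1

theorem cert22_ok : run 22 3 6 77 (2 ^ 77 - 1) (List.range 22) cert22 [] 0 0 = true := by
  decide +kernel

end Cfsg.Agent.Lib.Helper7.SC
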