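import Cfsg.Agent.Lib.Helper7.SteinerCert

set_option autoImplicit false

set_option maxRecDepth 100000

namespace Cfsg.Agent.Lib.Helper7.SC

noncomputable def cert23_0 : List Node := [
  ⟨[0,1,2,3],[5,14,17],[.sym [(14,4),(17,6)],.sym [(14,4),(17,7)],.sym [(14,4),(17,8)],.sym [(14,4),(17,9)],.sym [(14,4),(17,10)],.sym [(14,4),(17,11)],.sym [(14,4),(17,12)],.sym [(14,4),(17,13)],.sym [(17,4)],.sym [(14,4),(17,15)],.sym [(14,4),(17,16)],.sym [(14,4)],.sym [(14,4),(17,18)],.sym [(14,4),(17,19)],.sym [(14,4),(17,20)],.sym [(14,4),(17,21)],.sym [(14,4),(17,22)],.sym [(5,4),(14,6),(17,7)],.sym [(5,4),(14,6),(17,8)],.sym [(5,4),(14,6),(17,9)],.sym [(5,4),(14,6),(17,10)],.sym [(5,4),(14,6),(17,11)],.sym [(5,4),(14,6),(17,12)],.sym [(5,4),(14,6),(17,13)],.sym [(5,4),(17,6)],.sym [(5,4),(14,6),(17,15)],.sym [(5,4),(14,6),(17,16)],.sym [(5,4),(14,6)],.sym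 [(5,4),(14,6),(17,18)],.sym [(5,4),(14,6),(17,19)],.sym [(5,4),(14,6),(17,20)],.sym [(5,4),(14,6),(17,21)],.sym [(5,4),(14,6),(17,22)],.sym [(5,4),(14,7),(17,8)],.sym [(5,4),(14,7),(17,9)],.sym [(5,4),(14,7),(17,10)],.sym [(5,4),(14,7),(17,11)],.sym [(5,4),(14,7),(17,12)],.sym [(5,4),(14,7),(17,13)],.sym [(5,4),(17,7)],.sym [(5,4),(14,7),(17,15)],.sym [(5,4),(14,7),(17,16)],.sym [(5,4),(14,7)],.sym [(5,4),(14,7),(17,18)],.sym [(5,4),(14,7),(17,19)],.sym [(5,4),(14,7),(17,20)],.sym [(5,4),(14,7),(17,21)],.sym [(5,4),(14,7),(17,22)],.sym [(5,4),(14,8),(17,9)],.sym [(5,4),(14,8),(17,10)],.sym [(5,4),(14,8),(17,11)],.sym [(5,4),(14,8),(17,12)],.sym [(5,4),(14,8),(17,13)],.sym [(5,4),(17,8)],.sym [(5,4),(14,8),(17,15)],.sym [(5,4),(14,8),(17,16)],.sym [(5,4),(14,8)],.sym [(5,4),(14,8),(17,18)],.sym [(5,4),(14,8),(17,19)],.sym [(5,4),(14,8),(17,20)],.sym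 [(5,4),(14,8),(17,21)],.sym [(5,4),(14,8),(17,22)],.sym [(5,4),(14,9),(17,10)],.sym [(5,4),(14,9),(17,11)],.sym [(5,4),(14,9),(17,12)],.sym [(5,4),(14,9),(17,13)],.sym [(5,4),(17,9)],.sym [(5,4),(14,9),(17,15)],.sym [(5,4),(14,9),(17,16)],.sym [(5,4),(14,9)],.sym [(5,4),(14,9),(17,18)],.sym [(5,4),(14,9),(17,19)],.sym [(5,4),(14,9),(17,20)],.sym [(5,4),(14,9),(17,21)],.sym [(5,4),(14,9),(17,22)],.sym [(5,4),(14,10),(17,11)],.sym [(5,4),(14,10),(17,12)],.sym [(5,4),(14,10),(17,13)],.sym [(5,4),(17,10)],.sym [(5,4),(14,10),(17,15)],.sym [(5,4),(14,10),(17,16)],.sym [(5,4),(14,10)],.sym [(5,4),(14,10),(17,18)],.sym [(5,4),(14,10),(17,19)],.sym [(5,4),(14,10),(17,20)],.sym [(5,4),(14,10),(17,21)],.sym [(5,4),(14,10),(17,22)],.sym [(5,4),(14,11),(17,12)],.sym [(5,4),(14,11),(17,13)],.sym [(5,4),(17,11)],.sym [(5,4),(14,11),(17,15)],.sym [(5,4),(14,11),(17,16)],.sym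 [(5,4),(14,11)],.sym [(5,4),(14,11),(17,18)],.sym [(5,4),(14,11),(17,19)],.sym [(5,4),(14,11),(17,20)],.sym [(5,4),(14,11),(17,21)],.sym [(5,4),(14,11),(17,22)],.sym [(5,4),(14,12),(17,13)],.sym [(5,4),(17,12)],.sym [(5,4),(14,12),(17,15)],.sym [(5,4),(14,12),(17,16)],.sym [(5,4),(14,12)],.sym [(5,4),(14,12),(17,18)],.sym [(5,4),(14,12),(17,19)],.sym [(5,4),(14,12),(17,20)],.sym [(5,4),(14,12),(17,21)],.sym [(5,4),(14,12),(17,22)],.sym [(5,4),(17,13)],.sym [(5,4),(14,13),(17,15)],.sym [(5,4),(14,13),(17,16)],.sym [(5,4),(14,13)],.sym [(5,4),(14,13),(17,18)],.sym [(5,4),(14,13),(17,19)],.sym [(5,4),(14,13),(17,20)],.sym [(5,4),(14,13),(17,21)],.sym [(5,4),(14,13),(17,22)],.sym [(5,4),(17,15)],.sym [(5,4),(17,16)],.sym [(5,4)],.sym [(5,4),(17,18)],.sym [(5,4),(17,19)],.sym [(5,4),(17,20)],.sym [(5,4),(17,21)],.sym [(5,4),(17,22)],.sym [(5,4),(14,15),(17,16)],.sym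 [(5,4),(14,15)],.sym [(5,4),(14,15),(17,18)],.sym [(5,4),(14,15),(17,19)],.sym [(5,4),(14,15),(17,20)],.sym [(5,4),(14,15),(17,21)],.sym [(5,4),(14,15),(17,22)],.sym [(5,4),(14,16)],.sym [(5,4),(14,16),(17,18)],.sym [(5,4),(14,16),(17,19)],.sym [(5,4),(14,16),(17,20)],.sym [(5,4),(14,16),(17,21)],.sym [(5,4),(14,16),(17,22)],.sym [(5,4),(14,18)],.sym [(5,4),(14,19)],.sym [(5,4),(14,20)],.sym [(5,4),(14,21)],.sym [(5,4),(14,22)],.sym [(5,4),(14,18),(17,19)],.sym [(5,4),(14,18),(17,20)],.sym [(5,4),(14,18),(17,21)],.sym [(5,4),(14,18),(17,22)],.sym [(5,4),(14,19),(17,20)],.sym [(5,4),(14,19),(17,21)],.sym [(5,4),(14,19),(17,22)],.sym [(5,4),(14,20),(17,21)],.sym [(5,4),(14,20),(17,22)],.sym [(5,4),(14,21),(17,22)],.sym [(14,6),(17,7)],.sym [(14,6),(17,8)],.sym [(14,6),(17,9)],.sym [(14,6),(17,10)],.sym [(14,6),(17,11)],.sym [(14,6),(17,12)],.sym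 [(14,6),(17,13)],.sym [(17,6)],.sym [(14,6),(17,15)],.sym [(14,6),(17,16)],.sym [(14,6)],.sym [(14,6),(17,18)],.sym [(14,6),(17,19)],.sym [(14,6),(17,20)],.sym [(14,6),(17,21)],.sym [(14,6),(17,22)],.sym [(14,7),(17,8)],.sym [(14,7),(17,9)],.sym [(14,7),(17,10)],.sym [(14,7),(17,11)],.sym [(14,7),(17,12)],.sym [(14,7),(17,13)],.sym [(17,7)],.sym [(14,7),(17,15)],.sym [(14,7),(17,16)],.sym [(14,7)],.sym [(14,7),(17,18)],.sym [(14,7),(17,19)],.sym [(14,7),(17,20)],.sym [(14,7),(17,21)],.sym [(14,7),(17,22)],.sym [(14,8),(17,9)],.sym [(14,8),(17,10)],.sym [(14,8),(17,11)],.sym [(14,8),(17,12)],.sym [(14,8),(17,13)],.sym [(17,8)],.sym [(14,8),(17,15)],.sym [(14,8),(17,16)],.sym [(14,8)],.sym [(14,8),(17,18)],.sym [(14,8),(17,19)],.sym [(14,8),(17,20)],.sym [(14,8),(17,21)],.sym [(14,8),(17,22)],.sym [(14,9),(17,10)],.sym [(14,9),(17,11)],.sym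 [(14,9),(17,12)],.sym [(14,9),(17,13)],.sym [(17,9)],.sym [(14,9),(17,15)],.sym [(14,9),(17,16)],.sym [(14,9)],.sym [(14,9),(17,18)],.sym [(14,9),(17,19)],.sym [(14,9),(17,20)],.sym [(14,9),(17,21)],.sym [(14,9),(17,22)],.sym [(14,10),(17,11)],.sym [(14,10),(17,12)],.sym [(14,10),(17,13)],.sym [(17,10)],.sym [(14,10),(17,15)],.sym [(14,10),(17,16)],.sym [(14,10)],.sym [(14,10),(17,18)],.sym [(14,10),(17,19)],.sym [(14,10),(17,20)],.sym [(14,10),(17,21)],.sym [(14,10),(17,22)],.sym [(14,11),(17,12)],.sym [(14,11),(17,13)],.sym [(17,11)],.sym [(14,11),(17,15)],.sym [(14,11),(17,16)],.sym [(14,11)],.sym [(14,11),(17,18)],.sym [(14,11),(17,19)],.sym [(14,11),(17,20)],.sym [(14,11),(17,21)],.sym [(14,11),(17,22)],.sym [(14,12),(17,13)],.sym [(17,12)],.sym [(14,12),(17,15)],.sym [(14,12),(17,16)],.sym [(14,12)],.sym [(14,12),(17,18)],.sym [(14,12),(17,19)],.sym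 [(14,12),(17,20)],.sym [(14,12),(17,21)],.sym [(14,12),(17,22)],.sym [(17,13)],.sym [(14,13),(17,15)],.sym [(14,13),(17,16)],.sym [(14,13)],.sym [(14,13),(17,18)],.sym [(14,13),(17,19)],.sym [(14,13),(17,20)],.sym [(14,13),(17,21)],.sym [(14,13),(17,22)],.sym [(17,15)],.sym [(17,16)],.main,.sym [(17,18)],.sym [(17,19)],.sym [(17,20)],.sym [(17,21)],.sym [(17,22)],.sym [(14,15),(17,16)],.sym [(14,15)],.sym [(14,15),(17,18)],.sym [(14,15),(17,19)],.sym [(14,15),(17,20)],.sym [(14,15),(17,21)],.sym [(14,15),(17,22)],.sym [(14,16)],.sym [(14,16),(17,18)],.sym [(14,16),(17,19)],.sym [(14,16),(17,20)],.sym [(14,16),(17,21)],.sym [(14,16),(17,22)],.sym [(14,18)],.sym [(14,19)],.sym [(14,20)],.sym [(14,21)],.sym [(14,22)],.sym [(14,18),(17,19)],.sym [(14,18),(17,20)],.sym [(14,18),(17,21)],.sym [(14,18),(17,22)],.sym [(14,19),(17,20)],.sym [(14,19),(17,21)],.sym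 [(14,19),(17,22)],.sym [(14,20),(17,21)],.sym [(14,20),(17,22)],.sym [(14,21),(17,22)],.sym [(5,6),(14,7),(17,8)],.sym [(5,6),(14,7),(17,9)],.sym [(5,6),(14,7),(17,10)],.sym [(5,6),(14,7),(17,11)],.sym [(5,6),(14,7),(17,12)],.sym [(5,6),(14,7),(17,13)],.sym [(5,6),(17,7)],.sym [(5,6),(14,7),(17,15)],.sym [(5,6),(14,7),(17,16)],.sym [(5,6),(14,7)],.sym [(5,6),(14,7),(17,18)],.sym [(5,6),(14,7),(17,19)],.sym [(5,6),(14,7),(17,20)],.sym [(5,6),(14,7),(17,21)],.sym [(5,6),(14,7),(17,22)],.sym [(5,6),(14,8),(17,9)],.sym [(5,6),(14,8),(17,10)],.sym [(5,6),(14,8),(17,11)],.sym [(5,6),(14,8),(17,12)],.sym [(5,6),(14,8),(17,13)],.sym [(5,6),(17,8)],.sym [(5,6),(14,8),(17,15)],.sym [(5,6),(14,8),(17,16)],.sym [(5,6),(14,8)],.sym [(5,6),(14,8),(17,18)],.sym [(5,6),(14,8),(17,19)],.sym [(5,6),(14,8),(17,20)],.sym [(5,6),(14,8),(17,21)],.sym [(5,6),(14,8),(17,22)],.sym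 [(5,6),(14,9),(17,10)],.sym [(5,6),(14,9),(17,11)],.sym [(5,6),(14,9),(17,12)],.sym [(5,6),(14,9),(17,13)],.sym [(5,6),(17,9)],.sym [(5,6),(14,9),(17,15)],.sym [(5,6),(14,9),(17,16)],.sym [(5,6),(14,9)],.sym [(5,6),(14,9),(17,18)],.sym [(5,6),(14,9),(17,19)],.sym [(5,6),(14,9),(17,20)],.sym [(5,6),(14,9),(17,21)],.sym [(5,6),(14,9),(17,22)],.sym [(5,6),(14,10),(17,11)],.sym [(5,6),(14,10),(17,12)],.sym [(5,6),(14,10),(17,13)],.sym [(5,6),(17,10)],.sym [(5,6),(14,10),(17,15)],.sym [(5,6),(14,10),(17,16)],.sym [(5,6),(14,10)],.sym [(5,6),(14,10),(17,18)],.sym [(5,6),(14,10),(17,19)],.sym [(5,6),(14,10),(17,20)],.sym [(5,6),(14,10),(17,21)],.sym [(5,6),(14,10),(17,22)],.sym [(5,6),(14,11),(17,12)],.sym [(5,6),(14,11),(17,13)],.sym [(5,6),(17,11)],.sym [(5,6),(14,11),(17,15)],.sym [(5,6),(14,11),(17,16)],.sym [(5,6),(14,11)],.sym [(5,6),(14,11),(17,18)],.sym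 [(5,6),(14,11),(17,19)],.sym [(5,6),(14,11),(17,20)],.sym [(5,6),(14,11),(17,21)],.sym [(5,6),(14,11),(17,22)],.sym [(5,6),(14,12),(17,13)],.sym [(5,6),(17,12)],.sym [(5,6),(14,12),(17,15)],.sym [(5,6),(14,12),(17,16)],.sym [(5,6),(14,12)],.sym [(5,6),(14,12),(17,18)],.sym [(5,6),(14,12),(17,19)],.sym [(5,6),(14,12),(17,20)],.sym [(5,6),(14,12),(17,21)],.sym [(5,6),(14,12),(17,22)],.sym [(5,6),(17,13)],.sym [(5,6),(14,13),(17,15)],.sym [(5,6),(14,13),(17,16)],.sym [(5,6),(14,13)],.sym [(5,6),(14,13),(17,18)],.sym [(5,6),(14,13),(17,19)],.sym [(5,6),(14,13),(17,20)],.sym [(5,6),(14,13),(17,21)],.sym [(5,6),(14,13),(17,22)],.sym [(5,6),(17,15)],.sym [(5,6),(17,16)],.sym [(5,6)],.sym [(5,6),(17,18)],.sym [(5,6),(17,19)],.sym [(5,6),(17,20)],.sym [(5,6),(17,21)],.sym [(5,6),(17,22)],.sym [(5,6),(14,15),(17,16)],.sym [(5,6),(14,15)],.sym [(5,6),(14,15),(17,18)],.sym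 [(5,6),(14,15),(17,19)],.sym [(5,6),(14,15),(17,20)],.sym [(5,6),(14,15),(17,21)],.sym [(5,6),(14,15),(17,22)],.sym [(5,6),(14,16)],.sym [(5,6),(14,16),(17,18)],.sym [(5,6),(14,16),(17,19)],.sym [(5,6),(14,16),(17,20)],.sym [(5,6),(14,16),(17,21)],.sym [(5,6),(14,16),(17,22)],.sym [(5,6),(14,18)],.sym [(5,6),(14,19)],.sym [(5,6),(14,20)],.sym [(5,6),(14,21)],.sym [(5,6),(14,22)],.sym [(5,6),(14,18),(17,19)],.sym [(5,6),(14,18),(17,20)],.sym [(5,6),(14,18),(17,21)],.sym [(5,6),(14,18),(17,22)],.sym [(5,6),(14,19),(17,20)],.sym [(5,6),(14,19),(17,21)],.sym [(5,6),(14,19),(17,22)],.sym [(5,6),(14,20),(17,21)],.sym [(5,6),(14,20),(17,22)],.sym [(5,6),(14,21),(17,22)],.sym [(5,7),(14,8),(17,9)],.sym [(5,7),(14,8),(17,10)],.sym [(5,7),(14,8),(17,11)],.sym [(5,7),(14,8),(17,12)],.sym [(5,7),(14,8),(17,13)],.sym [(5,7),(17,8)],.sym [(5,7),(14,8),(17,15)],.sym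 [(5,7),(14,8),(17,16)],.sym [(5,7),(14,8)],.sym [(5,7),(14,8),(17,18)],.sym [(5,7),(14,8),(17,19)],.sym [(5,7),(14,8),(17,20)],.sym [(5,7),(14,8),(17,21)],.sym [(5,7),(14,8),(17,22)],.sym [(5,7),(14,9),(17,10)],.sym [(5,7),(14,9),(17,11)],.sym [(5,7),(14,9),(17,12)],.sym [(5,7),(14,9),(17,13)],.sym [(5,7),(17,9)],.sym [(5,7),(14,9),(17,15)],.sym [(5,7),(14,9),(17,16)],.sym [(5,7),(14,9)],.sym [(5,7),(14,9),(17,18)],.sym [(5,7),(14,9),(17,19)],.sym [(5,7),(14,9),(17,20)],.sym [(5,7),(14,9),(17,21)],.sym [(5,7),(14,9),(17,22)],.sym [(5,7),(14,10),(17,11)],.sym [(5,7),(14,10),(17,12)],.sym [(5,7),(14,10),(17,13)],.sym [(5,7),(17,10)],.sym [(5,7),(14,10),(17,15)],.sym [(5,7),(14,10),(17,16)],.sym [(5,7),(14,10)],.sym [(5,7),(14,10),(17,18)],.sym [(5,7),(14,10),(17,19)],.sym [(5,7),(14,10),(17,20)],.sym [(5,7),(14,10),(17,21)],.sym [(5,7),(14,10),(17,22)],.sym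 [(5,7),(14,11),(17,12)],.sym [(5,7),(14,11),(17,13)],.sym [(5,7),(17,11)],.sym [(5,7),(14,11),(17,15)],.sym [(5,7),(14,11),(17,16)],.sym [(5,7),(14,11)],.sym [(5,7),(14,11),(17,18)],.sym [(5,7),(14,11),(17,19)],.sym [(5,7),(14,11),(17,20)],.sym [(5,7),(14,11),(17,21)],.sym [(5,7),(14,11),(17,22)],.sym [(5,7),(14,12),(17,13)],.sym [(5,7),(17,12)],.sym [(5,7),(14,12),(17,15)],.sym [(5,7),(14,12),(17,16)],.sym [(5,7),(14,12)],.sym [(5,7),(14,12),(17,18)],.sym [(5,7),(14,12),(17,19)],.sym [(5,7),(14,12),(17,20)],.sym [(5,7),(14,12),(17,21)],.sym [(5,7),(14,12),(17,22)],.sym [(5,7),(17,13)],.sym [(5,7),(14,13),(17,15)],.sym [(5,7),(14,13),(17,16)],.sym [(5,7),(14,13)],.sym [(5,7),(14,13),(17,18)],.sym [(5,7),(14,13),(17,19)],.sym [(5,7),(14,13),(17,20)],.sym [(5,7),(14,13),(17,21)],.sym [(5,7),(14,13),(17,22)],.sym [(5,7),(17,15)],.sym [(5,7),(17,16)],.sym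 [(5,7)],.sym [(5,7),(17,18)],.sym [(5,7),(17,19)],.sym [(5,7),(17,20)],.sym [(5,7),(17,21)],.sym [(5,7),(17,22)],.sym [(5,7),(14,15),(17,16)],.sym [(5,7),(14,15)],.sym [(5,7),(14,15),(17,18)],.sym [(5,7),(14,15),(17,19)],.sym [(5,7),(14,15),(17,20)],.sym [(5,7),(14,15),(17,21)],.sym [(5,7),(14,15),(17,22)],.sym [(5,7),(14,16)],.sym [(5,7),(14,16),(17,18)],.sym [(5,7),(14,16),(17,19)],.sym [(5,7),(14,16),(17,20)],.sym [(5,7),(14,16),(17,21)],.sym [(5,7),(14,16),(17,22)],.sym [(5,7),(14,18)],.sym [(5,7),(14,19)],.sym [(5,7),(14,20)],.sym [(5,7),(14,21)],.sym [(5,7),(14,22)],.sym [(5,7),(14,18),(17,19)],.sym [(5,7),(14,18),(17,20)],.sym [(5,7),(14,18),(17,21)],.sym [(5,7),(14,18),(17,22)],.sym [(5,7),(14,19),(17,20)],.sym [(5,7),(14,19),(17,21)],.sym [(5,7),(14,19),(17,22)],.sym [(5,7),(14,20),(17,21)],.sym [(5,7),(14,20),(17,22)],.sym [(5,7),(14,21),(17,22)],.sym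 [(5,8),(14,9),(17,10)],.sym [(5,8),(14,9),(17,11)],.sym [(5,8),(14,9),(17,12)],.sym [(5,8),(14,9),(17,13)],.sym [(5,8),(17,9)],.sym [(5,8),(14,9),(17,15)],.sym [(5,8),(14,9),(17,16)],.sym [(5,8),(14,9)],.sym [(5,8),(14,9),(17,18)],.sym [(5,8),(14,9),(17,19)],.sym [(5,8),(14,9),(17,20)],.sym [(5,8),(14,9),(17,21)],.sym [(5,8),(14,9),(17,22)],.sym [(5,8),(14,10),(17,11)],.sym [(5,8),(14,10),(17,12)],.sym [(5,8),(14,10),(17,13)],.sym [(5,8),(17,10)],.sym [(5,8),(14,10),(17,15)],.sym [(5,8),(14,10),(17,16)],.sym [(5,8),(14,10)],.sym [(5,8),(14,10),(17,18)],.sym [(5,8),(14,10),(17,19)],.sym [(5,8),(14,10),(17,20)],.sym [(5,8),(14,10),(17,21)],.sym [(5,8),(14,10),(17,22)],.sym [(5,8),(14,11),(17,12)],.sym [(5,8),(14,11),(17,13)],.sym [(5,8),(17,11)],.sym [(5,8),(14,11),(17,15)],.sym [(5,8),(14,11),(17,16)],.sym [(5,8),(14,11)],.sym [(5,8),(14,11),(17,18)],.sym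 [(5,8),(14,11),(17,19)],.sym [(5,8),(14,11),(17,20)],.sym [(5,8),(14,11),(17,21)],.sym [(5,8),(14,11),(17,22)],.sym [(5,8),(14,12),(17,13)],.sym [(5,8),(17,12)],.sym [(5,8),(14,12),(17,15)],.sym [(5,8),(14,12),(17,16)],.sym [(5,8),(14,12)],.sym [(5,8),(14,12),(17,18)],.sym [(5,8),(14,12),(17,19)],.sym [(5,8),(14,12),(17,20)],.sym [(5,8),(14,12),(17,21)],.sym [(5,8),(14,12),(17,22)],.sym [(5,8),(17,13)],.sym [(5,8),(14,13),(17,15)],.sym [(5,8),(14,13),(17,16)],.sym [(5,8),(14,13)],.sym [(5,8),(14,13),(17,18)],.sym [(5,8),(14,13),(17,19)],.sym [(5,8),(14,13),(17,20)],.sym [(5,8),(14,13),(17,21)],.sym [(5,8),(14,13),(17,22)],.sym [(5,8),(17,15)],.sym [(5,8),(17,16)],.sym [(5,8)],.sym [(5,8),(17,18)],.sym [(5,8),(17,19)],.sym [(5,8),(17,20)],.sym [(5,8),(17,21)],.sym [(5,8),(17,22)],.sym [(5,8),(14,15),(17,16)],.sym [(5,8),(14,15)],.sym [(5,8),(14,15),(17,18)],.sym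 [(5,8),(14,15),(17,19)],.sym [(5,8),(14,15),(17,20)],.sym [(5,8),(14,15),(17,21)],.sym [(5,8),(14,15),(17,22)],.sym [(5,8),(14,16)],.sym [(5,8),(14,16),(17,18)],.sym [(5,8),(14,16),(17,19)],.sym [(5,8),(14,16),(17,20)],.sym [(5,8),(14,16),(17,21)],.sym [(5,8),(14,16),(17,22)],.sym [(5,8),(14,18)],.sym [(5,8),(14,19)],.sym [(5,8),(14,20)],.sym [(5,8),(14,21)],.sym [(5,8),(14,22)],.sym [(5,8),(14,18),(17,19)],.sym [(5,8),(14,18),(17,20)],.sym [(5,8),(14,18),(17,21)],.sym [(5,8),(14,18),(17,22)],.sym [(5,8),(14,19),(17,20)],.sym [(5,8),(14,19),(17,21)],.sym [(5,8),(14,19),(17,22)],.sym [(5,8),(14,20),(17,21)],.sym [(5,8),(14,20),(17,22)],.sym [(5,8),(14,21),(17,22)],.sym [(5,9),(14,10),(17,11)],.sym [(5,9),(14,10),(17,12)],.sym [(5,9),(14,10),(17,13)],.sym [(5,9),(17,10)],.sym [(5,9),(14,10),(17,15)],.sym [(5,9),(14,10),(17,16)],.sym [(5,9),(14,10)],.sym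 [(5,9),(14,10),(17,18)],.sym [(5,9),(14,10),(17,19)],.sym [(5,9),(14,10),(17,20)],.sym [(5,9),(14,10),(17,21)],.sym [(5,9),(14,10),(17,22)],.sym [(5,9),(14,11),(17,12)],.sym [(5,9),(14,11),(17,13)],.sym [(5,9),(17,11)],.sym [(5,9),(14,11),(17,15)],.sym [(5,9),(14,11),(17,16)],.sym [(5,9),(14,11)],.sym [(5,9),(14,11),(17,18)],.sym [(5,9),(14,11),(17,19)],.sym [(5,9),(14,11),(17,20)],.sym [(5,9),(14,11),(17,21)],.sym [(5,9),(14,11),(17,22)],.sym [(5,9),(14,12),(17,13)],.sym [(5,9),(17,12)],.sym [(5,9),(14,12),(17,15)],.sym [(5,9),(14,12),(17,16)],.sym [(5,9),(14,12)],.sym [(5,9),(14,12),(17,18)],.sym [(5,9),(14,12),(17,19)],.sym [(5,9),(14,12),(17,20)],.sym [(5,9),(14,12),(17,21)],.sym [(5,9),(14,12),(17,22)],.sym [(5,9),(17,13)],.sym [(5,9),(14,13),(17,15)],.sym [(5,9),(14,13),(17,16)],.sym [(5,9),(14,13)],.sym [(5,9),(14,13),(17,18)],.sym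 [(5,9),(14,13),(17,19)],.sym [(5,9),(14,13),(17,20)],.sym [(5,9),(14,13),(17,21)],.sym [(5,9),(14,13),(17,22)],.sym [(5,9),(17,15)],.sym [(5,9),(17,16)],.sym [(5,9)],.sym [(5,9),(17,18)],.sym [(5,9),(17,19)],.sym [(5,9),(17,20)],.sym [(5,9),(17,21)],.sym [(5,9),(17,22)],.sym [(5,9),(14,15),(17,16)],.sym [(5,9),(14,15)],.sym [(5,9),(14,15),(17,18)],.sym [(5,9),(14,15),(17,19)],.sym [(5,9),(14,15),(17,20)],.sym [(5,9),(14,15),(17,21)],.sym [(5,9),(14,15),(17,22)],.sym [(5,9),(14,16)],.sym [(5,9),(14,16),(17,18)],.sym [(5,9),(14,16),(17,19)],.sym [(5,9),(14,16),(17,20)],.sym [(5,9),(14,16),(17,21)],.sym [(5,9),(14,16),(17,22)],.sym [(5,9),(14,18)],.sym [(5,9),(14,19)],.sym [(5,9),(14,20)],.sym [(5,9),(14,21)],.sym [(5,9),(14,22)],.sym [(5,9),(14,18),(17,19)],.sym [(5,9),(14,18),(17,20)],.sym [(5,9),(14,18),(17,21)],.sym [(5,9),(14,18),(17,22)],.sym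 [(5,9),(14,19),(17,20)],.sym [(5,9),(14,19),(17,21)],.sym [(5,9),(14,19),(17,22)],.sym [(5,9),(14,20),(17,21)],.sym [(5,9),(14,20),(17,22)],.sym [(5,9),(14,21),(17,22)],.sym [(5,10),(14,11),(17,12)],.sym [(5,10),(14,11),(17,13)],.sym [(5,10),(17,11)],.sym [(5,10),(14,11),(17,15)],.sym [(5,10),(14,11),(17,16)],.sym [(5,10),(14,11)],.sym [(5,10),(14,11),(17,18)],.sym [(5,10),(14,11),(17,19)],.sym [(5,10),(14,11),(17,20)],.sym [(5,10),(14,11),(17,21)],.sym [(5,10),(14,11),(17,22)],.sym [(5,10),(14,12),(17,13)],.sym [(5,10),(17,12)],.sym [(5,10),(14,12),(17,15)],.sym [(5,10),(14,12),(17,16)],.sym [(5,10),(14,12)],.sym [(5,10),(14,12),(17,18)],.sym [(5,10),(14,12),(17,19)],.sym [(5,10),(14,12),(17,20)],.sym [(5,10),(14,12),(17,21)],.sym [(5,10),(14,12),(17,22)],.sym [(5,10),(17,13)],.sym [(5,10),(14,13),(17,15)],.sym [(5,10),(14,13),(17,16)],.sym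 [(5,10),(14,13)],.sym [(5,10),(14,13),(17,18)],.sym [(5,10),(14,13),(17,19)],.sym [(5,10),(14,13),(17,20)],.sym [(5,10),(14,13),(17,21)],.sym [(5,10),(14,13),(17,22)],.sym [(5,10),(17,15)],.sym [(5,10),(17,16)],.sym [(5,10)],.sym [(5,10),(17,18)],.sym [(5,10),(17,19)],.sym [(5,10),(17,20)],.sym [(5,10),(17,21)],.sym [(5,10),(17,22)],.sym [(5,10),(14,15),(17,16)],.sym [(5,10),(14,15)],.sym [(5,10),(14,15),(17,18)],.sym [(5,10),(14,15),(17,19)],.sym [(5,10),(14,15),(17,20)],.sym [(5,10),(14,15),(17,21)],.sym [(5,10),(14,15),(17,22)],.sym [(5,10),(14,16)],.sym [(5,10),(14,16),(17,18)],.sym [(5,10),(14,16),(17,19)],.sym [(5,10),(14,16),(17,20)],.sym [(5,10),(14,16),(17,21)],.sym [(5,10),(14,16),(17,22)],.sym [(5,10),(14,18)],.sym [(5,10),(14,19)],.sym [(5,10),(14,20)],.sym [(5,10),(14,21)],.sym [(5,10),(14,22)],.sym [(5,10),(14,18),(17,19)],.sym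 [(5,10),(14,18),(17,20)],.sym [(5,10),(14,18),(17,21)],.sym [(5,10),(14,18),(17,22)],.sym [(5,10),(14,19),(17,20)],.sym [(5,10),(14,19),(17,21)],.sym [(5,10),(14,19),(17,22)],.sym [(5,10),(14,20),(17,21)],.sym [(5,10),(14,20),(17,22)],.sym [(5,10),(14,21),(17,22)],.sym [(5,11),(14,12),(17,13)],.sym [(5,11),(17,12)],.sym [(5,11),(14,12),(17,15)],.sym [(5,11),(14,12),(17,16)],.sym [(5,11),(14,12)],.sym [(5,11),(14,12),(17,18)],.sym [(5,11),(14,12),(17,19)],.sym [(5,11),(14,12),(17,20)],.sym [(5,11),(14,12),(17,21)],.sym [(5,11),(14,12),(17,22)],.sym [(5,11),(17,13)],.sym [(5,11),(14,13),(17,15)],.sym [(5,11),(14,13),(17,16)],.sym [(5,11),(14,13)],.sym [(5,11),(14,13),(17,18)],.sym [(5,11),(14,13),(17,19)],.sym [(5,11),(14,13),(17,20)],.sym [(5,11),(14,13),(17,21)],.sym [(5,11),(14,13),(17,22)],.sym [(5,11),(17,15)],.sym [(5,11),(17,16)],.sym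 [(5,11)],.sym [(5,11),(17,18)],.sym [(5,11),(17,19)],.sym [(5,11),(17,20)],.sym [(5,11),(17,21)],.sym [(5,11),(17,22)],.sym [(5,11),(14,15),(17,16)],.sym [(5,11),(14,15)],.sym [(5,11),(14,15),(17,18)],.sym [(5,11),(14,15),(17,19)],.sym [(5,11),(14,15),(17,20)],.sym [(5,11),(14,15),(17,21)],.sym [(5,11),(14,15),(17,22)],.sym [(5,11),(14,16)],.sym [(5,11),(14,16),(17,18)],.sym [(5,11),(14,16),(17,19)],.sym [(5,11),(14,16),(17,20)],.sym [(5,11),(14,16),(17,21)],.sym [(5,11),(14,16),(17,22)],.sym [(5,11),(14,18)],.sym [(5,11),(14,19)],.sym [(5,11),(14,20)],.sym [(5,11),(14,21)],.sym [(5,11),(14,22)],.sym [(5,11),(14,18),(17,19)],.sym [(5,11),(14,18),(17,20)],.sym [(5,11),(14,18),(17,21)],.sym [(5,11),(14,18),(17,22)],.sym [(5,11),(14,19),(17,20)],.sym [(5,11),(14,19),(17,21)],.sym [(5,11),(14,19),(17,22)],.sym [(5,11),(14,20),(17,21)],.sym [(5,11),(14,20),(17,22)],.sym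 [(5,11),(14,21),(17,22)],.sym [(5,12),(17,13)],.sym [(5,12),(14,13),(17,15)],.sym [(5,12),(14,13),(17,16)],.sym [(5,12),(14,13)],.sym [(5,12),(14,13),(17,18)],.sym [(5,12),(14,13),(17,19)],.sym [(5,12),(14,13),(17,20)],.sym [(5,12),(14,13),(17,21)],.sym [(5,12),(14,13),(17,22)],.sym [(5,12),(17,15)],.sym [(5,12),(17,16)],.sym [(5,12)],.sym [(5,12),(17,18)],.sym [(5,12),(17,19)],.sym [(5,12),(17,20)],.sym [(5,12),(17,21)],.sym [(5,12),(17,22)],.sym [(5,12),(14,15),(17,16)],.sym [(5,12),(14,15)],.sym [(5,12),(14,15),(17,18)],.sym [(5,12),(14,15),(17,19)],.sym [(5,12),(14,15),(17,20)],.sym [(5,12),(14,15),(17,21)],.sym [(5,12),(14,15),(17,22)],.sym [(5,12),(14,16)],.sym [(5,12),(14,16),(17,18)],.sym [(5,12),(14,16),(17,19)],.sym [(5,12),(14,16),(17,20)],.sym [(5,12),(14,16),(17,21)],.sym [(5,12),(14,16),(17,22)],.sym [(5,12),(14,18)],.sym [(5,12),(14,19)],.sym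 [(5,12),(14,20)],.sym [(5,12),(14,21)],.sym [(5,12),(14,22)],.sym [(5,12),(14,18),(17,19)],.sym [(5,12),(14,18),(17,20)],.sym [(5,12),(14,18),(17,21)],.sym [(5,12),(14,18),(17,22)],.sym [(5,12),(14,19),(17,20)],.sym [(5,12),(14,19),(17,21)],.sym [(5,12),(14,19),(17,22)],.sym [(5,12),(14,20),(17,21)],.sym [(5,12),(14,20),(17,22)],.sym [(5,12),(14,21),(17,22)],.sym [(5,13),(17,15)],.sym [(5,13),(17,16)],.sym [(5,13)],.sym [(5,13),(17,18)],.sym [(5,13),(17,19)],.sym [(5,13),(17,20)],.sym [(5,13),(17,21)],.sym [(5,13),(17,22)],.sym [(5,13),(14,15),(17,16)],.sym [(5,13),(14,15)],.sym [(5,13),(14,15),(17,18)],.sym [(5,13),(14,15),(17,19)],.sym [(5,13),(14,15),(17,20)],.sym [(5,13),(14,15),(17,21)],.sym [(5,13),(14,15),(17,22)],.sym [(5,13),(14,16)],.sym [(5,13),(14,16),(17,18)],.sym [(5,13),(14,16),(17,19)],.sym [(5,13),(14,16),(17,20)],.sym [(5,13),(14,16),(17,21)],.sym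 [(5,13),(14,16),(17,22)],.sym [(5,13),(14,18)],.sym [(5,13),(14,19)],.sym [(5,13),(14,20)],.sym [(5,13),(14,21)],.sym [(5,13),(14,22)],.sym [(5,13),(14,18),(17,19)],.sym [(5,13),(14,18),(17,20)],.sym [(5,13),(14,18),(17,21)],.sym [(5,13),(14,18),(17,22)],.sym [(5,13),(14,19),(17,20)],.sym [(5,13),(14,19),(17,21)],.sym [(5,13),(14,19),(17,22)],.sym [(5,13),(14,20),(17,21)],.sym [(5,13),(14,20),(17,22)],.sym [(5,13),(14,21),(17,22)],.sym [(5,15),(17,16)],.sym [(5,15)],.sym [(5,15),(17,18)],.sym [(5,15),(17,19)],.sym [(5,15),(17,20)],.sym [(5,15),(17,21)],.sym [(5,15),(17,22)],.sym [(5,16)],.sym [(5,16),(17,18)],.sym [(5,16),(17,19)],.sym [(5,16),(17,20)],.sym [(5,16),(17,21)],.sym [(5,16),(17,22)],.sym [(5,18)],.sym [(5,19)],.sym [(5,20)],.sym [(5,21)],.sym [(5,22)],.sym [(5,18),(17,19)],.sym [(5,18),(17,20)],.sym [(5,18),(17,21)],.sym [(5,18),(17,22)],.sym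 [(5,19),(17,20)],.sym [(5,19),(17,21)],.sym [(5,19),(17,22)],.sym [(5,20),(17,21)],.sym [(5,20),(17,22)],.sym [(5,21),(17,22)],.sym [(5,15),(14,16)],.sym [(5,15),(14,16),(17,18)],.sym [(5,15),(14,16),(17,19)],.sym [(5,15),(14,16),(17,20)],.sym [(5,15),(14,16),(17,21)],.sym [(5,15),(14,16),(17,22)],.sym [(5,15),(14,18)],.sym [(5,15),(14,19)],.sym [(5,15),(14,20)],.sym [(5,15),(14,21)],.sym [(5,15),(14,22)],.sym [(5,15),(14,18),(17,19)],.sym [(5,15),(14,18),(17,20)],.sym [(5,15),(14,18),(17,21)],.sym [(5,15),(14,18),(17,22)],.sym [(5,15),(14,19),(17,20)],.sym [(5,15),(14,19),(17,21)],.sym [(5,15),(14,19),(17,22)],.sym [(5,15),(14,20),(17,21)],.sym [(5,15),(14,20),(17,22)],.sym [(5,15),(14,21),(17,22)],.sym [(5,16),(14,18)],.sym [(5,16),(14,19)],.sym [(5,16),(14,20)],.sym [(5,16),(14,21)],.sym [(5,16),(14,22)],.sym [(5,16),(14,18),(17,19)],.sym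 [(5,16),(14,18),(17,20)],.sym [(5,16),(14,18),(17,21)],.sym [(5,16),(14,18),(17,22)],.sym [(5,16),(14,19),(17,20)],.sym [(5,16),(14,19),(17,21)],.sym [(5,16),(14,19),(17,22)],.sym [(5,16),(14,20),(17,21)],.sym [(5,16),(14,20),(17,22)],.sym [(5,16),(14,21),(17,22)],.sym [(5,18),(14,19)],.sym [(5,18),(14,20)],.sym [(5,18),(14,21)],.sym [(5,18),(14,22)],.sym [(5,19),(14,20)],.sym [(5,19),(14,21)],.sym [(5,19),(14,22)],.sym [(5,20),(14,21)],.sym [(5,20),(14,22)],.sym [(5,21),(14,22)],.sym [(5,18),(14,19),(17,20)],.sym [(5,18),(14,19),(17,21)],.sym [(5,18),(14,19),(17,22)],.sym [(5,18),(14,20),(17,21)],.sym [(5,18),(14,20),(17,22)],.sym [(5,18),(14,21),(17,22)],.sym [(5,19),(14,20),(17,21)],.sym [(5,19),(14,20),(17,22)],.sym [(5,19),(14,21),(17,22)],.sym [(5,20),(14,21),(17,22)]]⟩,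
  ⟨[0,1,2,4],[13,16,22],[.sym [(13,6),(16,7),(22,8)],.sym [(13,6),(16,7),(22,9)],.sym [(13,6),(16,7),(22,10)],.sym [(13,6),(16,7),(22,11)],.sym [(13,6),(16,7),(22,12)],.sym [(16,6),(22,7)],.sym [(13,6),(16,7),(22,15)],.sym [(13,6),(22,7)],.sym [(13,6),(16,7),(22,18)],.sym [(13,6),(16,7),(22,19)],.sym [(13,6),(16,7),(22,20)],.sym [(13,6),(16,7),(22,21)],.sym [(13,6),(16,7)],.sym [(13,6),(16,8),(22,9)],.sym [(13,6),(16,8),(22,10)],.sym [(13,6),(16,8),(22,11)],.sym [(13,6),(16,8),(22,12)],.sym [(16,6),(22,8)],.sym [(13,6),(16,8),(22,15)],.sym [(13,6),(22,8)],.sym [(13,6),(16,8),(22,18)],.sym [(13,6),(16,8),(22,19)],.sym [(13,6),(16,8),(22,20)],.sym [(13,6),(16,8),(22,21)],.sym [(13,6),(16,8)],.sym [(13,6),(16,9),(22,10)],.sym [(13,6),(16,9),(22,11)],.sym [(13,6),(16,9),(22,12)],.sym [(16,6),(22,9)],.sym [(13,6),(16,9),(22,15)],.sym [(13,6),(22,9)],.sym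 [(13,6),(16,9),(22,18)],.sym [(13,6),(16,9),(22,19)],.sym [(13,6),(16,9),(22,20)],.sym [(13,6),(16,9),(22,21)],.sym [(13,6),(16,9)],.sym [(13,6),(16,10),(22,11)],.sym [(13,6),(16,10),(22,12)],.sym [(16,6),(22,10)],.sym [(13,6),(16,10),(22,15)],.sym [(13,6),(22,10)],.sym [(13,6),(16,10),(22,18)],.sym [(13,6),(16,10),(22,19)],.sym [(13,6),(16,10),(22,20)],.sym [(13,6),(16,10),(22,21)],.sym [(13,6),(16,10)],.sym [(13,6),(16,11),(22,12)],.sym [(16,6),(22,11)],.sym [(13,6),(16,11),(22,15)],.sym [(13,6),(22,11)],.sym [(13,6),(16,11),(22,18)],.sym [(13,6),(16,11),(22,19)],.sym [(13,6),(16,11),(22,20)],.sym [(13,6),(16,11),(22,21)],.sym [(13,6),(16,11)],.sym [(16,6),(22,12)],.sym [(13,6),(16,12),(22,15)],.sym [(13,6),(22,12)],.sym [(13,6),(16,12),(22,18)],.sym [(13,6),(16,12),(22,19)],.sym [(13,6),(16,12),(22,20)],.sym [(13,6),(16,12),(22,21)],.sym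 [(13,6),(16,12)],.sym [(16,6),(22,15)],.sym [(22,6)],.sym [(16,6),(22,18)],.sym [(16,6),(22,19)],.sym [(16,6),(22,20)],.sym [(16,6),(22,21)],.sym [(16,6)],.sym [(13,6),(22,15)],.sym [(13,6),(16,15),(22,18)],.sym [(13,6),(16,15),(22,19)],.sym [(13,6),(16,15),(22,20)],.sym [(13,6),(16,15),(22,21)],.sym [(13,6),(16,15)],.sym [(13,6),(22,18)],.sym [(13,6),(22,19)],.sym [(13,6),(22,20)],.sym [(13,6),(22,21)],.sym [(13,6)],.sym [(13,6),(16,18),(22,19)],.sym [(13,6),(16,18),(22,20)],.sym [(13,6),(16,18),(22,21)],.sym [(13,6),(16,18)],.sym [(13,6),(16,19),(22,20)],.sym [(13,6),(16,19),(22,21)],.sym [(13,6),(16,19)],.sym [(13,6),(16,20),(22,21)],.sym [(13,6),(16,20)],.sym [(13,6),(16,21)],.sym [(13,7),(16,8),(22,9)],.sym [(13,7),(16,8),(22,10)],.sym [(13,7),(16,8),(22,11)],.sym [(13,7),(16,8),(22,12)],.sym [(16,7),(22,8)],.sym [(13,7),(16,8),(22,15)],.sym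 [(13,7),(22,8)],.sym [(13,7),(16,8),(22,18)],.sym [(13,7),(16,8),(22,19)],.sym [(13,7),(16,8),(22,20)],.sym [(13,7),(16,8),(22,21)],.sym [(13,7),(16,8)],.sym [(13,7),(16,9),(22,10)],.sym [(13,7),(16,9),(22,11)],.sym [(13,7),(16,9),(22,12)],.sym [(16,7),(22,9)],.sym [(13,7),(16,9),(22,15)],.sym [(13,7),(22,9)],.sym [(13,7),(16,9),(22,18)],.sym [(13,7),(16,9),(22,19)],.sym [(13,7),(16,9),(22,20)],.sym [(13,7),(16,9),(22,21)],.sym [(13,7),(16,9)],.sym [(13,7),(16,10),(22,11)],.sym [(13,7),(16,10),(22,12)],.sym [(16,7),(22,10)],.sym [(13,7),(16,10),(22,15)],.sym [(13,7),(22,10)],.sym [(13,7),(16,10),(22,18)],.sym [(13,7),(16,10),(22,19)],.sym [(13,7),(16,10),(22,20)],.sym [(13,7),(16,10),(22,21)],.sym [(13,7),(16,10)],.sym [(13,7),(16,11),(22,12)],.sym [(16,7),(22,11)],.sym [(13,7),(16,11),(22,15)],.sym [(13,7),(22,11)],.sym [(13,7),(16,11),(22,18)],.sym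 [(13,7),(16,11),(22,19)],.sym [(13,7),(16,11),(22,20)],.sym [(13,7),(16,11),(22,21)],.sym [(13,7),(16,11)],.sym [(16,7),(22,12)],.sym [(13,7),(16,12),(22,15)],.sym [(13,7),(22,12)],.sym [(13,7),(16,12),(22,18)],.sym [(13,7),(16,12),(22,19)],.sym [(13,7),(16,12),(22,20)],.sym [(13,7),(16,12),(22,21)],.sym [(13,7),(16,12)],.sym [(16,7),(22,15)],.sym [(22,7)],.sym [(16,7),(22,18)],.sym [(16,7),(22,19)],.sym [(16,7),(22,20)],.sym [(16,7),(22,21)],.sym [(16,7)],.sym [(13,7),(22,15)],.sym [(13,7),(16,15),(22,18)],.sym [(13,7),(16,15),(22,19)],.sym [(13,7),(16,15),(22,20)],.sym [(13,7),(16,15),(22,21)],.sym [(13,7),(16,15)],.sym [(13,7),(22,18)],.sym [(13,7),(22,19)],.sym [(13,7),(22,20)],.sym [(13,7),(22,21)],.sym [(13,7)],.sym [(13,7),(16,18),(22,19)],.sym [(13,7),(16,18),(22,20)],.sym [(13,7),(16,18),(22,21)],.sym [(13,7),(16,18)],.sym [(13,7),(16,19),(22,20)],.sym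 [(13,7),(16,19),(22,21)],.sym [(13,7),(16,19)],.sym [(13,7),(16,20),(22,21)],.sym [(13,7),(16,20)],.sym [(13,7),(16,21)],.sym [(13,8),(16,9),(22,10)],.sym [(13,8),(16,9),(22,11)],.sym [(13,8),(16,9),(22,12)],.sym [(16,8),(22,9)],.sym [(13,8),(16,9),(22,15)],.sym [(13,8),(22,9)],.sym [(13,8),(16,9),(22,18)],.sym [(13,8),(16,9),(22,19)],.sym [(13,8),(16,9),(22,20)],.sym [(13,8),(16,9),(22,21)],.sym [(13,8),(16,9)],.sym [(13,8),(16,10),(22,11)],.sym [(13,8),(16,10),(22,12)],.sym [(16,8),(22,10)],.sym [(13,8),(16,10),(22,15)],.sym [(13,8),(22,10)],.sym [(13,8),(16,10),(22,18)],.sym [(13,8),(16,10),(22,19)],.sym [(13,8),(16,10),(22,20)],.sym [(13,8),(16,10),(22,21)],.sym [(13,8),(16,10)],.sym [(13,8),(16,11),(22,12)],.sym [(16,8),(22,11)],.sym [(13,8),(16,11),(22,15)],.sym [(13,8),(22,11)],.sym [(13,8),(16,11),(22,18)],.sym [(13,8),(16,11),(22,19)],.sym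 [(13,8),(16,11),(22,20)],.sym [(13,8),(16,11),(22,21)],.sym [(13,8),(16,11)],.sym [(16,8),(22,12)],.sym [(13,8),(16,12),(22,15)],.sym [(13,8),(22,12)],.sym [(13,8),(16,12),(22,18)],.sym [(13,8),(16,12),(22,19)],.sym [(13,8),(16,12),(22,20)],.sym [(13,8),(16,12),(22,21)],.sym [(13,8),(16,12)],.sym [(16,8),(22,15)],.sym [(22,8)],.sym [(16,8),(22,18)],.sym [(16,8),(22,19)],.sym [(16,8),(22,20)],.sym [(16,8),(22,21)],.sym [(16,8)],.sym [(13,8),(22,15)],.sym [(13,8),(16,15),(22,18)],.sym [(13,8),(16,15),(22,19)],.sym [(13,8),(16,15),(22,20)],.sym [(13,8),(16,15),(22,21)],.sym [(13,8),(16,15)],.sym [(13,8),(22,18)],.sym [(13,8),(22,19)],.sym [(13,8),(22,20)],.sym [(13,8),(22,21)],.sym [(13,8)],.sym [(13,8),(16,18),(22,19)],.sym [(13,8),(16,18),(22,20)],.sym [(13,8),(16,18),(22,21)],.sym [(13,8),(16,18)],.sym [(13,8),(16,19),(22,20)],.sym [(13,8),(16,19),(22,21)],.sym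 [(13,8),(16,19)],.sym [(13,8),(16,20),(22,21)],.sym [(13,8),(16,20)],.sym [(13,8),(16,21)],.sym [(13,9),(16,10),(22,11)],.sym [(13,9),(16,10),(22,12)],.sym [(16,9),(22,10)],.sym [(13,9),(16,10),(22,15)],.sym [(13,9),(22,10)],.sym [(13,9),(16,10),(22,18)],.sym [(13,9),(16,10),(22,19)],.sym [(13,9),(16,10),(22,20)],.sym [(13,9),(16,10),(22,21)],.sym [(13,9),(16,10)],.sym [(13,9),(16,11),(22,12)],.sym [(16,9),(22,11)],.sym [(13,9),(16,11),(22,15)],.sym [(13,9),(22,11)],.sym [(13,9),(16,11),(22,18)],.sym [(13,9),(16,11),(22,19)],.sym [(13,9),(16,11),(22,20)],.sym [(13,9),(16,11),(22,21)],.sym [(13,9),(16,11)],.sym [(16,9),(22,12)],.sym [(13,9),(16,12),(22,15)],.sym [(13,9),(22,12)],.sym [(13,9),(16,12),(22,18)],.sym [(13,9),(16,12),(22,19)],.sym [(13,9),(16,12),(22,20)],.sym [(13,9),(16,12),(22,21)],.sym [(13,9),(16,12)],.sym [(16,9),(22,15)],.sym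 [(22,9)],.sym [(16,9),(22,18)],.sym [(16,9),(22,19)],.sym [(16,9),(22,20)],.sym [(16,9),(22,21)],.sym [(16,9)],.sym [(13,9),(22,15)],.sym [(13,9),(16,15),(22,18)],.sym [(13,9),(16,15),(22,19)],.sym [(13,9),(16,15),(22,20)],.sym [(13,9),(16,15),(22,21)],.sym [(13,9),(16,15)],.sym [(13,9),(22,18)],.sym [(13,9),(22,19)],.sym [(13,9),(22,20)],.sym [(13,9),(22,21)],.sym [(13,9)],.sym [(13,9),(16,18),(22,19)],.sym [(13,9),(16,18),(22,20)],.sym [(13,9),(16,18),(22,21)],.sym [(13,9),(16,18)],.sym [(13,9),(16,19),(22,20)],.sym [(13,9),(16,19),(22,21)],.sym [(13,9),(16,19)],.sym [(13,9),(16,20),(22,21)],.sym [(13,9),(16,20)],.sym [(13,9),(16,21)],.sym [(13,10),(16,11),(22,12)],.sym [(16,10),(22,11)],.sym [(13,10),(16,11),(22,15)],.sym [(13,10),(22,11)],.sym [(13,10),(16,11),(22,18)],.sym [(13,10),(16,11),(22,19)],.sym [(13,10),(16,11),(22,20)],.sym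 [(13,10),(16,11),(22,21)],.sym [(13,10),(16,11)],.sym [(16,10),(22,12)],.sym [(13,10),(16,12),(22,15)],.sym [(13,10),(22,12)],.sym [(13,10),(16,12),(22,18)],.sym [(13,10),(16,12),(22,19)],.sym [(13,10),(16,12),(22,20)],.sym [(13,10),(16,12),(22,21)],.sym [(13,10),(16,12)],.sym [(16,10),(22,15)],.sym [(22,10)],.sym [(16,10),(22,18)],.sym [(16,10),(22,19)],.sym [(16,10),(22,20)],.sym [(16,10),(22,21)],.sym [(16,10)],.sym [(13,10),(22,15)],.sym [(13,10),(16,15),(22,18)],.sym [(13,10),(16,15),(22,19)],.sym [(13,10),(16,15),(22,20)],.sym [(13,10),(16,15),(22,21)],.sym [(13,10),(16,15)],.sym [(13,10),(22,18)],.sym [(13,10),(22,19)],.sym [(13,10),(22,20)],.sym [(13,10),(22,21)],.sym [(13,10)],.sym [(13,10),(16,18),(22,19)],.sym [(13,10),(16,18),(22,20)],.sym [(13,10),(16,18),(22,21)],.sym [(13,10),(16,18)],.sym [(13,10),(16,19),(22,20)],.sym [(13,10),(16,19),(22,21)],.sym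 [(13,10),(16,19)],.sym [(13,10),(16,20),(22,21)],.sym [(13,10),(16,20)],.sym [(13,10),(16,21)],.sym [(16,11),(22,12)],.sym [(13,11),(16,12),(22,15)],.sym [(13,11),(22,12)],.sym [(13,11),(16,12),(22,18)],.sym [(13,11),(16,12),(22,19)],.sym [(13,11),(16,12),(22,20)],.sym [(13,11),(16,12),(22,21)],.sym [(13,11),(16,12)],.sym [(16,11),(22,15)],.sym [(22,11)],.sym [(16,11),(22,18)],.sym [(16,11),(22,19)],.sym [(16,11),(22,20)],.sym [(16,11),(22,21)],.sym [(16,11)],.sym [(13,11),(22,15)],.sym [(13,11),(16,15),(22,18)],.sym [(13,11),(16,15),(22,19)],.sym [(13,11),(16,15),(22,20)],.sym [(13,11),(16,15),(22,21)],.sym [(13,11),(16,15)],.sym [(13,11),(22,18)],.sym [(13,11),(22,19)],.sym [(13,11),(22,20)],.sym [(13,11),(22,21)],.sym [(13,11)],.sym [(13,11),(16,18),(22,19)],.sym [(13,11),(16,18),(22,20)],.sym [(13,11),(16,18),(22,21)],.sym [(13,11),(16,18)],.sym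 [(13,11),(16,19),(22,20)],.sym [(13,11),(16,19),(22,21)],.sym [(13,11),(16,19)],.sym [(13,11),(16,20),(22,21)],.sym [(13,11),(16,20)],.sym [(13,11),(16,21)],.sym [(16,12),(22,15)],.sym [(22,12)],.sym [(16,12),(22,18)],.sym [(16,12),(22,19)],.sym [(16,12),(22,20)],.sym [(16,12),(22,21)],.sym [(16,12)],.sym [(13,12),(22,15)],.sym [(13,12),(16,15),(22,18)],.sym [(13,12),(16,15),(22,19)],.sym [(13,12),(16,15),(22,20)],.sym [(13,12),(16,15),(22,21)],.sym [(13,12),(16,15)],.sym [(13,12),(22,18)],.sym [(13,12),(22,19)],.sym [(13,12),(22,20)],.sym [(13,12),(22,21)],.sym [(13,12)],.sym [(13,12),(16,18),(22,19)],.sym [(13,12),(16,18),(22,20)],.sym [(13,12),(16,18),(22,21)],.sym [(13,12),(16,18)],.sym [(13,12),(16,19),(22,20)],.sym [(13,12),(16,19),(22,21)],.sym [(13,12),(16,19)],.sym [(13,12),(16,20),(22,21)],.sym [(13,12),(16,20)],.sym [(13,12),(16,21)],.sym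 [(22,15)],.sym [(16,15),(22,18)],.sym [(16,15),(22,19)],.sym [(16,15),(22,20)],.sym [(16,15),(22,21)],.sym [(16,15)],.sym [(22,18)],.sym [(22,19)],.sym [(22,20)],.sym [(22,21)],.main,.sym [(16,18),(22,19)],.sym [(16,18),(22,20)],.sym [(16,18),(22,21)],.sym [(16,18)],.sym [(16,19),(22,20)],.sym [(16,19),(22,21)],.sym [(16,19)],.sym [(16,20),(22,21)],.sym [(16,20)],.sym [(16,21)],.sym [(13,15),(22,18)],.sym [(13,15),(22,19)],.sym [(13,15),(22,20)],.sym [(13,15),(22,21)],.sym [(13,15)],.sym [(13,15),(16,18),(22,19)],.sym [(13,15),(16,18),(22,20)],.sym [(13,15),(16,18),(22,21)],.sym [(13,15),(16,18)],.sym [(13,15),(16,19),(22,20)],.sym [(13,15),(16,19),(22,21)],.sym [(13,15),(16,19)],.sym [(13,15),(16,20),(22,21)],.sym [(13,15),(16,20)],.sym [(13,15),(16,21)],.sym [(13,18),(22,19)],.sym [(13,18),(22,20)],.sym [(13,18),(22,21)],.sym [(13,18)],.sym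 [(13,19),(22,20)],.sym [(13,19),(22,21)],.sym [(13,19)],.sym [(13,20),(22,21)],.sym [(13,20)],.sym [(13,21)],.sym [(13,18),(16,19),(22,20)],.sym [(13,18),(16,19),(22,21)],.sym [(13,18),(16,19)],.sym [(13,18),(16,20),(22,21)],.sym [(13,18),(16,20)],.sym [(13,18),(16,21)],.sym [(13,19),(16,20),(22,21)],.sym [(13,19),(16,20)],.sym [(13,19),(16,21)],.sym [(13,20),(16,21)]]⟩,
  ⟨[0,1,2,6],[7,19,21],[.sym [(19,8),(21,9)],.sym [(19,8),(21,10)],.sym [(19,8),(21,11)],.sym [(19,8),(21,12)],.sym [(19,8),(21,15)],.sym [(19,8),(21,18)],.sym [(21,8)],.sym [(19,8),(21,20)],.sym [(19,8)],.sym [(19,9),(21,10)],.sym [(19,9),(21,11)],.sym [(19,9),(21,12)],.sym [(19,9),(21,15)],.sym [(19,9),(21,18)],.sym [(21,9)],.sym [(19,9),(21,20)],.sym [(19,9)],.sym [(19,10),(21,11)],.sym [(19,10),(21,12)],.sym [(19,10),(21,15)],.sym [(19,10),(21,18)],.sym [(21,10)],.sym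 [(19,10),(21,20)],.sym [(19,10)],.sym [(19,11),(21,12)],.sym [(19,11),(21,15)],.sym [(19,11),(21,18)],.sym [(21,11)],.sym [(19,11),(21,20)],.sym [(19,11)],.sym [(19,12),(21,15)],.sym [(19,12),(21,18)],.sym [(21,12)],.sym [(19,12),(21,20)],.sym [(19,12)],.sym [(19,15),(21,18)],.sym [(21,15)],.sym [(19,15),(21,20)],.sym [(19,15)],.sym [(21,18)],.sym [(19,18),(21,20)],.sym [(19,18)],.sym [(21,20)],.main,.sym [(19,20)],.sym [(7,8),(19,9),(21,10)],.sym [(7,8),(19,9),(21,11)],.sym [(7,8),(19,9),(21,12)],.sym [(7,8),(19,9),(21,15)],.sym [(7,8),(19,9),(21,18)],.sym [(7,8),(21,9)],.sym [(7,8),(19,9),(21,20)],.sym [(7,8),(19,9)],.sym [(7,8),(19,10),(21,11)],.sym [(7,8),(19,10),(21,12)],.sym [(7,8),(19,10),(21,15)],.sym [(7,8),(19,10),(21,18)],.sym [(7,8),(21,10)],.sym [(7,8),(19,10),(21,20)],.sym [(7,8),(19,10)],.sym [(7,8),(19,11),(21,12)],.sym [(7,8),(19,11),(21,15)],.sym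 [(7,8),(19,11),(21,18)],.sym [(7,8),(21,11)],.sym [(7,8),(19,11),(21,20)],.sym [(7,8),(19,11)],.sym [(7,8),(19,12),(21,15)],.sym [(7,8),(19,12),(21,18)],.sym [(7,8),(21,12)],.sym [(7,8),(19,12),(21,20)],.sym [(7,8),(19,12)],.sym [(7,8),(19,15),(21,18)],.sym [(7,8),(21,15)],.sym [(7,8),(19,15),(21,20)],.sym [(7,8),(19,15)],.sym [(7,8),(21,18)],.sym [(7,8),(19,18),(21,20)],.sym [(7,8),(19,18)],.sym [(7,8),(21,20)],.sym [(7,8)],.sym [(7,8),(19,20)],.sym [(7,9),(19,10),(21,11)],.sym [(7,9),(19,10),(21,12)],.sym [(7,9),(19,10),(21,15)],.sym [(7,9),(19,10),(21,18)],.sym [(7,9),(21,10)],.sym [(7,9),(19,10),(21,20)],.sym [(7,9),(19,10)],.sym [(7,9),(19,11),(21,12)],.sym [(7,9),(19,11),(21,15)],.sym [(7,9),(19,11),(21,18)],.sym [(7,9),(21,11)],.sym [(7,9),(19,11),(21,20)],.sym [(7,9),(19,11)],.sym [(7,9),(19,12),(21,15)],.sym [(7,9),(19,12),(21,18)],.sym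 [(7,9),(21,12)],.sym [(7,9),(19,12),(21,20)],.sym [(7,9),(19,12)],.sym [(7,9),(19,15),(21,18)],.sym [(7,9),(21,15)],.sym [(7,9),(19,15),(21,20)],.sym [(7,9),(19,15)],.sym [(7,9),(21,18)],.sym [(7,9),(19,18),(21,20)],.sym [(7,9),(19,18)],.sym [(7,9),(21,20)],.sym [(7,9)],.sym [(7,9),(19,20)],.sym [(7,10),(19,11),(21,12)],.sym [(7,10),(19,11),(21,15)],.sym [(7,10),(19,11),(21,18)],.sym [(7,10),(21,11)],.sym [(7,10),(19,11),(21,20)],.sym [(7,10),(19,11)],.sym [(7,10),(19,12),(21,15)],.sym [(7,10),(19,12),(21,18)],.sym [(7,10),(21,12)],.sym [(7,10),(19,12),(21,20)],.sym [(7,10),(19,12)],.sym [(7,10),(19,15),(21,18)],.sym [(7,10),(21,15)],.sym [(7,10),(19,15),(21,20)],.sym [(7,10),(19,15)],.sym [(7,10),(21,18)],.sym [(7,10),(19,18),(21,20)],.sym [(7,10),(19,18)],.sym [(7,10),(21,20)],.sym [(7,10)],.sym [(7,10),(19,20)],.sym [(7,11),(19,12),(21,15)],.sym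 [(7,11),(19,12),(21,18)],.sym [(7,11),(21,12)],.sym [(7,11),(19,12),(21,20)],.sym [(7,11),(19,12)],.sym [(7,11),(19,15),(21,18)],.sym [(7,11),(21,15)],.sym [(7,11),(19,15),(21,20)],.sym [(7,11),(19,15)],.sym [(7,11),(21,18)],.sym [(7,11),(19,18),(21,20)],.sym [(7,11),(19,18)],.sym [(7,11),(21,20)],.sym [(7,11)],.sym [(7,11),(19,20)],.sym [(7,12),(19,15),(21,18)],.sym [(7,12),(21,15)],.sym [(7,12),(19,15),(21,20)],.sym [(7,12),(19,15)],.sym [(7,12),(21,18)],.sym [(7,12),(19,18),(21,20)],.sym [(7,12),(19,18)],.sym [(7,12),(21,20)],.sym [(7,12)],.sym [(7,12),(19,20)],.sym [(7,15),(21,18)],.sym [(7,15),(19,18),(21,20)],.sym [(7,15),(19,18)],.sym [(7,15),(21,20)],.sym [(7,15)],.sym [(7,15),(19,20)],.sym [(7,18),(21,20)],.sym [(7,18)],.sym [(7,18),(19,20)],.sym [(7,20)]]⟩,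
  ⟨[0,1,2,8],[11,12,18],[.sym [(12,9),(18,10)],.sym [(11,9),(18,10)],.sym [(11,9),(12,10),(18,15)],.sym [(11,9),(12,10)],.sym [(11,9),(12,10),(18,20)],.sym [(18,9)],.sym [(12,9),(18,15)],.sym [(12,9)],.sym [(12,9),(18,20)],.sym [(11,9),(18,15)],.sym [(11,9)],.sym [(11,9),(18,20)],.sym [(11,9),(12,15)],.sym [(11,9),(12,15),(18,20)],.sym [(11,9),(12,20)],.sym [(18,10)],.sym [(12,10),(18,15)],.sym [(12,10)],.sym [(12,10),(18,20)],.sym [(11,10),(18,15)],.sym [(11,10)],.sym [(11,10),(18,20)],.sym [(11,10),(12,15)],.sym [(11,10),(12,15),(18,20)],.sym [(11,10),(12,20)],.sym [(18,15)],.main,.sym [(18,20)],.sym [(12,15)],.sym [(12,15),(18,20)],.sym [(12,20)],.sym [(11,15)],.sym [(11,15),(18,20)],.sym [(11,20)],.sym [(11,15),(12,20)]]⟩,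
  ⟨[0,1,2,9],[10,15,20],[.main]⟩,
  ⟨[0,1,3,4],[11,19,20],[.dead [0,1,6,7],.dead [0,1,6,7],.dead [0,1,6,7],.dead [0,1,6,7],.dead [0,1,6,7],.dead [0,1,6,7],.dead [0,1,6,7],.dead [0,1,6,7],.dead [0,1,6,7],.dead [0,1,6,7],.sym [(6,11),(7,12),(8,7),(9,10),(9,15),(8,19),(9,20),(18,21)],.sym [(6,11),(7,12),(8,7),(10,15),(8,19),(10,20),(18,21)],.dead [0,1,8,11],.dead [0,1,8,12],.sym [(6,11),(7,12),(8,7),(8,19),(15,20),(18,21)],.dead [0,1,8,18],.dead [0,1,6,19],.sym [(6,11),(7,12),(8,7),(8,19),(18,21)],.dead [0,1,6,21],.dead [0,1,9,10],.sym [(19,6),(20,9)],.sym [(6,10),(7,15),(8,7),(9,8),(6,11),(12,19),(9,18),(9,21),(12,9),(20,12)],.dead [0,1,9,15],.sym [(6,10),(7,15),(8,7),(9,8),(6,11),(12,19),(9,12),(18,21),(20,18)],.dead [0,1,6,19],.dead [0,1,9,20],.dead [0,1,6,21],.sym [(19,6),(20,10)],.sym [(6,9),(7,15),(8,7),(6,8),(10,11),(10,6),(12,19),(10,18),(10,21),(12,10),(20,12)],.dead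 [0,1,10,15],.sym [(6,9),(7,15),(8,7),(6,8),(10,11),(10,6),(12,19),(10,12),(18,21),(20,18)],.dead [0,1,6,19],.dead [0,1,10,20],.dead [0,1,6,21],.dead [0,1,11,12],.sym [(19,6),(20,15)],.dead [0,1,11,18],.dead [0,1,6,19],.sym [(19,6)],.dead [0,1,6,21],.sym [(6,8),(7,11),(6,7),(12,19),(15,20),(18,21)],.dead [0,1,12,18],.dead [0,1,6,19],.sym [(6,8),(7,11),(6,7),(12,19),(18,21)],.dead [0,1,6,21],.sym [(6,9),(7,10),(8,7),(6,8),(6,11),(12,19),(15,12),(18,21),(20,18)],.dead [0,1,6,19],.dead [0,1,15,20],.dead [0,1,6,21],.dead [0,1,6,19],.sym [(6,8),(7,11),(6,7),(12,19),(18,21),(12,18)],.dead [0,1,6,21],.dead [0,1,6,19],.dead [0,1,6,19],.dead [0,1,6,21],.sym [(6,11),(7,12),(8,6),(9,10),(9,15),(8,7),(8,19),(9,20),(18,21)],.sym [(6,11),(7,12),(8,6),(10,15),(8,7),(8,19),(10,20),(18,21)],.dead [0,1,8,11],.dead [0,1,8,12],.sym [(6,11),(7,12),(8,6),(8,7),(8,19),(15,20),(18,21)],.dead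 [0,1,8,18],.dead [0,1,7,19],.sym [(6,11),(7,12),(8,6),(8,7),(8,19),(18,21)],.dead [0,1,7,21],.dead [0,1,9,10],.sym [(19,7),(20,9)],.sym [(6,10),(7,15),(8,6),(9,8),(9,11),(9,7),(12,19),(9,18),(9,21),(12,9),(20,12)],.dead [0,1,9,15],.sym [(6,10),(7,15),(8,6),(9,8),(9,11),(9,7),(12,19),(9,12),(18,21),(20,18)],.dead [0,1,7,19],.dead [0,1,9,20],.dead [0,1,7,21],.sym [(19,7),(20,10)],.sym [(6,9),(7,15),(8,6),(10,11),(10,7),(12,19),(10,18),(10,21),(12,10),(20,12)],.dead [0,1,10,15],.sym [(6,9),(7,15),(8,6),(10,11),(10,7),(12,19),(10,12),(18,21),(20,18)],.dead [0,1,7,19],.dead [0,1,10,20],.dead [0,1,7,21],.dead [0,1,11,12],.sym [(19,7),(20,15)],.dead [0,1,11,18],.dead [0,1,7,19],.sym [(19,7)],.dead [0,1,7,21],.sym [(6,8),(7,11),(12,19),(15,20),(18,21)],.dead [0,1,12,18],.dead [0,1,7,19],.sym [(6,8),(7,11),(12,19),(18,21)],.dead [0,1,7,21],.sym [(6,9),(7,10),(8,6),(7,11),(12,19),(15,12),(18,21),(20,18)],.dead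 [0,1,7,19],.dead [0,1,15,20],.dead [0,1,7,21],.dead [0,1,7,19],.sym [(6,8),(7,11),(12,19),(18,21),(12,18)],.dead [0,1,7,21],.dead [0,1,7,19],.dead [0,1,7,19],.dead [0,1,7,21],.dead [0,1,9,10],.dead [0,1,8,11],.dead [0,1,8,12],.dead [0,1,9,15],.dead [0,1,8,18],.sym [(11,8),(20,9)],.dead [0,1,9,20],.sym [(6,10),(7,15),(8,11),(9,6),(9,7),(9,19),(20,21)],.dead [0,1,8,11],.dead [0,1,8,12],.dead [0,1,10,15],.dead [0,1,8,18],.sym [(11,8),(20,10)],.dead [0,1,10,20],.sym [(6,9),(7,15),(8,11),(10,7),(10,19),(20,21)],.dead [0,1,8,11],.dead [0,1,8,11],.dead [0,1,8,11],.dead [0,1,8,11],.dead [0,1,8,11],.dead [0,1,8,11],.dead [0,1,8,12],.dead [0,1,8,12],.dead [0,1,8,12],.dead [0,1,8,12],.dead [0,1,8,12],.dead [0,1,8,18],.sym [(11,8),(20,15)],.dead [0,1,15,20],.sym [(6,9),(7,10),(8,11),(15,19),(20,21)],.dead [0,1,8,18],.dead [0,1,8,18],.dead [0,1,8,18],.sym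 [(11,8)],.dead [0,1,19,21],.sym [(11,8),(19,21)],.dead [0,1,9,10],.dead [0,1,9,10],.dead [0,1,9,10],.dead [0,1,9,10],.dead [0,1,9,10],.dead [0,1,9,10],.dead [0,1,9,10],.dead [0,1,11,12],.dead [0,1,9,15],.dead [0,1,11,18],.sym [(20,9)],.dead [0,1,9,20],.sym [(6,8),(7,12),(6,10),(9,6),(9,7),(11,9),(11,15),(11,19),(18,20),(18,21)],.dead [0,1,9,15],.dead [0,1,12,18],.sym [(6,8),(7,11),(6,10),(9,6),(9,7),(12,15),(12,21),(18,20),(19,12),(18,19)],.dead [0,1,9,20],.sym [(6,8),(7,11),(6,10),(9,6),(9,7),(12,15),(12,19),(18,20),(18,21)],.dead [0,1,9,15],.dead [0,1,9,15],.dead [0,1,9,15],.dead [0,1,9,15],.sym [(6,8),(7,11),(6,10),(9,6),(9,7),(12,15),(12,21),(18,20),(19,18)],.dead [0,1,9,20],.sym [(6,8),(7,11),(6,10),(9,6),(9,7),(12,15),(12,19),(18,20),(12,18),(12,21)],.dead [0,1,9,20],.dead [0,1,19,21],.dead [0,1,9,20],.dead [0,1,11,12],.dead [0,1,10,15],.dead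 [0,1,11,18],.sym [(20,10)],.dead [0,1,10,20],.sym [(6,8),(7,12),(6,9),(10,7),(11,10),(11,15),(11,19),(18,20),(18,21)],.dead [0,1,10,15],.dead [0,1,12,18],.sym [(6,8),(7,11),(6,9),(10,7),(12,15),(12,21),(18,20),(19,12),(18,19)],.dead [0,1,10,20],.sym [(6,8),(7,11),(6,9),(10,7),(12,15),(12,19),(18,20),(18,21)],.dead [0,1,10,15],.dead [0,1,10,15],.dead [0,1,10,15],.dead [0,1,10,15],.sym [(6,8),(7,11),(6,9),(10,7),(12,15),(12,21),(18,20),(19,18)],.dead [0,1,10,20],.sym [(6,8),(7,11),(6,9),(10,7),(12,15),(12,19),(18,20),(12,18),(12,21)],.dead [0,1,10,20],.dead [0,1,19,21],.dead [0,1,10,20],.dead [0,1,11,12],.dead [0,1,11,12],.dead [0,1,11,12],.dead [0,1,11,12],.dead [0,1,11,12],.dead [0,1,11,18],.sym [(20,15)],.dead [0,1,15,20],.sym [(6,9),(7,10),(15,19),(20,21)],.dead [0,1,11,18],.dead [0,1,11,18],.dead [0,1,11,18],.main,.dead [0,1,19,21],.sym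 [(19,21)],.dead [0,1,12,18],.sym [(11,12),(20,15)],.dead [0,1,15,20],.sym [(6,9),(7,10),(11,12),(15,19),(20,21)],.dead [0,1,12,18],.dead [0,1,12,18],.dead [0,1,12,18],.sym [(11,12)],.dead [0,1,19,21],.sym [(11,12),(19,21)],.sym [(6,8),(7,11),(6,9),(10,7),(10,15),(12,10),(12,21),(18,20),(19,18)],.dead [0,1,15,20],.sym [(6,8),(7,11),(6,9),(10,7),(10,15),(12,10),(12,19),(18,20),(12,18),(12,21)],.dead [0,1,15,20],.dead [0,1,19,21],.dead [0,1,15,20],.sym [(11,18)],.dead [0,1,19,21],.sym [(11,18),(19,21)],.dead [0,1,19,21]]⟩,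
  ⟨[0,1,3,6],[8,10,13],[.dead [0,1,9,10],.dead [0,1,8,12],.sym [(10,9)],.dead [0,1,9,15],.sym [(10,9),(13,16)],.dead [0,1,8,18],.sym [(10,9),(13,22)],.dead [0,1,8,12],.main,.dead [0,1,10,15],.sym [(13,16)],.dead [0,1,8,18],.sym [(13,22)],.dead [0,1,8,12],.dead [0,1,8,12],.dead [0,1,8,12],.dead [0,1,8,12],.dead [0,1,8,12],.sym [(10,15)],.dead [0,1,13,16],.dead [0,1,8,18],.dead [0,1,13,22],.sym [(10,15),(13,16)],.dead [0,1,8,18],.sym [(10,15),(13,22)],.dead [0,1,8,18],.dead [0,1,16,22],.dead [0,1,8,18],.dead [0,1,9,10],.dead [0,1,9,10],.dead [0,1,9,10],.dead [0,1,9,10],.dead [0,1,9,10],.dead [0,1,9,10],.sym [(8,9),(10,12),(11,20),(15,18)],.dead [0,1,9,15],.sym [(8,9),(10,12),(11,20),(13,16),(15,18)],.dead [0,1,12,18],.sym [(8,9),(10,12),(11,20),(13,22),(15,18),(16,13)],.dead [0,1,9,15],.dead [0,1,13,16],.sym [(8,9),(10,18),(11,20),(12,10),(15,12)],.dead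 [0,1,13,22],.dead [0,1,9,15],.dead [0,1,9,15],.dead [0,1,9,15],.sym [(8,9),(10,18),(11,20),(12,10),(13,16),(15,12)],.dead [0,1,16,22],.sym [(8,9),(10,18),(11,20),(12,10),(13,22),(15,12),(16,13)],.sym [(8,12)],.dead [0,1,10,15],.sym [(8,12),(13,16)],.dead [0,1,12,18],.sym [(8,12),(13,22)],.dead [0,1,10,15],.dead [0,1,13,16],.sym [(8,18)],.dead [0,1,13,22],.dead [0,1,10,15],.dead [0,1,10,15],.dead [0,1,10,15],.sym [(8,10),(9,8),(9,18),(11,20),(12,9),(13,16),(15,12)],.dead [0,1,16,22],.sym [(8,18),(13,22)],.sym [(8,12),(10,15)],.dead [0,1,13,16],.dead [0,1,12,18],.dead [0,1,13,22],.sym [(8,12),(10,15),(13,16)],.dead [0,1,12,18],.sym [(8,12),(10,15),(13,22)],.dead [0,1,12,18],.dead [0,1,16,22],.dead [0,1,12,18],.dead [0,1,13,16],.sym [(8,15),(9,8),(10,18),(11,20),(12,9)],.dead [0,1,13,22],.dead [0,1,13,16],.dead [0,1,13,16],.dead [0,1,13,22],.sym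 [(8,15),(9,8),(10,18),(11,20),(12,9),(13,16)],.dead [0,1,16,22],.sym [(8,15),(9,8),(10,18),(11,20),(12,9),(13,22),(16,13)],.dead [0,1,16,22]]⟩,
  ⟨[0,1,3,7],[9,16,18],[.dead [0,1,9,15],.sym [(18,12)],.dead [0,1,12,18],.sym [(12,18),(16,22)],.dead [0,1,9,15],.dead [0,1,9,15],.dead [0,1,9,15],.main,.dead [0,1,16,22],.sym [(16,22)],.sym [(9,15),(12,18)],.dead [0,1,12,18],.sym [(9,15),(12,18),(16,22)],.dead [0,1,12,18],.dead [0,1,16,22],.dead [0,1,12,18],.sym [(9,15)],.dead [0,1,16,22],.sym [(9,15),(16,22)],.dead [0,1,16,22]]⟩,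
  ⟨[0,1,3,12],[15,21,22],[.main]⟩,
  ⟨[0,1,4,5],[7,8,15],[.dead [0,1,6,7],.dead [0,1,6,7],.dead [0,1,6,7],.dead [0,1,6,7],.dead [0,1,6,7],.dead [0,1,6,7],.dead [0,1,6,7],.dead [0,1,6,8],.dead [0,1,6,8],.dead [0,1,6,8],.dead [0,1,6,8],.dead [0,1,6,8],.dead [0,1,6,8],.dead [0,1,6,10],.sym [(6,7),(8,9),(10,18),(11,20),(12,15),(13,16)],.dead [0,1,9,15],.dead [0,1,9,18],.dead [0,1,6,21],.dead [0,1,6,10],.dead [0,1,6,10],.dead [0,1,6,10],.dead [0,1,6,10],.dead [0,1,12,15],.dead [0,1,12,18],.dead [0,1,6,21],.sym [(6,7),(8,18),(9,10),(13,16)],.dead [0,1,6,21],.dead [0,1,6,21],.dead [0,1,7,9],.dead [0,1,8,10],.dead [0,1,8,12],.main,.dead [0,1,7,18],.dead [0,1,7,21],.dead [0,1,7,9],.dead [0,1,7,9],.dead [0,1,7,9],.dead [0,1,7,9],.dead [0,1,7,9],.sym [(8,10),(9,18),(11,20),(12,15)],.dead [0,1,10,15],.dead [0,1,7,18],.dead [0,1,7,21],.dead [0,1,12,15],.dead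 [0,1,7,18],.dead [0,1,7,21],.dead [0,1,7,18],.dead [0,1,7,21],.dead [0,1,7,18],.dead [0,1,8,10],.dead [0,1,8,12],.dead [0,1,9,15],.dead [0,1,8,18],.sym [(6,12),(7,8),(7,21),(9,10),(9,15),(11,19),(6,7),(13,22),(16,13),(18,6)],.dead [0,1,8,10],.dead [0,1,8,10],.dead [0,1,8,10],.dead [0,1,8,10],.dead [0,1,8,12],.dead [0,1,8,12],.dead [0,1,8,12],.dead [0,1,8,18],.dead [0,1,15,21],.dead [0,1,8,18],.dead [0,1,9,10],.dead [0,1,9,10],.dead [0,1,9,10],.dead [0,1,9,10],.dead [0,1,9,15],.dead [0,1,9,18],.dead [0,1,12,21],.dead [0,1,9,15],.dead [0,1,9,15],.dead [0,1,9,18],.dead [0,1,10,15],.dead [0,1,12,18],.dead [0,1,12,21],.dead [0,1,10,15],.dead [0,1,10,15],.sym [(6,9),(7,10),(8,18),(13,16),(15,21),(19,20)],.dead [0,1,12,15],.dead [0,1,12,15],.dead [0,1,12,18],.dead [0,1,15,21]]⟩,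
  ⟨[0,1,4,6],[9,12,17],[.sym [(17,14)],.main,.dead [0,1,9,18],.dead [0,1,14,17],.dead [0,1,9,18],.dead [0,1,9,18],.dead [0,1,14,17],.dead [0,1,12,18],.dead [0,1,12,18],.dead [0,1,14,17]]⟩,
  ⟨[0,1,4,10],[14,18,21],[.main]⟩,
  ⟨[0,1,5,6],[18,20,22],[.dead [0,1,11,18],.dead [0,1,11,20],.dead [0,1,16,22],.dead [0,1,11,18],.dead [0,1,11,18],.dead [0,1,11,20],.dead [0,1,16,18],.dead [0,1,16,18],.dead [0,1,16,22],.main]⟩,
  ⟨[0,1,5,9],[11,13,21],[.dead [0,1,11,19],.main,.dead [0,1,11,19],.dead [0,1,19,21]]⟩,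
  ⟨[0,1,5,10],[12,16,19],[.main]⟩,
  ⟨[0,1,6,11],[14,15,16],[.main]⟩,
  ⟨[0,1,7,10],[11,17,22],[.main]⟩,
  ⟨[0,1,7,12],[13,14,20],[.main]⟩,
  ⟨[0,1,8,9],[14,19,22],[.main]⟩,
  ⟨[0,1,8,16],[17,20,21],[.main]⟩,
  ⟨[0,1,13,15],[17,18,19],[.main]⟩,
  ⟨[0,2,3,4],[8,9,21],[.dead [0,2,6,7],.dead [0,2,6,7],.dead [0,2,6,7],.dead [0,2,6,7],.dead [0,2,6,7],.dead [0,2,6,7],.dead [0,2,6,7],.dead [0,3,6,8],.dead [0,3,6,8],.dead [0,2,8,12],.dead [0,3,6,8],.dead [0,2,8,18],.dead [0,2,6,21],.dead [0,2,9,10],.dead [0,4,6,9],.dead [0,2,9,15],.dead [0,3,9,18],.dead [0,2,6,21],.dead [0,3,6,10],.dead [0,2,10,15],.dead [0,3,6,10],.dead [0,2,6,21],.dead [0,3,12,15],.dead [0,2,12,18],.dead [0,2,6,21],.sym [(6,12),(7,8),(7,15),(9,6),(10,21),(11,20),(13,22),(16,13),(18,10),(19,11)],.dead [0,2,6,21],.dead [0,2,6,21],.dead [0,3,7,9],.dead [0,3,8,10],.dead [0,2,8,12],.dead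 [0,4,7,8],.dead [0,2,8,18],.dead [0,2,7,21],.dead [0,2,9,10],.dead [0,3,7,9],.dead [0,2,9,15],.dead [0,3,7,9],.dead [0,2,7,21],.sym [(6,9),(7,15),(8,7),(6,12),(10,18),(11,19),(13,16),(13,22),(10,21),(11,20)],.dead [0,2,10,15],.dead [0,3,7,18],.dead [0,2,7,21],.dead [0,3,12,15],.dead [0,2,12,18],.dead [0,2,7,21],.dead [0,3,7,18],.dead [0,2,7,21],.dead [0,2,7,21],.dead [0,2,9,10],.dead [0,2,8,12],.dead [0,2,9,15],.dead [0,2,8,18],.main,.dead [0,2,8,12],.dead [0,2,10,15],.dead [0,2,8,18],.dead [0,3,8,10],.dead [0,2,8,12],.dead [0,2,8,12],.dead [0,2,8,12],.dead [0,2,8,18],.dead [0,3,15,21],.dead [0,2,8,18],.dead [0,2,9,10],.dead [0,2,9,10],.dead [0,2,9,10],.dead [0,2,9,10],.dead [0,2,9,15],.dead [0,2,12,18],.dead [0,3,12,21],.dead [0,2,9,15],.dead [0,2,9,15],.dead [0,3,9,18],.dead [0,2,10,15],.dead [0,2,12,18],.dead [0,3,12,21],.dead [0,2,10,15],.dead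 [0,2,10,15],.dead [0,4,10,18],.dead [0,2,12,18],.dead [0,3,12,15],.dead [0,2,12,18],.dead [0,3,15,21]]⟩,
  ⟨[0,2,3,6],[12,16,20],[.dead [0,2,11,12],.dead [0,2,11,12],.dead [0,2,11,12],.dead [0,2,11,12],.dead [0,2,11,12],.dead [0,6,11,15],.dead [0,2,11,18],.dead [0,2,15,20],.dead [0,3,15,22],.dead [0,2,11,18],.dead [0,3,11,20],.dead [0,2,16,22],.dead [0,2,11,18],.dead [0,2,11,18],.dead [0,3,11,20],.dead [0,3,12,15],.dead [0,2,12,18],.dead [0,2,15,20],.dead [0,3,12,15],.dead [0,2,12,18],.main,.dead [0,2,16,22],.dead [0,2,12,18],.dead [0,2,12,18],.dead [0,3,12,22],.dead [0,3,16,18],.dead [0,2,15,20],.dead [0,2,16,22],.dead [0,2,15,20],.dead [0,3,15,22],.dead [0,2,15,20],.dead [0,3,16,18],.dead [0,2,16,22],.dead [0,2,16,22],.dead [0,6,18,20]]⟩,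
  ⟨[0,2,3,7],[11,13,15],[.dead [0,3,10,13],.dead [0,2,10,15],.dead [0,7,10,11],.dead [0,2,10,15],.dead [0,2,13,22],.dead [0,2,10,15],.main,.dead [0,2,13,22],.dead [0,3,15,22],.dead [0,2,13,22]]⟩,
  ⟨[0,2,3,10],[18,19,22],[.main]⟩,
  ⟨[0,2,4,5],[6,10,11],[.main,.dead [0,2,6,12],.dead [0,2,10,18],.dead [0,2,6,19],.dead [0,2,6,20],.dead [0,2,6,12],.dead [0,2,11,18],.dead [0,2,6,19],.dead [0,2,6,20],.dead [0,2,6,12],.dead [0,2,6,12],.dead [0,2,6,12],.dead [0,2,6,19],.dead [0,2,6,20],.dead [0,2,6,19],.dead [0,2,11,12],.dead [0,2,10,18],.dead [0,2,10,19],.dead [0,2,10,20],.dead [0,2,10,18],.dead [0,2,10,19],.dead [0,2,10,20],.dead [0,2,10,18],.dead [0,2,10,18],.dead [0,2,10,19],.dead [0,2,11,12],.dead [0,2,11,12],.dead [0,2,11,12],.dead [0,2,11,18],.dead [0,2,11,18],.dead [0,4,11,19],.dead [0,2,12,18],.dead [0,2,12,18],.dead [0,2,12,20],.dead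 [0,2,18,19]]⟩,
  ⟨[0,2,4,7],[17,18,20],[.dead [0,2,14,17],.dead [0,2,12,18],.dead [0,2,12,20],.dead [0,2,12,18],.dead [0,2,12,20],.dead [0,2,12,18],.dead [0,2,14,17],.dead [0,2,14,17],.dead [0,4,14,18],.main]⟩,
  ⟨[0,2,4,12],[14,15,19],[.main]⟩,
  ⟨[0,2,5,7],[9,12,22],[.dead [0,2,12,16],.main,.dead [0,2,16,22],.dead [0,2,12,16]]⟩,
  ⟨[0,2,5,8],[13,19,20],[.dead [0,2,13,16],.dead [0,2,13,16],.main,.dead [0,2,16,20]]⟩,
  ⟨[0,2,5,15],[16,18,21],[.main]⟩,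
  ⟨[0,2,6,8],[15,17,22],[.dead [0,2,14,15],.dead [0,2,14,15],.dead [0,2,14,17],.main]⟩,
  ⟨[0,2,6,9],[13,14,18],[.main]⟩,
  ⟨[0,2,7,8],[10,14,16],[.main]⟩,
  ⟨[0,2,9,11],[16,17,19],[.main]⟩,
  ⟨[0,2,10,12],[13,17,21],[.main]⟩,
  ⟨[0,2,11,14],[20,21,22],[.main]⟩,
  ⟨[0,3,4,5],[12,13,18],[.dead [0,3,12,16],.main,.dead [0,3,12,22],.dead [0,3,12,16],.dead [0,3,12,16],.dead [0,3,12,22],.dead [0,3,16,18],.dead [0,4,13,16],.dead [0,3,18,22],.dead [0,3,16,18]]⟩,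
  ⟨[0,3,4,6],[7,14,22],[.dead [0,3,7,15],.main,.dead [0,3,7,15],.dead [0,3,15,22]]⟩,
  ⟨[0,3,4,10],[15,16,17],[.main]⟩]

noncomputable def cert23_1 : List Node := [
  ⟨[0,3,5,6],[9,15,19],[.main,.dead [0,3,9,21],.dead [0,3,9,21],.dead [0,3,15,21]]⟩,
  ⟨[0,3,5,7],[10,20,21],[.main]⟩,
  ⟨[0,3,5,8],[11,16,22],[.main]⟩,
  ⟨[0,3,6,11],[17,18,21],[.main]⟩,
  ⟨[0,3,7,8],[12,17,19],[.main]⟩,
  ⟨[0,3,8,14],[15,18,20],[.main]⟩,
  ⟨[0,3,9,10],[11,12,14],[.main]⟩,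
  ⟨[0,3,9,13],[17,20,22],[.main]⟩,
  ⟨[0,3,13,14],[16,19,21],[.main]⟩,
  ⟨[0,4,5,9],[14,16,20],[.main]⟩,
  ⟨[0,4,5,17],[19,21,22],[.main]⟩,
  ⟨[0,4,6,8],[16,18,19],[.main,.dead [0,4,16,20],.dead [0,4,16,20],.dead [0,4,18,20]]⟩,
  ⟨[0,4,6,13],[15,20,21],[.main]⟩,
  ⟨[0,4,7,9],[10,13,19],[.dead [0,4,10,11],.dead [0,4,10,11],.main,.dead [0,4,11,19]]⟩,
  ⟨[0,4,7,11],[12,16,21],[.main]⟩,
  ⟨[0,4,8,10],[12,20,22],[.main]⟩,
  ⟨[0,4,8,11],[13,14,17],[.main]⟩,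
  ⟨[0,4,9,11],[15,18,22],[.main]⟩,
  ⟨[0,5,6,7],[13,16,17],[.main]⟩,
  ⟨[0,5,6,8],[12,14,21],[.main]⟩,
  ⟨[0,5,7,11],[14,18,19],[.main]⟩,
  ⟨[0,5,8,9],[10,17,18],[.main]⟩,
  ⟨[0,5,10,13],[14,15,22],[.main]⟩,
  ⟨[0,5,11,12],[15,17,20],[.main]⟩,
  ⟨[0,6,7,8],[9,11,20],[.main]⟩,
  ⟨[0,6,7,10],[12,15,18],[.main]⟩,
  ⟨[0,6,9,10],[16,21,22],[.main]⟩,
  ⟨[0,6,10,14],[17,19,20],[.main]⟩,
  ⟨[0,6,11,12],[13,19,22],[.main]⟩,
  ⟨[0,7,8,13],[18,21,22],[.main]⟩,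
  ⟨[0,7,9,14],[15,17,21],[.main]⟩,
  ⟨[0,7,15,16],[19,20,22],[.main]⟩,
  ⟨[0,8,9,12],[13,15,16],[.main]⟩,
  ⟨[0,8,10,11],[15,19,21],[.main]⟩,
  ⟨[0,9,12,18],[19,20,21],[.main]⟩,
  ⟨[0,10,11,13],[16,18,20],[.main]⟩,
  ⟨[0,12,14,16],[17,18,22],[.main]⟩,
  ⟨[1,2,3,4],[6,15,18],[.dead [1,2,6,7],.dead [1,2,6,7],.dead [1,2,6,7],.dead [1,2,6,7],.dead [1,3,6,10],.dead [1,2,10,15],.dead [1,3,6,10],.dead [1,3,12,15],.dead [1,2,12,18],.main,.sym [(6,10),(7,15),(9,21),(12,18),(14,17),(16,22),(19,20)],.dead [1,2,10,15],.dead [1,3,7,18],.dead [1,3,12,15],.dead [1,2,12,18],.dead [1,3,7,18],.dead [1,2,10,15],.dead [1,2,12,18],.dead [1,2,10,15],.dead [1,2,12,18]]⟩,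
  ⟨[1,2,3,7],[8,20,22],[.dead [1,2,8,12],.dead [1,2,10,20],.dead [1,3,8,10],.dead [1,2,8,12],.dead [1,2,8,12],.main,.dead [1,2,10,20],.dead [1,3,12,22],.dead [1,2,10,20],.dead [1,3,12,22]]⟩,
  ⟨[1,2,3,9],[12,13,19],[.dead [1,2,11,12],.dead [1,2,11,12],.dead [1,3,11,19],.main]⟩]

noncomputable def cert23_2 : List Node := [
  ⟨[1,2,3,10],[11,16,21],[.main]⟩,
  ⟨[1,2,4,5],[12,20,21],[.dead [1,2,9,12],.dead [1,2,9,12],.dead [1,2,9,12],.dead [1,2,9,19],.dead [1,2,9,19],.dead [1,2,9,20],.dead [1,2,12,19],.dead [1,2,12,19],.main,.dead [1,2,19,21]]⟩,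
  ⟨[1,2,4,7],[9,11,14],[.dead [1,2,9,10],.dead [1,2,9,10],.main,.dead [1,2,10,11]]⟩,
  ⟨[1,2,4,8],[10,17,19],[.main]⟩,
  ⟨[1,2,5,6],[8,9,16],[.dead [1,2,9,13],.main,.dead [1,2,13,16],.dead [1,2,9,13]]⟩,
  ⟨[1,2,5,7],[10,13,18],[.main]⟩,
  ⟨[1,2,5,11],[15,19,22],[.main]⟩,
  ⟨[1,2,6,10],[12,14,22],[.main]⟩,
  ⟨[1,2,6,11],[13,17,20],[.main]⟩,
  ⟨[1,2,7,12],[15,16,17],[.main]⟩,
  ⟨[1,2,8,13],[14,15,21],[.main]⟩,
  ⟨[1,2,9,17],[18,21,22],[.main]⟩,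
  ⟨[1,2,14,16],[18,19,20],[.main]⟩,
  ⟨[1,3,4,5],[9,10,22],[.dead [1,3,9,16],.main,.dead [1,3,9,16],.dead [1,3,10,16]]⟩,
  ⟨[1,3,4,7],[13,17,21],[.dead [1,3,12,13],.dead [1,3,12,13],.dead [1,3,12,21],.main]⟩,
  ⟨[1,3,4,8],[12,14,16],[.main]⟩,
  ⟨[1,3,5,6],[7,11,12],[.main,.dead [1,3,7,21],.dead [1,3,7,21],.dead [1,3,11,21]]⟩,
  ⟨[1,3,5,8],[18,19,21],[.main]⟩,
  ⟨[1,3,5,13],[15,16,20],[.main]⟩,
  ⟨[1,3,6,9],[14,20,21],[.main]⟩,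
  ⟨[1,3,6,16],[17,19,22],[.main]⟩,
  ⟨[1,3,7,10],[14,15,19],[.main]⟩,
  ⟨[1,3,8,9],[11,15,17],[.main]⟩,
  ⟨[1,3,10,12],[17,18,20],[.main]⟩,
  ⟨[1,3,11,13],[14,18,22],[.main]⟩,
  ⟨[1,4,5,6],[13,14,19],[.main]⟩,
  ⟨[1,4,5,11],[16,17,18],[.main]⟩,
  ⟨[1,4,6,7],[10,16,20],[.main]⟩,
  ⟨[1,4,6,8],[11,21,22],[.main]⟩,
  ⟨[1,4,7,12],[18,19,22],[.main]⟩,
  ⟨[1,4,8,9],[13,18,20],[.main]⟩,
  ⟨[1,4,9,15],[16,19,21],[.main]⟩,
  ⟨[1,4,10,11],[12,13,15],[.main]⟩,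
  ⟨[1,4,14,15],[17,20,22],[.main]⟩,
  ⟨[1,5,6,10],[15,17,21],[.main]⟩,
  ⟨[1,5,7,9],[17,19,20],[.main]⟩,
  ⟨[1,5,7,14],[16,21,22],[.main]⟩,
  ⟨[1,5,8,10],[11,14,20],[.main]⟩,
  ⟨[1,5,8,12],[13,17,22],[.main]⟩,
  ⟨[1,5,9,12],[14,15,18],[.main]⟩]

noncomputable def cert23_3 : List Node := [
  ⟨[1,6,7,8],[14,17,18],[.main]⟩,
  ⟨[1,6,7,9],[13,15,22],[.main]⟩,
  ⟨[1,6,8,12],[15,19,20],[.main]⟩,
  ⟨[1,6,9,10],[11,18,19],[.main]⟩,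
  ⟨[1,6,12,13],[16,18,21],[.main]⟩,
  ⟨[1,7,8,9],[10,12,21],[.main]⟩,
  ⟨[1,7,8,11],[13,16,19],[.main]⟩,
  ⟨[1,7,11,15],[18,20,21],[.main]⟩,
  ⟨[1,8,10,15],[16,18,22],[.main]⟩,
  ⟨[1,9,10,13],[14,16,17],[.main]⟩,
  ⟨[1,9,11,12],[16,20,22],[.main]⟩,
  ⟨[1,10,13,19],[20,21,22],[.main]⟩,
  ⟨[1,11,12,14],[17,19,21],[.main]⟩,
  ⟨[2,3,4,5],[7,16,19],[.main]⟩,
  ⟨[2,3,4,10],[13,14,20],[.dead [2,3,12,13],.dead [2,3,12,13],.dead [2,3,12,20],.main]⟩,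
  ⟨[2,3,4,11],[12,17,22],[.main]⟩,
  ⟨[2,3,5,6],[13,21,22],[.main]⟩,
  ⟨[2,3,5,8],[10,12,15],[.main]⟩,
  ⟨[2,3,5,9],[11,18,20],[.main]⟩,
  ⟨[2,3,6,7],[9,10,17],[.main]⟩,
  ⟨[2,3,6,8],[11,14,19],[.main]⟩,
  ⟨[2,3,7,12],[14,18,21],[.main]⟩,
  ⟨[2,3,8,13],[16,17,18],[.main]⟩,
  ⟨[2,3,9,14],[15,16,22],[.main]⟩,
  ⟨[2,3,15,17],[19,20,21],[.main]⟩,
  ⟨[2,4,5,8],[14,18,22],[.main]⟩,
  ⟨[2,4,5,9],[13,15,17],[.main]⟩,
  ⟨[2,4,6,7],[8,12,13],[.main]⟩,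
  ⟨[2,4,6,9],[19,20,22],[.main]⟩,
  ⟨[2,4,6,14],[16,17,21],[.main]⟩,
  ⟨[2,4,7,10],[15,21,22],[.main]⟩,
  ⟨[2,4,8,11],[15,16,20],[.main]⟩,
  ⟨[2,4,9,10],[12,16,18],[.main]⟩,
  ⟨[2,4,11,13],[18,19,21],[.main]⟩,
  ⟨[2,5,6,7],[14,15,20],[.main]⟩,
  ⟨[2,5,6,12],[17,18,19],[.main]⟩,
  ⟨[2,5,7,8],[11,17,21],[.main]⟩,
  ⟨[2,5,9,10],[14,19,21],[.main]⟩,
  ⟨[2,5,10,16],[17,20,22],[.main]⟩,
  ⟨[2,5,11,12],[13,14,16],[.main]⟩]

noncomputable def cert23_4 : List Node := [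
  ⟨[2,6,7,11],[16,18,22],[.main]⟩,
  ⟨[2,6,8,10],[18,20,21],[.main]⟩,
  ⟨[2,6,9,11],[12,15,21],[.main]⟩,
  ⟨[2,6,10,13],[15,16,19],[.main]⟩,
  ⟨[2,7,8,9],[15,18,19],[.main]⟩,
  ⟨[2,7,9,13],[16,20,21],[.main]⟩,
  ⟨[2,7,10,11],[12,19,20],[.main]⟩,
  ⟨[2,7,13,14],[17,19,22],[.main]⟩,
  ⟨[2,8,9,10],[11,13,22],[.main]⟩,
  ⟨[2,8,9,12],[14,17,20],[.main]⟩,
  ⟨[2,8,12,16],[19,21,22],[.main]⟩,
  ⟨[2,10,11,14],[15,17,18],[.main]⟩,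
  ⟨[2,12,13,15],[18,20,22],[.main]⟩,
  ⟨[3,4,5,6],[8,17,20],[.main]⟩,
  ⟨[3,4,5,11],[14,15,21],[.main]⟩,
  ⟨[3,4,6,9],[11,13,16],[.main]⟩,
  ⟨[3,4,6,10],[12,19,21],[.main]⟩,
  ⟨[3,4,7,8],[10,11,18],[.main]⟩,
  ⟨[3,4,7,9],[12,15,20],[.main]⟩,
  ⟨[3,4,8,13],[15,19,22],[.main]⟩,
  ⟨[3,4,9,14],[17,18,19],[.main]⟩,
  ⟨[3,4,16,18],[20,21,22],[.main]⟩,
  ⟨[3,5,6,10],[14,16,18],[.main]⟩,
  ⟨[3,5,7,8],[9,13,14],[.main]⟩,
  ⟨[3,5,7,15],[17,18,22],[.main]⟩,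
  ⟨[3,5,9,12],[16,17,21],[.main]⟩,
  ⟨[3,5,10,11],[13,17,19],[.main]⟩,
  ⟨[3,5,12,14],[19,20,22],[.main]⟩,
  ⟨[3,6,7,8],[15,16,21],[.main]⟩,
  ⟨[3,6,7,13],[18,19,20],[.main]⟩,
  ⟨[3,6,8,9],[12,18,22],[.main]⟩,
  ⟨[3,6,10,11],[15,20,22],[.main]⟩,
  ⟨[3,6,12,13],[14,15,17],[.main]⟩,
  ⟨[3,7,9,11],[19,21,22],[.main]⟩,
  ⟨[3,7,10,12],[13,16,22],[.main]⟩,
  ⟨[3,7,11,14],[16,17,20],[.main]⟩,
  ⟨[3,8,9,10],[16,19,20],[.main]⟩,
  ⟨[3,8,10,14],[17,21,22],[.main]⟩,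
  ⟨[3,8,11,12],[13,20,21],[.main]⟩,
  ⟨[3,9,10,13],[15,18,21],[.main]⟩]

noncomputable def cert23_5 : List Node := [
  ⟨[3,11,12,15],[16,18,19],[.main]⟩,
  ⟨[4,5,6,7],[9,18,21],[.main]⟩,
  ⟨[4,5,6,12],[15,16,22],[.main]⟩,
  ⟨[4,5,7,10],[12,14,17],[.main]⟩,
  ⟨[4,5,7,11],[13,20,22],[.main]⟩,
  ⟨[4,5,8,9],[11,12,19],[.main]⟩,
  ⟨[4,5,8,10],[13,16,21],[.main]⟩,
  ⟨[4,5,10,15],[18,19,20],[.main]⟩,
  ⟨[4,6,7,11],[15,17,19],[.main]⟩,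
  ⟨[4,6,8,9],[10,14,15],[.main]⟩,
  ⟨[4,6,10,13],[17,18,22],[.main]⟩,
  ⟨[4,6,11,12],[14,18,20],[.main]⟩,
  ⟨[4,7,8,9],[16,17,22],[.main]⟩,
  ⟨[4,7,8,14],[19,20,21],[.main]⟩,
  ⟨[4,7,13,14],[15,16,18],[.main]⟩,
  ⟨[4,8,12,15],[17,18,21],[.main]⟩,
  ⟨[4,9,10,11],[17,20,21],[.main]⟩,
  ⟨[4,9,12,13],[14,21,22],[.main]⟩,
  ⟨[4,10,11,14],[16,19,22],[.main]⟩,
  ⟨[4,12,13,16],[17,19,20],[.main]⟩,
  ⟨[5,6,7,8],[10,19,22],[.main]⟩,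
  ⟨[5,6,8,11],[13,15,18],[.main]⟩,
  ⟨[5,6,9,10],[12,13,20],[.main]⟩,
  ⟨[5,6,9,11],[14,17,22],[.main]⟩,
  ⟨[5,6,11,16],[19,20,21],[.main]⟩,
  ⟨[5,7,8,12],[16,18,20],[.main]⟩,
  ⟨[5,7,9,10],[11,15,16],[.main]⟩,
  ⟨[5,7,12,13],[15,19,21],[.main]⟩,
  ⟨[5,8,9,15],[20,21,22],[.main]⟩,
  ⟨[5,8,14,15],[16,17,19],[.main]⟩,
  ⟨[5,9,13,16],[18,19,22],[.main]⟩,
  ⟨[5,10,11,12],[18,21,22],[.main]⟩,
  ⟨[5,13,14,17],[18,20,21],[.main]⟩,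
  ⟨[6,7,9,12],[14,16,19],[.main]⟩,
  ⟨[6,7,10,11],[13,14,21],[.main]⟩,
  ⟨[6,7,12,17],[20,21,22],[.main]⟩,
  ⟨[6,8,9,13],[17,19,21],[.main]⟩,
  ⟨[6,8,10,11],[12,16,17],[.main]⟩,
  ⟨[6,8,13,14],[16,20,22],[.main]⟩,
  ⟨[6,9,15,16],[17,18,20],[.main]⟩]

noncomputable def cert23_6 : List Node := [
  ⟨[6,14,15,18],[19,21,22],[.main]⟩,
  ⟨[7,8,10,13],[15,17,20],[.main]⟩,
  ⟨[7,8,11,12],[14,15,22],[.main]⟩,
  ⟨[7,9,10,14],[18,20,22],[.main]⟩,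
  ⟨[7,9,11,12],[13,17,18],[.main]⟩,
  ⟨[7,10,16,17],[18,19,21],[.main]⟩,
  ⟨[8,9,11,14],[16,18,21],[.main]⟩,
  ⟨[8,10,12,13],[14,18,19],[.main]⟩,
  ⟨[8,11,17,18],[19,20,22],[.main]⟩,
  ⟨[9,10,12,15],[17,19,22],[.main]⟩,
  ⟨[9,11,13,14],[15,19,20],[.main]⟩,
  ⟨[10,12,14,15],[16,20,21],[.main]⟩,
  ⟨[11,13,15,16],[17,21,22],[.main]⟩]

noncomputable def cert23 : List Node := cert23_0 ++ cert23_1 ++ cert23_2 ++ cert23_3 ++ cert23_4 ++ cert23_5 ++ cert23_6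

theorem cert23_ok : run 23 4 7 253 (2 ^ 253 - 1) (List.range 23) cert23 [] 0 0 = true := by
  decide +kernel

end Cfsg.Agent.Lib.Helper7.SC
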