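import Cfsg.Agent.Lib.Helper7.SteinerCert

set_option autoImplicit false

set_option maxRecDepth 100000

namespace Cfsg.Agent.Lib.Helper7.SC

noncomputable def cert24_0 : List Node := [
  ⟨[0,1,2,3,4],[7,10,12],[.sym [(10,5),(12,6)],.sym [(7,5),(10,6),(12,8)],.sym [(7,5),(10,6),(12,9)],.sym [(7,5),(12,6)],.sym [(7,5),(10,6),(12,11)],.sym [(7,5),(10,6)],.sym [(7,5),(10,6),(12,13)],.sym [(7,5),(10,6),(12,14)],.sym [(7,5),(10,6),(12,15)],.sym [(7,5),(10,6),(12,16)],.sym [(7,5),(10,6),(12,17)],.sym [(7,5),(10,6),(12,18)],.sym [(7,5),(10,6),(12,19)],.sym [(7,5),(10,6),(12,20)],.sym [(7,5),(10,6),(12,21)],.sym [(7,5),(10,6),(12,22)],.sym [(7,5),(10,6),(12,23)],.sym [(10,5),(12,8)],.sym [(10,5),(12,9)],.sym [(12,5)],.sym [(10,5),(12,11)],.sym [(10,5)],.sym [(10,5),(12,13)],.sym [(10,5),(12,14)],.sym [(10,5),(12,15)],.sym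 [(10,5),(12,16)],.sym [(10,5),(12,17)],.sym [(10,5),(12,18)],.sym [(10,5),(12,19)],.sym [(10,5),(12,20)],.sym [(10,5),(12,21)],.sym [(10,5),(12,22)],.sym [(10,5),(12,23)],.sym [(7,5),(10,8),(12,9)],.sym [(7,5),(12,8)],.sym [(7,5),(10,8),(12,11)],.sym [(7,5),(10,8)],.sym [(7,5),(10,8),(12,13)],.sym [(7,5),(10,8),(12,14)],.sym [(7,5),(10,8),(12,15)],.sym [(7,5),(10,8),(12,16)],.sym [(7,5),(10,8),(12,17)],.sym [(7,5),(10,8),(12,18)],.sym [(7,5),(10,8),(12,19)],.sym [(7,5),(10,8),(12,20)],.sym [(7,5),(10,8),(12,21)],.sym [(7,5),(10,8),(12,22)],.sym [(7,5),(10,8),(12,23)],.sym [(7,5),(12,9)],.sym [(7,5),(10,9),(12,11)],.sym [(7,5),(10,9)],.sym [(7,5),(10,9),(12,13)],.sym [(7,5),(10,9),(12,14)],.sym [(7,5),(10,9),(12,15)],.sym [(7,5),(10,9),(12,16)],.sym [(7,5),(10,9),(12,17)],.sym [(7,5),(10,9),(12,18)],.sym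 [(7,5),(10,9),(12,19)],.sym [(7,5),(10,9),(12,20)],.sym [(7,5),(10,9),(12,21)],.sym [(7,5),(10,9),(12,22)],.sym [(7,5),(10,9),(12,23)],.sym [(7,5),(12,11)],.sym [(7,5)],.sym [(7,5),(12,13)],.sym [(7,5),(12,14)],.sym [(7,5),(12,15)],.sym [(7,5),(12,16)],.sym [(7,5),(12,17)],.sym [(7,5),(12,18)],.sym [(7,5),(12,19)],.sym [(7,5),(12,20)],.sym [(7,5),(12,21)],.sym [(7,5),(12,22)],.sym [(7,5),(12,23)],.sym [(7,5),(10,11)],.sym [(7,5),(10,11),(12,13)],.sym [(7,5),(10,11),(12,14)],.sym [(7,5),(10,11),(12,15)],.sym [(7,5),(10,11),(12,16)],.sym [(7,5),(10,11),(12,17)],.sym [(7,5),(10,11),(12,18)],.sym [(7,5),(10,11),(12,19)],.sym [(7,5),(10,11),(12,20)],.sym [(7,5),(10,11),(12,21)],.sym [(7,5),(10,11),(12,22)],.sym [(7,5),(10,11),(12,23)],.sym [(7,5),(10,13)],.sym [(7,5),(10,14)],.sym [(7,5),(10,15)],.sym [(7,5),(10,16)],.sym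 [(7,5),(10,17)],.sym [(7,5),(10,18)],.sym [(7,5),(10,19)],.sym [(7,5),(10,20)],.sym [(7,5),(10,21)],.sym [(7,5),(10,22)],.sym [(7,5),(10,23)],.sym [(7,5),(10,13),(12,14)],.sym [(7,5),(10,13),(12,15)],.sym [(7,5),(10,13),(12,16)],.sym [(7,5),(10,13),(12,17)],.sym [(7,5),(10,13),(12,18)],.sym [(7,5),(10,13),(12,19)],.sym [(7,5),(10,13),(12,20)],.sym [(7,5),(10,13),(12,21)],.sym [(7,5),(10,13),(12,22)],.sym [(7,5),(10,13),(12,23)],.sym [(7,5),(10,14),(12,15)],.sym [(7,5),(10,14),(12,16)],.sym [(7,5),(10,14),(12,17)],.sym [(7,5),(10,14),(12,18)],.sym [(7,5),(10,14),(12,19)],.sym [(7,5),(10,14),(12,20)],.sym [(7,5),(10,14),(12,21)],.sym [(7,5),(10,14),(12,22)],.sym [(7,5),(10,14),(12,23)],.sym [(7,5),(10,15),(12,16)],.sym [(7,5),(10,15),(12,17)],.sym [(7,5),(10,15),(12,18)],.sym [(7,5),(10,15),(12,19)],.sym [(7,5),(10,15),(12,20)],.sym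 [(7,5),(10,15),(12,21)],.sym [(7,5),(10,15),(12,22)],.sym [(7,5),(10,15),(12,23)],.sym [(7,5),(10,16),(12,17)],.sym [(7,5),(10,16),(12,18)],.sym [(7,5),(10,16),(12,19)],.sym [(7,5),(10,16),(12,20)],.sym [(7,5),(10,16),(12,21)],.sym [(7,5),(10,16),(12,22)],.sym [(7,5),(10,16),(12,23)],.sym [(7,5),(10,17),(12,18)],.sym [(7,5),(10,17),(12,19)],.sym [(7,5),(10,17),(12,20)],.sym [(7,5),(10,17),(12,21)],.sym [(7,5),(10,17),(12,22)],.sym [(7,5),(10,17),(12,23)],.sym [(7,5),(10,18),(12,19)],.sym [(7,5),(10,18),(12,20)],.sym [(7,5),(10,18),(12,21)],.sym [(7,5),(10,18),(12,22)],.sym [(7,5),(10,18),(12,23)],.sym [(7,5),(10,19),(12,20)],.sym [(7,5),(10,19),(12,21)],.sym [(7,5),(10,19),(12,22)],.sym [(7,5),(10,19),(12,23)],.sym [(7,5),(10,20),(12,21)],.sym [(7,5),(10,20),(12,22)],.sym [(7,5),(10,20),(12,23)],.sym [(7,5),(10,21),(12,22)],.sym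 [(7,5),(10,21),(12,23)],.sym [(7,5),(10,22),(12,23)],.sym [(10,6),(12,8)],.sym [(10,6),(12,9)],.sym [(12,6)],.sym [(10,6),(12,11)],.sym [(10,6)],.sym [(10,6),(12,13)],.sym [(10,6),(12,14)],.sym [(10,6),(12,15)],.sym [(10,6),(12,16)],.sym [(10,6),(12,17)],.sym [(10,6),(12,18)],.sym [(10,6),(12,19)],.sym [(10,6),(12,20)],.sym [(10,6),(12,21)],.sym [(10,6),(12,22)],.sym [(10,6),(12,23)],.sym [(7,6),(10,8),(12,9)],.sym [(7,6),(12,8)],.sym [(7,6),(10,8),(12,11)],.sym [(7,6),(10,8)],.sym [(7,6),(10,8),(12,13)],.sym [(7,6),(10,8),(12,14)],.sym [(7,6),(10,8),(12,15)],.sym [(7,6),(10,8),(12,16)],.sym [(7,6),(10,8),(12,17)],.sym [(7,6),(10,8),(12,18)],.sym [(7,6),(10,8),(12,19)],.sym [(7,6),(10,8),(12,20)],.sym [(7,6),(10,8),(12,21)],.sym [(7,6),(10,8),(12,22)],.sym [(7,6),(10,8),(12,23)],.sym [(7,6),(12,9)],.sym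 [(7,6),(10,9),(12,11)],.sym [(7,6),(10,9)],.sym [(7,6),(10,9),(12,13)],.sym [(7,6),(10,9),(12,14)],.sym [(7,6),(10,9),(12,15)],.sym [(7,6),(10,9),(12,16)],.sym [(7,6),(10,9),(12,17)],.sym [(7,6),(10,9),(12,18)],.sym [(7,6),(10,9),(12,19)],.sym [(7,6),(10,9),(12,20)],.sym [(7,6),(10,9),(12,21)],.sym [(7,6),(10,9),(12,22)],.sym [(7,6),(10,9),(12,23)],.sym [(7,6),(12,11)],.sym [(7,6)],.sym [(7,6),(12,13)],.sym [(7,6),(12,14)],.sym [(7,6),(12,15)],.sym [(7,6),(12,16)],.sym [(7,6),(12,17)],.sym [(7,6),(12,18)],.sym [(7,6),(12,19)],.sym [(7,6),(12,20)],.sym [(7,6),(12,21)],.sym [(7,6),(12,22)],.sym [(7,6),(12,23)],.sym [(7,6),(10,11)],.sym [(7,6),(10,11),(12,13)],.sym [(7,6),(10,11),(12,14)],.sym [(7,6),(10,11),(12,15)],.sym [(7,6),(10,11),(12,16)],.sym [(7,6),(10,11),(12,17)],.sym [(7,6),(10,11),(12,18)],.sym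 [(7,6),(10,11),(12,19)],.sym [(7,6),(10,11),(12,20)],.sym [(7,6),(10,11),(12,21)],.sym [(7,6),(10,11),(12,22)],.sym [(7,6),(10,11),(12,23)],.sym [(7,6),(10,13)],.sym [(7,6),(10,14)],.sym [(7,6),(10,15)],.sym [(7,6),(10,16)],.sym [(7,6),(10,17)],.sym [(7,6),(10,18)],.sym [(7,6),(10,19)],.sym [(7,6),(10,20)],.sym [(7,6),(10,21)],.sym [(7,6),(10,22)],.sym [(7,6),(10,23)],.sym [(7,6),(10,13),(12,14)],.sym [(7,6),(10,13),(12,15)],.sym [(7,6),(10,13),(12,16)],.sym [(7,6),(10,13),(12,17)],.sym [(7,6),(10,13),(12,18)],.sym [(7,6),(10,13),(12,19)],.sym [(7,6),(10,13),(12,20)],.sym [(7,6),(10,13),(12,21)],.sym [(7,6),(10,13),(12,22)],.sym [(7,6),(10,13),(12,23)],.sym [(7,6),(10,14),(12,15)],.sym [(7,6),(10,14),(12,16)],.sym [(7,6),(10,14),(12,17)],.sym [(7,6),(10,14),(12,18)],.sym [(7,6),(10,14),(12,19)],.sym [(7,6),(10,14),(12,20)],.sym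 [(7,6),(10,14),(12,21)],.sym [(7,6),(10,14),(12,22)],.sym [(7,6),(10,14),(12,23)],.sym [(7,6),(10,15),(12,16)],.sym [(7,6),(10,15),(12,17)],.sym [(7,6),(10,15),(12,18)],.sym [(7,6),(10,15),(12,19)],.sym [(7,6),(10,15),(12,20)],.sym [(7,6),(10,15),(12,21)],.sym [(7,6),(10,15),(12,22)],.sym [(7,6),(10,15),(12,23)],.sym [(7,6),(10,16),(12,17)],.sym [(7,6),(10,16),(12,18)],.sym [(7,6),(10,16),(12,19)],.sym [(7,6),(10,16),(12,20)],.sym [(7,6),(10,16),(12,21)],.sym [(7,6),(10,16),(12,22)],.sym [(7,6),(10,16),(12,23)],.sym [(7,6),(10,17),(12,18)],.sym [(7,6),(10,17),(12,19)],.sym [(7,6),(10,17),(12,20)],.sym [(7,6),(10,17),(12,21)],.sym [(7,6),(10,17),(12,22)],.sym [(7,6),(10,17),(12,23)],.sym [(7,6),(10,18),(12,19)],.sym [(7,6),(10,18),(12,20)],.sym [(7,6),(10,18),(12,21)],.sym [(7,6),(10,18),(12,22)],.sym [(7,6),(10,18),(12,23)],.sym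 [(7,6),(10,19),(12,20)],.sym [(7,6),(10,19),(12,21)],.sym [(7,6),(10,19),(12,22)],.sym [(7,6),(10,19),(12,23)],.sym [(7,6),(10,20),(12,21)],.sym [(7,6),(10,20),(12,22)],.sym [(7,6),(10,20),(12,23)],.sym [(7,6),(10,21),(12,22)],.sym [(7,6),(10,21),(12,23)],.sym [(7,6),(10,22),(12,23)],.sym [(10,8),(12,9)],.sym [(12,8)],.sym [(10,8),(12,11)],.sym [(10,8)],.sym [(10,8),(12,13)],.sym [(10,8),(12,14)],.sym [(10,8),(12,15)],.sym [(10,8),(12,16)],.sym [(10,8),(12,17)],.sym [(10,8),(12,18)],.sym [(10,8),(12,19)],.sym [(10,8),(12,20)],.sym [(10,8),(12,21)],.sym [(10,8),(12,22)],.sym [(10,8),(12,23)],.sym [(12,9)],.sym [(10,9),(12,11)],.sym [(10,9)],.sym [(10,9),(12,13)],.sym [(10,9),(12,14)],.sym [(10,9),(12,15)],.sym [(10,9),(12,16)],.sym [(10,9),(12,17)],.sym [(10,9),(12,18)],.sym [(10,9),(12,19)],.sym [(10,9),(12,20)],.sym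 [(10,9),(12,21)],.sym [(10,9),(12,22)],.sym [(10,9),(12,23)],.sym [(12,11)],.main,.sym [(12,13)],.sym [(12,14)],.sym [(12,15)],.sym [(12,16)],.sym [(12,17)],.sym [(12,18)],.sym [(12,19)],.sym [(12,20)],.sym [(12,21)],.sym [(12,22)],.sym [(12,23)],.sym [(10,11)],.sym [(10,11),(12,13)],.sym [(10,11),(12,14)],.sym [(10,11),(12,15)],.sym [(10,11),(12,16)],.sym [(10,11),(12,17)],.sym [(10,11),(12,18)],.sym [(10,11),(12,19)],.sym [(10,11),(12,20)],.sym [(10,11),(12,21)],.sym [(10,11),(12,22)],.sym [(10,11),(12,23)],.sym [(10,13)],.sym [(10,14)],.sym [(10,15)],.sym [(10,16)],.sym [(10,17)],.sym [(10,18)],.sym [(10,19)],.sym [(10,20)],.sym [(10,21)],.sym [(10,22)],.sym [(10,23)],.sym [(10,13),(12,14)],.sym [(10,13),(12,15)],.sym [(10,13),(12,16)],.sym [(10,13),(12,17)],.sym [(10,13),(12,18)],.sym [(10,13),(12,19)],.sym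 [(10,13),(12,20)],.sym [(10,13),(12,21)],.sym [(10,13),(12,22)],.sym [(10,13),(12,23)],.sym [(10,14),(12,15)],.sym [(10,14),(12,16)],.sym [(10,14),(12,17)],.sym [(10,14),(12,18)],.sym [(10,14),(12,19)],.sym [(10,14),(12,20)],.sym [(10,14),(12,21)],.sym [(10,14),(12,22)],.sym [(10,14),(12,23)],.sym [(10,15),(12,16)],.sym [(10,15),(12,17)],.sym [(10,15),(12,18)],.sym [(10,15),(12,19)],.sym [(10,15),(12,20)],.sym [(10,15),(12,21)],.sym [(10,15),(12,22)],.sym [(10,15),(12,23)],.sym [(10,16),(12,17)],.sym [(10,16),(12,18)],.sym [(10,16),(12,19)],.sym [(10,16),(12,20)],.sym [(10,16),(12,21)],.sym [(10,16),(12,22)],.sym [(10,16),(12,23)],.sym [(10,17),(12,18)],.sym [(10,17),(12,19)],.sym [(10,17),(12,20)],.sym [(10,17),(12,21)],.sym [(10,17),(12,22)],.sym [(10,17),(12,23)],.sym [(10,18),(12,19)],.sym [(10,18),(12,20)],.sym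 [(10,18),(12,21)],.sym [(10,18),(12,22)],.sym [(10,18),(12,23)],.sym [(10,19),(12,20)],.sym [(10,19),(12,21)],.sym [(10,19),(12,22)],.sym [(10,19),(12,23)],.sym [(10,20),(12,21)],.sym [(10,20),(12,22)],.sym [(10,20),(12,23)],.sym [(10,21),(12,22)],.sym [(10,21),(12,23)],.sym [(10,22),(12,23)],.sym [(7,8),(12,9)],.sym [(7,8),(10,9),(12,11)],.sym [(7,8),(10,9)],.sym [(7,8),(10,9),(12,13)],.sym [(7,8),(10,9),(12,14)],.sym [(7,8),(10,9),(12,15)],.sym [(7,8),(10,9),(12,16)],.sym [(7,8),(10,9),(12,17)],.sym [(7,8),(10,9),(12,18)],.sym [(7,8),(10,9),(12,19)],.sym [(7,8),(10,9),(12,20)],.sym [(7,8),(10,9),(12,21)],.sym [(7,8),(10,9),(12,22)],.sym [(7,8),(10,9),(12,23)],.sym [(7,8),(12,11)],.sym [(7,8)],.sym [(7,8),(12,13)],.sym [(7,8),(12,14)],.sym [(7,8),(12,15)],.sym [(7,8),(12,16)],.sym [(7,8),(12,17)],.sym [(7,8),(12,18)],.sym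 [(7,8),(12,19)],.sym [(7,8),(12,20)],.sym [(7,8),(12,21)],.sym [(7,8),(12,22)],.sym [(7,8),(12,23)],.sym [(7,8),(10,11)],.sym [(7,8),(10,11),(12,13)],.sym [(7,8),(10,11),(12,14)],.sym [(7,8),(10,11),(12,15)],.sym [(7,8),(10,11),(12,16)],.sym [(7,8),(10,11),(12,17)],.sym [(7,8),(10,11),(12,18)],.sym [(7,8),(10,11),(12,19)],.sym [(7,8),(10,11),(12,20)],.sym [(7,8),(10,11),(12,21)],.sym [(7,8),(10,11),(12,22)],.sym [(7,8),(10,11),(12,23)],.sym [(7,8),(10,13)],.sym [(7,8),(10,14)],.sym [(7,8),(10,15)],.sym [(7,8),(10,16)],.sym [(7,8),(10,17)],.sym [(7,8),(10,18)],.sym [(7,8),(10,19)],.sym [(7,8),(10,20)],.sym [(7,8),(10,21)],.sym [(7,8),(10,22)],.sym [(7,8),(10,23)],.sym [(7,8),(10,13),(12,14)],.sym [(7,8),(10,13),(12,15)],.sym [(7,8),(10,13),(12,16)],.sym [(7,8),(10,13),(12,17)],.sym [(7,8),(10,13),(12,18)],.sym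 [(7,8),(10,13),(12,19)],.sym [(7,8),(10,13),(12,20)],.sym [(7,8),(10,13),(12,21)],.sym [(7,8),(10,13),(12,22)],.sym [(7,8),(10,13),(12,23)],.sym [(7,8),(10,14),(12,15)],.sym [(7,8),(10,14),(12,16)],.sym [(7,8),(10,14),(12,17)],.sym [(7,8),(10,14),(12,18)],.sym [(7,8),(10,14),(12,19)],.sym [(7,8),(10,14),(12,20)],.sym [(7,8),(10,14),(12,21)],.sym [(7,8),(10,14),(12,22)],.sym [(7,8),(10,14),(12,23)],.sym [(7,8),(10,15),(12,16)],.sym [(7,8),(10,15),(12,17)],.sym [(7,8),(10,15),(12,18)],.sym [(7,8),(10,15),(12,19)],.sym [(7,8),(10,15),(12,20)],.sym [(7,8),(10,15),(12,21)],.sym [(7,8),(10,15),(12,22)],.sym [(7,8),(10,15),(12,23)],.sym [(7,8),(10,16),(12,17)],.sym [(7,8),(10,16),(12,18)],.sym [(7,8),(10,16),(12,19)],.sym [(7,8),(10,16),(12,20)],.sym [(7,8),(10,16),(12,21)],.sym [(7,8),(10,16),(12,22)],.sym [(7,8),(10,16),(12,23)],.sym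 [(7,8),(10,17),(12,18)],.sym [(7,8),(10,17),(12,19)],.sym [(7,8),(10,17),(12,20)],.sym [(7,8),(10,17),(12,21)],.sym [(7,8),(10,17),(12,22)],.sym [(7,8),(10,17),(12,23)],.sym [(7,8),(10,18),(12,19)],.sym [(7,8),(10,18),(12,20)],.sym [(7,8),(10,18),(12,21)],.sym [(7,8),(10,18),(12,22)],.sym [(7,8),(10,18),(12,23)],.sym [(7,8),(10,19),(12,20)],.sym [(7,8),(10,19),(12,21)],.sym [(7,8),(10,19),(12,22)],.sym [(7,8),(10,19),(12,23)],.sym [(7,8),(10,20),(12,21)],.sym [(7,8),(10,20),(12,22)],.sym [(7,8),(10,20),(12,23)],.sym [(7,8),(10,21),(12,22)],.sym [(7,8),(10,21),(12,23)],.sym [(7,8),(10,22),(12,23)],.sym [(7,9),(12,11)],.sym [(7,9)],.sym [(7,9),(12,13)],.sym [(7,9),(12,14)],.sym [(7,9),(12,15)],.sym [(7,9),(12,16)],.sym [(7,9),(12,17)],.sym [(7,9),(12,18)],.sym [(7,9),(12,19)],.sym [(7,9),(12,20)],.sym [(7,9),(12,21)],.sym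 [(7,9),(12,22)],.sym [(7,9),(12,23)],.sym [(7,9),(10,11)],.sym [(7,9),(10,11),(12,13)],.sym [(7,9),(10,11),(12,14)],.sym [(7,9),(10,11),(12,15)],.sym [(7,9),(10,11),(12,16)],.sym [(7,9),(10,11),(12,17)],.sym [(7,9),(10,11),(12,18)],.sym [(7,9),(10,11),(12,19)],.sym [(7,9),(10,11),(12,20)],.sym [(7,9),(10,11),(12,21)],.sym [(7,9),(10,11),(12,22)],.sym [(7,9),(10,11),(12,23)],.sym [(7,9),(10,13)],.sym [(7,9),(10,14)],.sym [(7,9),(10,15)],.sym [(7,9),(10,16)],.sym [(7,9),(10,17)],.sym [(7,9),(10,18)],.sym [(7,9),(10,19)],.sym [(7,9),(10,20)],.sym [(7,9),(10,21)],.sym [(7,9),(10,22)],.sym [(7,9),(10,23)],.sym [(7,9),(10,13),(12,14)],.sym [(7,9),(10,13),(12,15)],.sym [(7,9),(10,13),(12,16)],.sym [(7,9),(10,13),(12,17)],.sym [(7,9),(10,13),(12,18)],.sym [(7,9),(10,13),(12,19)],.sym [(7,9),(10,13),(12,20)],.sym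 [(7,9),(10,13),(12,21)],.sym [(7,9),(10,13),(12,22)],.sym [(7,9),(10,13),(12,23)],.sym [(7,9),(10,14),(12,15)],.sym [(7,9),(10,14),(12,16)],.sym [(7,9),(10,14),(12,17)],.sym [(7,9),(10,14),(12,18)],.sym [(7,9),(10,14),(12,19)],.sym [(7,9),(10,14),(12,20)],.sym [(7,9),(10,14),(12,21)],.sym [(7,9),(10,14),(12,22)],.sym [(7,9),(10,14),(12,23)],.sym [(7,9),(10,15),(12,16)],.sym [(7,9),(10,15),(12,17)],.sym [(7,9),(10,15),(12,18)],.sym [(7,9),(10,15),(12,19)],.sym [(7,9),(10,15),(12,20)],.sym [(7,9),(10,15),(12,21)],.sym [(7,9),(10,15),(12,22)],.sym [(7,9),(10,15),(12,23)],.sym [(7,9),(10,16),(12,17)],.sym [(7,9),(10,16),(12,18)],.sym [(7,9),(10,16),(12,19)],.sym [(7,9),(10,16),(12,20)],.sym [(7,9),(10,16),(12,21)],.sym [(7,9),(10,16),(12,22)],.sym [(7,9),(10,16),(12,23)],.sym [(7,9),(10,17),(12,18)],.sym [(7,9),(10,17),(12,19)],.sym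 [(7,9),(10,17),(12,20)],.sym [(7,9),(10,17),(12,21)],.sym [(7,9),(10,17),(12,22)],.sym [(7,9),(10,17),(12,23)],.sym [(7,9),(10,18),(12,19)],.sym [(7,9),(10,18),(12,20)],.sym [(7,9),(10,18),(12,21)],.sym [(7,9),(10,18),(12,22)],.sym [(7,9),(10,18),(12,23)],.sym [(7,9),(10,19),(12,20)],.sym [(7,9),(10,19),(12,21)],.sym [(7,9),(10,19),(12,22)],.sym [(7,9),(10,19),(12,23)],.sym [(7,9),(10,20),(12,21)],.sym [(7,9),(10,20),(12,22)],.sym [(7,9),(10,20),(12,23)],.sym [(7,9),(10,21),(12,22)],.sym [(7,9),(10,21),(12,23)],.sym [(7,9),(10,22),(12,23)],.sym [(7,11)],.sym [(7,11),(12,13)],.sym [(7,11),(12,14)],.sym [(7,11),(12,15)],.sym [(7,11),(12,16)],.sym [(7,11),(12,17)],.sym [(7,11),(12,18)],.sym [(7,11),(12,19)],.sym [(7,11),(12,20)],.sym [(7,11),(12,21)],.sym [(7,11),(12,22)],.sym [(7,11),(12,23)],.sym [(7,13)],.sym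 [(7,14)],.sym [(7,15)],.sym [(7,16)],.sym [(7,17)],.sym [(7,18)],.sym [(7,19)],.sym [(7,20)],.sym [(7,21)],.sym [(7,22)],.sym [(7,23)],.sym [(7,13),(12,14)],.sym [(7,13),(12,15)],.sym [(7,13),(12,16)],.sym [(7,13),(12,17)],.sym [(7,13),(12,18)],.sym [(7,13),(12,19)],.sym [(7,13),(12,20)],.sym [(7,13),(12,21)],.sym [(7,13),(12,22)],.sym [(7,13),(12,23)],.sym [(7,14),(12,15)],.sym [(7,14),(12,16)],.sym [(7,14),(12,17)],.sym [(7,14),(12,18)],.sym [(7,14),(12,19)],.sym [(7,14),(12,20)],.sym [(7,14),(12,21)],.sym [(7,14),(12,22)],.sym [(7,14),(12,23)],.sym [(7,15),(12,16)],.sym [(7,15),(12,17)],.sym [(7,15),(12,18)],.sym [(7,15),(12,19)],.sym [(7,15),(12,20)],.sym [(7,15),(12,21)],.sym [(7,15),(12,22)],.sym [(7,15),(12,23)],.sym [(7,16),(12,17)],.sym [(7,16),(12,18)],.sym [(7,16),(12,19)],.sym [(7,16),(12,20)],.sym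 [(7,16),(12,21)],.sym [(7,16),(12,22)],.sym [(7,16),(12,23)],.sym [(7,17),(12,18)],.sym [(7,17),(12,19)],.sym [(7,17),(12,20)],.sym [(7,17),(12,21)],.sym [(7,17),(12,22)],.sym [(7,17),(12,23)],.sym [(7,18),(12,19)],.sym [(7,18),(12,20)],.sym [(7,18),(12,21)],.sym [(7,18),(12,22)],.sym [(7,18),(12,23)],.sym [(7,19),(12,20)],.sym [(7,19),(12,21)],.sym [(7,19),(12,22)],.sym [(7,19),(12,23)],.sym [(7,20),(12,21)],.sym [(7,20),(12,22)],.sym [(7,20),(12,23)],.sym [(7,21),(12,22)],.sym [(7,21),(12,23)],.sym [(7,22),(12,23)],.sym [(7,11),(10,13)],.sym [(7,11),(10,14)],.sym [(7,11),(10,15)],.sym [(7,11),(10,16)],.sym [(7,11),(10,17)],.sym [(7,11),(10,18)],.sym [(7,11),(10,19)],.sym [(7,11),(10,20)],.sym [(7,11),(10,21)],.sym [(7,11),(10,22)],.sym [(7,11),(10,23)],.sym [(7,11),(10,13),(12,14)],.sym [(7,11),(10,13),(12,15)],.sym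 [(7,11),(10,13),(12,16)],.sym [(7,11),(10,13),(12,17)],.sym [(7,11),(10,13),(12,18)],.sym [(7,11),(10,13),(12,19)],.sym [(7,11),(10,13),(12,20)],.sym [(7,11),(10,13),(12,21)],.sym [(7,11),(10,13),(12,22)],.sym [(7,11),(10,13),(12,23)],.sym [(7,11),(10,14),(12,15)],.sym [(7,11),(10,14),(12,16)],.sym [(7,11),(10,14),(12,17)],.sym [(7,11),(10,14),(12,18)],.sym [(7,11),(10,14),(12,19)],.sym [(7,11),(10,14),(12,20)],.sym [(7,11),(10,14),(12,21)],.sym [(7,11),(10,14),(12,22)],.sym [(7,11),(10,14),(12,23)],.sym [(7,11),(10,15),(12,16)],.sym [(7,11),(10,15),(12,17)],.sym [(7,11),(10,15),(12,18)],.sym [(7,11),(10,15),(12,19)],.sym [(7,11),(10,15),(12,20)],.sym [(7,11),(10,15),(12,21)],.sym [(7,11),(10,15),(12,22)],.sym [(7,11),(10,15),(12,23)],.sym [(7,11),(10,16),(12,17)],.sym [(7,11),(10,16),(12,18)],.sym [(7,11),(10,16),(12,19)],.sym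 [(7,11),(10,16),(12,20)],.sym [(7,11),(10,16),(12,21)],.sym [(7,11),(10,16),(12,22)],.sym [(7,11),(10,16),(12,23)],.sym [(7,11),(10,17),(12,18)],.sym [(7,11),(10,17),(12,19)],.sym [(7,11),(10,17),(12,20)],.sym [(7,11),(10,17),(12,21)],.sym [(7,11),(10,17),(12,22)],.sym [(7,11),(10,17),(12,23)],.sym [(7,11),(10,18),(12,19)],.sym [(7,11),(10,18),(12,20)],.sym [(7,11),(10,18),(12,21)],.sym [(7,11),(10,18),(12,22)],.sym [(7,11),(10,18),(12,23)],.sym [(7,11),(10,19),(12,20)],.sym [(7,11),(10,19),(12,21)],.sym [(7,11),(10,19),(12,22)],.sym [(7,11),(10,19),(12,23)],.sym [(7,11),(10,20),(12,21)],.sym [(7,11),(10,20),(12,22)],.sym [(7,11),(10,20),(12,23)],.sym [(7,11),(10,21),(12,22)],.sym [(7,11),(10,21),(12,23)],.sym [(7,11),(10,22),(12,23)],.sym [(7,13),(10,14)],.sym [(7,13),(10,15)],.sym [(7,13),(10,16)],.sym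 [(7,13),(10,17)],.sym [(7,13),(10,18)],.sym [(7,13),(10,19)],.sym [(7,13),(10,20)],.sym [(7,13),(10,21)],.sym [(7,13),(10,22)],.sym [(7,13),(10,23)],.sym [(7,14),(10,15)],.sym [(7,14),(10,16)],.sym [(7,14),(10,17)],.sym [(7,14),(10,18)],.sym [(7,14),(10,19)],.sym [(7,14),(10,20)],.sym [(7,14),(10,21)],.sym [(7,14),(10,22)],.sym [(7,14),(10,23)],.sym [(7,15),(10,16)],.sym [(7,15),(10,17)],.sym [(7,15),(10,18)],.sym [(7,15),(10,19)],.sym [(7,15),(10,20)],.sym [(7,15),(10,21)],.sym [(7,15),(10,22)],.sym [(7,15),(10,23)],.sym [(7,16),(10,17)],.sym [(7,16),(10,18)],.sym [(7,16),(10,19)],.sym [(7,16),(10,20)],.sym [(7,16),(10,21)],.sym [(7,16),(10,22)],.sym [(7,16),(10,23)],.sym [(7,17),(10,18)],.sym [(7,17),(10,19)],.sym [(7,17),(10,20)],.sym [(7,17),(10,21)],.sym [(7,17),(10,22)],.sym [(7,17),(10,23)],.sym [(7,18),(10,19)],.sym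 [(7,18),(10,20)],.sym [(7,18),(10,21)],.sym [(7,18),(10,22)],.sym [(7,18),(10,23)],.sym [(7,19),(10,20)],.sym [(7,19),(10,21)],.sym [(7,19),(10,22)],.sym [(7,19),(10,23)],.sym [(7,20),(10,21)],.sym [(7,20),(10,22)],.sym [(7,20),(10,23)],.sym [(7,21),(10,22)],.sym [(7,21),(10,23)],.sym [(7,22),(10,23)],.sym [(7,13),(10,14),(12,15)],.sym [(7,13),(10,14),(12,16)],.sym [(7,13),(10,14),(12,17)],.sym [(7,13),(10,14),(12,18)],.sym [(7,13),(10,14),(12,19)],.sym [(7,13),(10,14),(12,20)],.sym [(7,13),(10,14),(12,21)],.sym [(7,13),(10,14),(12,22)],.sym [(7,13),(10,14),(12,23)],.sym [(7,13),(10,15),(12,16)],.sym [(7,13),(10,15),(12,17)],.sym [(7,13),(10,15),(12,18)],.sym [(7,13),(10,15),(12,19)],.sym [(7,13),(10,15),(12,20)],.sym [(7,13),(10,15),(12,21)],.sym [(7,13),(10,15),(12,22)],.sym [(7,13),(10,15),(12,23)],.sym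 [(7,13),(10,16),(12,17)],.sym [(7,13),(10,16),(12,18)],.sym [(7,13),(10,16),(12,19)],.sym [(7,13),(10,16),(12,20)],.sym [(7,13),(10,16),(12,21)],.sym [(7,13),(10,16),(12,22)],.sym [(7,13),(10,16),(12,23)],.sym [(7,13),(10,17),(12,18)],.sym [(7,13),(10,17),(12,19)],.sym [(7,13),(10,17),(12,20)],.sym [(7,13),(10,17),(12,21)],.sym [(7,13),(10,17),(12,22)],.sym [(7,13),(10,17),(12,23)],.sym [(7,13),(10,18),(12,19)],.sym [(7,13),(10,18),(12,20)],.sym [(7,13),(10,18),(12,21)],.sym [(7,13),(10,18),(12,22)],.sym [(7,13),(10,18),(12,23)],.sym [(7,13),(10,19),(12,20)],.sym [(7,13),(10,19),(12,21)],.sym [(7,13),(10,19),(12,22)],.sym [(7,13),(10,19),(12,23)],.sym [(7,13),(10,20),(12,21)],.sym [(7,13),(10,20),(12,22)],.sym [(7,13),(10,20),(12,23)],.sym [(7,13),(10,21),(12,22)],.sym [(7,13),(10,21),(12,23)],.sym [(7,13),(10,22),(12,23)],.sym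 [(7,14),(10,15),(12,16)],.sym [(7,14),(10,15),(12,17)],.sym [(7,14),(10,15),(12,18)],.sym [(7,14),(10,15),(12,19)],.sym [(7,14),(10,15),(12,20)],.sym [(7,14),(10,15),(12,21)],.sym [(7,14),(10,15),(12,22)],.sym [(7,14),(10,15),(12,23)],.sym [(7,14),(10,16),(12,17)],.sym [(7,14),(10,16),(12,18)],.sym [(7,14),(10,16),(12,19)],.sym [(7,14),(10,16),(12,20)],.sym [(7,14),(10,16),(12,21)],.sym [(7,14),(10,16),(12,22)],.sym [(7,14),(10,16),(12,23)],.sym [(7,14),(10,17),(12,18)],.sym [(7,14),(10,17),(12,19)],.sym [(7,14),(10,17),(12,20)],.sym [(7,14),(10,17),(12,21)],.sym [(7,14),(10,17),(12,22)],.sym [(7,14),(10,17),(12,23)],.sym [(7,14),(10,18),(12,19)],.sym [(7,14),(10,18),(12,20)],.sym [(7,14),(10,18),(12,21)],.sym [(7,14),(10,18),(12,22)],.sym [(7,14),(10,18),(12,23)],.sym [(7,14),(10,19),(12,20)],.sym [(7,14),(10,19),(12,21)],.sym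 [(7,14),(10,19),(12,22)],.sym [(7,14),(10,19),(12,23)],.sym [(7,14),(10,20),(12,21)],.sym [(7,14),(10,20),(12,22)],.sym [(7,14),(10,20),(12,23)],.sym [(7,14),(10,21),(12,22)],.sym [(7,14),(10,21),(12,23)],.sym [(7,14),(10,22),(12,23)],.sym [(7,15),(10,16),(12,17)],.sym [(7,15),(10,16),(12,18)],.sym [(7,15),(10,16),(12,19)],.sym [(7,15),(10,16),(12,20)],.sym [(7,15),(10,16),(12,21)],.sym [(7,15),(10,16),(12,22)],.sym [(7,15),(10,16),(12,23)],.sym [(7,15),(10,17),(12,18)],.sym [(7,15),(10,17),(12,19)],.sym [(7,15),(10,17),(12,20)],.sym [(7,15),(10,17),(12,21)],.sym [(7,15),(10,17),(12,22)],.sym [(7,15),(10,17),(12,23)],.sym [(7,15),(10,18),(12,19)],.sym [(7,15),(10,18),(12,20)],.sym [(7,15),(10,18),(12,21)],.sym [(7,15),(10,18),(12,22)],.sym [(7,15),(10,18),(12,23)],.sym [(7,15),(10,19),(12,20)],.sym [(7,15),(10,19),(12,21)],.sym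 [(7,15),(10,19),(12,22)],.sym [(7,15),(10,19),(12,23)],.sym [(7,15),(10,20),(12,21)],.sym [(7,15),(10,20),(12,22)],.sym [(7,15),(10,20),(12,23)],.sym [(7,15),(10,21),(12,22)],.sym [(7,15),(10,21),(12,23)],.sym [(7,15),(10,22),(12,23)],.sym [(7,16),(10,17),(12,18)],.sym [(7,16),(10,17),(12,19)],.sym [(7,16),(10,17),(12,20)],.sym [(7,16),(10,17),(12,21)],.sym [(7,16),(10,17),(12,22)],.sym [(7,16),(10,17),(12,23)],.sym [(7,16),(10,18),(12,19)],.sym [(7,16),(10,18),(12,20)],.sym [(7,16),(10,18),(12,21)],.sym [(7,16),(10,18),(12,22)],.sym [(7,16),(10,18),(12,23)],.sym [(7,16),(10,19),(12,20)],.sym [(7,16),(10,19),(12,21)],.sym [(7,16),(10,19),(12,22)],.sym [(7,16),(10,19),(12,23)],.sym [(7,16),(10,20),(12,21)],.sym [(7,16),(10,20),(12,22)],.sym [(7,16),(10,20),(12,23)],.sym [(7,16),(10,21),(12,22)],.sym [(7,16),(10,21),(12,23)],.sym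 [(7,16),(10,22),(12,23)],.sym [(7,17),(10,18),(12,19)],.sym [(7,17),(10,18),(12,20)],.sym [(7,17),(10,18),(12,21)],.sym [(7,17),(10,18),(12,22)],.sym [(7,17),(10,18),(12,23)],.sym [(7,17),(10,19),(12,20)],.sym [(7,17),(10,19),(12,21)],.sym [(7,17),(10,19),(12,22)],.sym [(7,17),(10,19),(12,23)],.sym [(7,17),(10,20),(12,21)],.sym [(7,17),(10,20),(12,22)],.sym [(7,17),(10,20),(12,23)],.sym [(7,17),(10,21),(12,22)],.sym [(7,17),(10,21),(12,23)],.sym [(7,17),(10,22),(12,23)],.sym [(7,18),(10,19),(12,20)],.sym [(7,18),(10,19),(12,21)],.sym [(7,18),(10,19),(12,22)],.sym [(7,18),(10,19),(12,23)],.sym [(7,18),(10,20),(12,21)],.sym [(7,18),(10,20),(12,22)],.sym [(7,18),(10,20),(12,23)],.sym [(7,18),(10,21),(12,22)],.sym [(7,18),(10,21),(12,23)],.sym [(7,18),(10,22),(12,23)],.sym [(7,19),(10,20),(12,21)],.sym [(7,19),(10,20),(12,22)],.sym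 [(7,19),(10,20),(12,23)],.sym [(7,19),(10,21),(12,22)],.sym [(7,19),(10,21),(12,23)],.sym [(7,19),(10,22),(12,23)],.sym [(7,20),(10,21),(12,22)],.sym [(7,20),(10,21),(12,23)],.sym [(7,20),(10,22),(12,23)],.sym [(7,21),(10,22),(12,23)]]⟩,
  ⟨[0,1,2,3,5],[14,17,23],[.sym [(14,6),(17,8),(23,9)],.sym [(14,6),(17,8),(23,11)],.sym [(14,6),(17,8),(23,13)],.sym [(17,6),(23,8)],.sym [(14,6),(17,8),(23,15)],.sym [(14,6),(17,8),(23,16)],.sym [(14,6),(23,8)],.sym [(14,6),(17,8),(23,18)],.sym [(14,6),(17,8),(23,19)],.sym [(14,6),(17,8),(23,20)],.sym [(14,6),(17,8),(23,21)],.sym [(14,6),(17,8),(23,22)],.sym [(14,6),(17,8)],.sym [(14,6),(17,9),(23,11)],.sym [(14,6),(17,9),(23,13)],.sym [(17,6),(23,9)],.sym [(14,6),(17,9),(23,15)],.sym [(14,6),(17,9),(23,16)],.sym [(14,6),(23,9)],.sym [(14,6),(17,9),(23,18)],.sym [(14,6),(17,9),(23,19)],.sym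 [(14,6),(17,9),(23,20)],.sym [(14,6),(17,9),(23,21)],.sym [(14,6),(17,9),(23,22)],.sym [(14,6),(17,9)],.sym [(14,6),(17,11),(23,13)],.sym [(17,6),(23,11)],.sym [(14,6),(17,11),(23,15)],.sym [(14,6),(17,11),(23,16)],.sym [(14,6),(23,11)],.sym [(14,6),(17,11),(23,18)],.sym [(14,6),(17,11),(23,19)],.sym [(14,6),(17,11),(23,20)],.sym [(14,6),(17,11),(23,21)],.sym [(14,6),(17,11),(23,22)],.sym [(14,6),(17,11)],.sym [(17,6),(23,13)],.sym [(14,6),(17,13),(23,15)],.sym [(14,6),(17,13),(23,16)],.sym [(14,6),(23,13)],.sym [(14,6),(17,13),(23,18)],.sym [(14,6),(17,13),(23,19)],.sym [(14,6),(17,13),(23,20)],.sym [(14,6),(17,13),(23,21)],.sym [(14,6),(17,13),(23,22)],.sym [(14,6),(17,13)],.sym [(17,6),(23,15)],.sym [(17,6),(23,16)],.sym [(23,6)],.sym [(17,6),(23,18)],.sym [(17,6),(23,19)],.sym [(17,6),(23,20)],.sym [(17,6),(23,21)],.sym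 [(17,6),(23,22)],.sym [(17,6)],.sym [(14,6),(17,15),(23,16)],.sym [(14,6),(23,15)],.sym [(14,6),(17,15),(23,18)],.sym [(14,6),(17,15),(23,19)],.sym [(14,6),(17,15),(23,20)],.sym [(14,6),(17,15),(23,21)],.sym [(14,6),(17,15),(23,22)],.sym [(14,6),(17,15)],.sym [(14,6),(23,16)],.sym [(14,6),(17,16),(23,18)],.sym [(14,6),(17,16),(23,19)],.sym [(14,6),(17,16),(23,20)],.sym [(14,6),(17,16),(23,21)],.sym [(14,6),(17,16),(23,22)],.sym [(14,6),(17,16)],.sym [(14,6),(23,18)],.sym [(14,6),(23,19)],.sym [(14,6),(23,20)],.sym [(14,6),(23,21)],.sym [(14,6),(23,22)],.sym [(14,6)],.sym [(14,6),(17,18),(23,19)],.sym [(14,6),(17,18),(23,20)],.sym [(14,6),(17,18),(23,21)],.sym [(14,6),(17,18),(23,22)],.sym [(14,6),(17,18)],.sym [(14,6),(17,19),(23,20)],.sym [(14,6),(17,19),(23,21)],.sym [(14,6),(17,19),(23,22)],.sym [(14,6),(17,19)],.sym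 [(14,6),(17,20),(23,21)],.sym [(14,6),(17,20),(23,22)],.sym [(14,6),(17,20)],.sym [(14,6),(17,21),(23,22)],.sym [(14,6),(17,21)],.sym [(14,6),(17,22)],.sym [(14,8),(17,9),(23,11)],.sym [(14,8),(17,9),(23,13)],.sym [(17,8),(23,9)],.sym [(14,8),(17,9),(23,15)],.sym [(14,8),(17,9),(23,16)],.sym [(14,8),(23,9)],.sym [(14,8),(17,9),(23,18)],.sym [(14,8),(17,9),(23,19)],.sym [(14,8),(17,9),(23,20)],.sym [(14,8),(17,9),(23,21)],.sym [(14,8),(17,9),(23,22)],.sym [(14,8),(17,9)],.sym [(14,8),(17,11),(23,13)],.sym [(17,8),(23,11)],.sym [(14,8),(17,11),(23,15)],.sym [(14,8),(17,11),(23,16)],.sym [(14,8),(23,11)],.sym [(14,8),(17,11),(23,18)],.sym [(14,8),(17,11),(23,19)],.sym [(14,8),(17,11),(23,20)],.sym [(14,8),(17,11),(23,21)],.sym [(14,8),(17,11),(23,22)],.sym [(14,8),(17,11)],.sym [(17,8),(23,13)],.sym [(14,8),(17,13),(23,15)],.sym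 [(14,8),(17,13),(23,16)],.sym [(14,8),(23,13)],.sym [(14,8),(17,13),(23,18)],.sym [(14,8),(17,13),(23,19)],.sym [(14,8),(17,13),(23,20)],.sym [(14,8),(17,13),(23,21)],.sym [(14,8),(17,13),(23,22)],.sym [(14,8),(17,13)],.sym [(17,8),(23,15)],.sym [(17,8),(23,16)],.sym [(23,8)],.sym [(17,8),(23,18)],.sym [(17,8),(23,19)],.sym [(17,8),(23,20)],.sym [(17,8),(23,21)],.sym [(17,8),(23,22)],.sym [(17,8)],.sym [(14,8),(17,15),(23,16)],.sym [(14,8),(23,15)],.sym [(14,8),(17,15),(23,18)],.sym [(14,8),(17,15),(23,19)],.sym [(14,8),(17,15),(23,20)],.sym [(14,8),(17,15),(23,21)],.sym [(14,8),(17,15),(23,22)],.sym [(14,8),(17,15)],.sym [(14,8),(23,16)],.sym [(14,8),(17,16),(23,18)],.sym [(14,8),(17,16),(23,19)],.sym [(14,8),(17,16),(23,20)],.sym [(14,8),(17,16),(23,21)],.sym [(14,8),(17,16),(23,22)],.sym [(14,8),(17,16)],.sym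 [(14,8),(23,18)],.sym [(14,8),(23,19)],.sym [(14,8),(23,20)],.sym [(14,8),(23,21)],.sym [(14,8),(23,22)],.sym [(14,8)],.sym [(14,8),(17,18),(23,19)],.sym [(14,8),(17,18),(23,20)],.sym [(14,8),(17,18),(23,21)],.sym [(14,8),(17,18),(23,22)],.sym [(14,8),(17,18)],.sym [(14,8),(17,19),(23,20)],.sym [(14,8),(17,19),(23,21)],.sym [(14,8),(17,19),(23,22)],.sym [(14,8),(17,19)],.sym [(14,8),(17,20),(23,21)],.sym [(14,8),(17,20),(23,22)],.sym [(14,8),(17,20)],.sym [(14,8),(17,21),(23,22)],.sym [(14,8),(17,21)],.sym [(14,8),(17,22)],.sym [(14,9),(17,11),(23,13)],.sym [(17,9),(23,11)],.sym [(14,9),(17,11),(23,15)],.sym [(14,9),(17,11),(23,16)],.sym [(14,9),(23,11)],.sym [(14,9),(17,11),(23,18)],.sym [(14,9),(17,11),(23,19)],.sym [(14,9),(17,11),(23,20)],.sym [(14,9),(17,11),(23,21)],.sym [(14,9),(17,11),(23,22)],.sym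 [(14,9),(17,11)],.sym [(17,9),(23,13)],.sym [(14,9),(17,13),(23,15)],.sym [(14,9),(17,13),(23,16)],.sym [(14,9),(23,13)],.sym [(14,9),(17,13),(23,18)],.sym [(14,9),(17,13),(23,19)],.sym [(14,9),(17,13),(23,20)],.sym [(14,9),(17,13),(23,21)],.sym [(14,9),(17,13),(23,22)],.sym [(14,9),(17,13)],.sym [(17,9),(23,15)],.sym [(17,9),(23,16)],.sym [(23,9)],.sym [(17,9),(23,18)],.sym [(17,9),(23,19)],.sym [(17,9),(23,20)],.sym [(17,9),(23,21)],.sym [(17,9),(23,22)],.sym [(17,9)],.sym [(14,9),(17,15),(23,16)],.sym [(14,9),(23,15)],.sym [(14,9),(17,15),(23,18)],.sym [(14,9),(17,15),(23,19)],.sym [(14,9),(17,15),(23,20)],.sym [(14,9),(17,15),(23,21)],.sym [(14,9),(17,15),(23,22)],.sym [(14,9),(17,15)],.sym [(14,9),(23,16)],.sym [(14,9),(17,16),(23,18)],.sym [(14,9),(17,16),(23,19)],.sym [(14,9),(17,16),(23,20)],.sym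 [(14,9),(17,16),(23,21)],.sym [(14,9),(17,16),(23,22)],.sym [(14,9),(17,16)],.sym [(14,9),(23,18)],.sym [(14,9),(23,19)],.sym [(14,9),(23,20)],.sym [(14,9),(23,21)],.sym [(14,9),(23,22)],.sym [(14,9)],.sym [(14,9),(17,18),(23,19)],.sym [(14,9),(17,18),(23,20)],.sym [(14,9),(17,18),(23,21)],.sym [(14,9),(17,18),(23,22)],.sym [(14,9),(17,18)],.sym [(14,9),(17,19),(23,20)],.sym [(14,9),(17,19),(23,21)],.sym [(14,9),(17,19),(23,22)],.sym [(14,9),(17,19)],.sym [(14,9),(17,20),(23,21)],.sym [(14,9),(17,20),(23,22)],.sym [(14,9),(17,20)],.sym [(14,9),(17,21),(23,22)],.sym [(14,9),(17,21)],.sym [(14,9),(17,22)],.sym [(17,11),(23,13)],.sym [(14,11),(17,13),(23,15)],.sym [(14,11),(17,13),(23,16)],.sym [(14,11),(23,13)],.sym [(14,11),(17,13),(23,18)],.sym [(14,11),(17,13),(23,19)],.sym [(14,11),(17,13),(23,20)],.sym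 [(14,11),(17,13),(23,21)],.sym [(14,11),(17,13),(23,22)],.sym [(14,11),(17,13)],.sym [(17,11),(23,15)],.sym [(17,11),(23,16)],.sym [(23,11)],.sym [(17,11),(23,18)],.sym [(17,11),(23,19)],.sym [(17,11),(23,20)],.sym [(17,11),(23,21)],.sym [(17,11),(23,22)],.sym [(17,11)],.sym [(14,11),(17,15),(23,16)],.sym [(14,11),(23,15)],.sym [(14,11),(17,15),(23,18)],.sym [(14,11),(17,15),(23,19)],.sym [(14,11),(17,15),(23,20)],.sym [(14,11),(17,15),(23,21)],.sym [(14,11),(17,15),(23,22)],.sym [(14,11),(17,15)],.sym [(14,11),(23,16)],.sym [(14,11),(17,16),(23,18)],.sym [(14,11),(17,16),(23,19)],.sym [(14,11),(17,16),(23,20)],.sym [(14,11),(17,16),(23,21)],.sym [(14,11),(17,16),(23,22)],.sym [(14,11),(17,16)],.sym [(14,11),(23,18)],.sym [(14,11),(23,19)],.sym [(14,11),(23,20)],.sym [(14,11),(23,21)],.sym [(14,11),(23,22)],.sym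 [(14,11)],.sym [(14,11),(17,18),(23,19)],.sym [(14,11),(17,18),(23,20)],.sym [(14,11),(17,18),(23,21)],.sym [(14,11),(17,18),(23,22)],.sym [(14,11),(17,18)],.sym [(14,11),(17,19),(23,20)],.sym [(14,11),(17,19),(23,21)],.sym [(14,11),(17,19),(23,22)],.sym [(14,11),(17,19)],.sym [(14,11),(17,20),(23,21)],.sym [(14,11),(17,20),(23,22)],.sym [(14,11),(17,20)],.sym [(14,11),(17,21),(23,22)],.sym [(14,11),(17,21)],.sym [(14,11),(17,22)],.sym [(17,13),(23,15)],.sym [(17,13),(23,16)],.sym [(23,13)],.sym [(17,13),(23,18)],.sym [(17,13),(23,19)],.sym [(17,13),(23,20)],.sym [(17,13),(23,21)],.sym [(17,13),(23,22)],.sym [(17,13)],.sym [(14,13),(17,15),(23,16)],.sym [(14,13),(23,15)],.sym [(14,13),(17,15),(23,18)],.sym [(14,13),(17,15),(23,19)],.sym [(14,13),(17,15),(23,20)],.sym [(14,13),(17,15),(23,21)],.sym [(14,13),(17,15),(23,22)],.sym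 [(14,13),(17,15)],.sym [(14,13),(23,16)],.sym [(14,13),(17,16),(23,18)],.sym [(14,13),(17,16),(23,19)],.sym [(14,13),(17,16),(23,20)],.sym [(14,13),(17,16),(23,21)],.sym [(14,13),(17,16),(23,22)],.sym [(14,13),(17,16)],.sym [(14,13),(23,18)],.sym [(14,13),(23,19)],.sym [(14,13),(23,20)],.sym [(14,13),(23,21)],.sym [(14,13),(23,22)],.sym [(14,13)],.sym [(14,13),(17,18),(23,19)],.sym [(14,13),(17,18),(23,20)],.sym [(14,13),(17,18),(23,21)],.sym [(14,13),(17,18),(23,22)],.sym [(14,13),(17,18)],.sym [(14,13),(17,19),(23,20)],.sym [(14,13),(17,19),(23,21)],.sym [(14,13),(17,19),(23,22)],.sym [(14,13),(17,19)],.sym [(14,13),(17,20),(23,21)],.sym [(14,13),(17,20),(23,22)],.sym [(14,13),(17,20)],.sym [(14,13),(17,21),(23,22)],.sym [(14,13),(17,21)],.sym [(14,13),(17,22)],.sym [(17,15),(23,16)],.sym [(23,15)],.sym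 [(17,15),(23,18)],.sym [(17,15),(23,19)],.sym [(17,15),(23,20)],.sym [(17,15),(23,21)],.sym [(17,15),(23,22)],.sym [(17,15)],.sym [(23,16)],.sym [(17,16),(23,18)],.sym [(17,16),(23,19)],.sym [(17,16),(23,20)],.sym [(17,16),(23,21)],.sym [(17,16),(23,22)],.sym [(17,16)],.sym [(23,18)],.sym [(23,19)],.sym [(23,20)],.sym [(23,21)],.sym [(23,22)],.main,.sym [(17,18),(23,19)],.sym [(17,18),(23,20)],.sym [(17,18),(23,21)],.sym [(17,18),(23,22)],.sym [(17,18)],.sym [(17,19),(23,20)],.sym [(17,19),(23,21)],.sym [(17,19),(23,22)],.sym [(17,19)],.sym [(17,20),(23,21)],.sym [(17,20),(23,22)],.sym [(17,20)],.sym [(17,21),(23,22)],.sym [(17,21)],.sym [(17,22)],.sym [(14,15),(23,16)],.sym [(14,15),(17,16),(23,18)],.sym [(14,15),(17,16),(23,19)],.sym [(14,15),(17,16),(23,20)],.sym [(14,15),(17,16),(23,21)],.sym [(14,15),(17,16),(23,22)],.sym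 [(14,15),(17,16)],.sym [(14,15),(23,18)],.sym [(14,15),(23,19)],.sym [(14,15),(23,20)],.sym [(14,15),(23,21)],.sym [(14,15),(23,22)],.sym [(14,15)],.sym [(14,15),(17,18),(23,19)],.sym [(14,15),(17,18),(23,20)],.sym [(14,15),(17,18),(23,21)],.sym [(14,15),(17,18),(23,22)],.sym [(14,15),(17,18)],.sym [(14,15),(17,19),(23,20)],.sym [(14,15),(17,19),(23,21)],.sym [(14,15),(17,19),(23,22)],.sym [(14,15),(17,19)],.sym [(14,15),(17,20),(23,21)],.sym [(14,15),(17,20),(23,22)],.sym [(14,15),(17,20)],.sym [(14,15),(17,21),(23,22)],.sym [(14,15),(17,21)],.sym [(14,15),(17,22)],.sym [(14,16),(23,18)],.sym [(14,16),(23,19)],.sym [(14,16),(23,20)],.sym [(14,16),(23,21)],.sym [(14,16),(23,22)],.sym [(14,16)],.sym [(14,16),(17,18),(23,19)],.sym [(14,16),(17,18),(23,20)],.sym [(14,16),(17,18),(23,21)],.sym [(14,16),(17,18),(23,22)],.sym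 [(14,16),(17,18)],.sym [(14,16),(17,19),(23,20)],.sym [(14,16),(17,19),(23,21)],.sym [(14,16),(17,19),(23,22)],.sym [(14,16),(17,19)],.sym [(14,16),(17,20),(23,21)],.sym [(14,16),(17,20),(23,22)],.sym [(14,16),(17,20)],.sym [(14,16),(17,21),(23,22)],.sym [(14,16),(17,21)],.sym [(14,16),(17,22)],.sym [(14,18),(23,19)],.sym [(14,18),(23,20)],.sym [(14,18),(23,21)],.sym [(14,18),(23,22)],.sym [(14,18)],.sym [(14,19),(23,20)],.sym [(14,19),(23,21)],.sym [(14,19),(23,22)],.sym [(14,19)],.sym [(14,20),(23,21)],.sym [(14,20),(23,22)],.sym [(14,20)],.sym [(14,21),(23,22)],.sym [(14,21)],.sym [(14,22)],.sym [(14,18),(17,19),(23,20)],.sym [(14,18),(17,19),(23,21)],.sym [(14,18),(17,19),(23,22)],.sym [(14,18),(17,19)],.sym [(14,18),(17,20),(23,21)],.sym [(14,18),(17,20),(23,22)],.sym [(14,18),(17,20)],.sym [(14,18),(17,21),(23,22)],.sym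 [(14,18),(17,21)],.sym [(14,18),(17,22)],.sym [(14,19),(17,20),(23,21)],.sym [(14,19),(17,20),(23,22)],.sym [(14,19),(17,20)],.sym [(14,19),(17,21),(23,22)],.sym [(14,19),(17,21)],.sym [(14,19),(17,22)],.sym [(14,20),(17,21),(23,22)],.sym [(14,20),(17,21)],.sym [(14,20),(17,22)],.sym [(14,21),(17,22)]]⟩,
  ⟨[0,1,2,3,6],[9,11,22],[.sym [(22,8)],.sym [(11,8),(22,13)],.sym [(11,8),(22,15)],.sym [(11,8),(22,16)],.sym [(11,8),(22,18)],.sym [(11,8),(22,19)],.sym [(11,8),(22,20)],.sym [(11,8),(22,21)],.sym [(11,8)],.sym [(9,8),(22,13)],.sym [(9,8),(22,15)],.sym [(9,8),(22,16)],.sym [(9,8),(22,18)],.sym [(9,8),(22,19)],.sym [(9,8),(22,20)],.sym [(9,8),(22,21)],.sym [(9,8)],.sym [(9,8),(11,13),(22,15)],.sym [(9,8),(11,13),(22,16)],.sym [(9,8),(11,13),(22,18)],.sym [(9,8),(11,13),(22,19)],.sym [(9,8),(11,13),(22,20)],.sym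 [(9,8),(11,13),(22,21)],.sym [(9,8),(11,13)],.sym [(9,8),(11,15),(22,16)],.sym [(9,8),(11,15),(22,18)],.sym [(9,8),(11,15),(22,19)],.sym [(9,8),(11,15),(22,20)],.sym [(9,8),(11,15),(22,21)],.sym [(9,8),(11,15)],.sym [(9,8),(11,16),(22,18)],.sym [(9,8),(11,16),(22,19)],.sym [(9,8),(11,16),(22,20)],.sym [(9,8),(11,16),(22,21)],.sym [(9,8),(11,16)],.sym [(9,8),(11,18),(22,19)],.sym [(9,8),(11,18),(22,20)],.sym [(9,8),(11,18),(22,21)],.sym [(9,8),(11,18)],.sym [(9,8),(11,19),(22,20)],.sym [(9,8),(11,19),(22,21)],.sym [(9,8),(11,19)],.sym [(9,8),(11,20),(22,21)],.sym [(9,8),(11,20)],.sym [(9,8),(11,21)],.sym [(22,13)],.sym [(22,15)],.sym [(22,16)],.sym [(22,18)],.sym [(22,19)],.sym [(22,20)],.sym [(22,21)],.main,.sym [(11,13),(22,15)],.sym [(11,13),(22,16)],.sym [(11,13),(22,18)],.sym [(11,13),(22,19)],.sym [(11,13),(22,20)],.sym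 [(11,13),(22,21)],.sym [(11,13)],.sym [(11,15),(22,16)],.sym [(11,15),(22,18)],.sym [(11,15),(22,19)],.sym [(11,15),(22,20)],.sym [(11,15),(22,21)],.sym [(11,15)],.sym [(11,16),(22,18)],.sym [(11,16),(22,19)],.sym [(11,16),(22,20)],.sym [(11,16),(22,21)],.sym [(11,16)],.sym [(11,18),(22,19)],.sym [(11,18),(22,20)],.sym [(11,18),(22,21)],.sym [(11,18)],.sym [(11,19),(22,20)],.sym [(11,19),(22,21)],.sym [(11,19)],.sym [(11,20),(22,21)],.sym [(11,20)],.sym [(11,21)],.sym [(9,13),(22,15)],.sym [(9,13),(22,16)],.sym [(9,13),(22,18)],.sym [(9,13),(22,19)],.sym [(9,13),(22,20)],.sym [(9,13),(22,21)],.sym [(9,13)],.sym [(9,15),(22,16)],.sym [(9,15),(22,18)],.sym [(9,15),(22,19)],.sym [(9,15),(22,20)],.sym [(9,15),(22,21)],.sym [(9,15)],.sym [(9,16),(22,18)],.sym [(9,16),(22,19)],.sym [(9,16),(22,20)],.sym [(9,16),(22,21)],.sym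 [(9,16)],.sym [(9,18),(22,19)],.sym [(9,18),(22,20)],.sym [(9,18),(22,21)],.sym [(9,18)],.sym [(9,19),(22,20)],.sym [(9,19),(22,21)],.sym [(9,19)],.sym [(9,20),(22,21)],.sym [(9,20)],.sym [(9,21)],.sym [(9,13),(11,15),(22,16)],.sym [(9,13),(11,15),(22,18)],.sym [(9,13),(11,15),(22,19)],.sym [(9,13),(11,15),(22,20)],.sym [(9,13),(11,15),(22,21)],.sym [(9,13),(11,15)],.sym [(9,13),(11,16),(22,18)],.sym [(9,13),(11,16),(22,19)],.sym [(9,13),(11,16),(22,20)],.sym [(9,13),(11,16),(22,21)],.sym [(9,13),(11,16)],.sym [(9,13),(11,18),(22,19)],.sym [(9,13),(11,18),(22,20)],.sym [(9,13),(11,18),(22,21)],.sym [(9,13),(11,18)],.sym [(9,13),(11,19),(22,20)],.sym [(9,13),(11,19),(22,21)],.sym [(9,13),(11,19)],.sym [(9,13),(11,20),(22,21)],.sym [(9,13),(11,20)],.sym [(9,13),(11,21)],.sym [(9,15),(11,16),(22,18)],.sym [(9,15),(11,16),(22,19)],.sym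 [(9,15),(11,16),(22,20)],.sym [(9,15),(11,16),(22,21)],.sym [(9,15),(11,16)],.sym [(9,15),(11,18),(22,19)],.sym [(9,15),(11,18),(22,20)],.sym [(9,15),(11,18),(22,21)],.sym [(9,15),(11,18)],.sym [(9,15),(11,19),(22,20)],.sym [(9,15),(11,19),(22,21)],.sym [(9,15),(11,19)],.sym [(9,15),(11,20),(22,21)],.sym [(9,15),(11,20)],.sym [(9,15),(11,21)],.sym [(9,16),(11,18),(22,19)],.sym [(9,16),(11,18),(22,20)],.sym [(9,16),(11,18),(22,21)],.sym [(9,16),(11,18)],.sym [(9,16),(11,19),(22,20)],.sym [(9,16),(11,19),(22,21)],.sym [(9,16),(11,19)],.sym [(9,16),(11,20),(22,21)],.sym [(9,16),(11,20)],.sym [(9,16),(11,21)],.sym [(9,18),(11,19),(22,20)],.sym [(9,18),(11,19),(22,21)],.sym [(9,18),(11,19)],.sym [(9,18),(11,20),(22,21)],.sym [(9,18),(11,20)],.sym [(9,18),(11,21)],.sym [(9,19),(11,20),(22,21)],.sym [(9,19),(11,20)],.sym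 [(9,19),(11,21)],.sym [(9,20),(11,21)]]⟩,
  ⟨[0,1,2,3,8],[15,16,19],[.sym [(19,13)],.sym [(16,13),(19,18)],.sym [(16,13)],.sym [(16,13),(19,20)],.sym [(16,13),(19,21)],.sym [(15,13),(19,18)],.sym [(15,13)],.sym [(15,13),(19,20)],.sym [(15,13),(19,21)],.sym [(15,13),(16,18)],.sym [(15,13),(16,18),(19,20)],.sym [(15,13),(16,18),(19,21)],.sym [(15,13),(16,20)],.sym [(15,13),(16,21)],.sym [(15,13),(16,20),(19,21)],.sym [(19,18)],.main,.sym [(19,20)],.sym [(19,21)],.sym [(16,18)],.sym [(16,18),(19,20)],.sym [(16,18),(19,21)],.sym [(16,20)],.sym [(16,21)],.sym [(16,20),(19,21)],.sym [(15,18)],.sym [(15,18),(19,20)],.sym [(15,18),(19,21)],.sym [(15,20)],.sym [(15,21)],.sym [(15,20),(19,21)],.sym [(15,18),(16,20)],.sym [(15,18),(16,21)],.sym [(15,18),(16,20),(19,21)],.sym [(15,20),(16,21)]]⟩,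
  ⟨[0,1,2,3,13],[18,20,21],[.main]⟩,
  ⟨[0,1,2,4,5],[9,18,19],[.dead [0,1,2,6,9],.dead [0,1,2,6,11],.sym [(6,9),(8,18),(13,15),(13,20),(16,21),(19,13),(19,16)],.dead [0,1,2,8,15],.dead [0,1,2,8,16],.sym [(9,6),(19,8)],.dead [0,1,2,8,19],.sym [(6,9),(8,13),(8,15),(8,18),(16,21),(19,20),(19,16)],.sym [(6,9),(8,13),(8,15),(8,18),(16,20),(19,21)],.dead [0,1,2,6,22],.dead [0,1,2,6,9],.dead [0,1,2,6,9],.dead [0,1,2,6,9],.dead [0,1,2,6,9],.dead [0,1,2,6,9],.dead [0,1,2,6,9],.dead [0,1,2,6,9],.dead [0,1,2,6,9],.dead [0,1,2,6,9],.dead [0,1,2,6,11],.dead [0,1,2,6,11],.dead [0,1,2,6,11],.dead [0,1,2,6,11],.dead [0,1,2,6,11],.dead [0,1,2,6,11],.dead [0,1,2,6,11],.dead [0,1,2,6,11],.sym [(9,6),(18,13),(19,15)],.sym [(9,6),(18,13),(19,16)],.dead [0,1,2,13,18],.sym [(9,6),(18,13)],.dead [0,1,2,13,20],.dead [0,1,2,13,21],.dead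 [0,1,2,6,22],.dead [0,1,2,15,16],.sym [(9,6),(19,15)],.dead [0,1,2,15,19],.sym [(6,9),(8,13),(15,18),(16,21),(19,20),(19,16)],.sym [(6,9),(8,13),(15,18),(16,20),(19,21)],.dead [0,1,2,6,22],.sym [(9,6),(19,16)],.dead [0,1,2,16,19],.sym [(6,9),(8,13),(15,18),(16,21),(15,16),(19,20),(19,15)],.sym [(6,9),(8,13),(15,18),(16,20),(15,16),(19,21)],.dead [0,1,2,6,22],.sym [(9,6)],.dead [0,1,2,18,20],.dead [0,1,2,18,21],.dead [0,1,2,6,22],.sym [(9,6),(18,20)],.sym [(9,6),(18,21)],.dead [0,1,2,6,22],.dead [0,1,2,20,21],.dead [0,1,2,6,22],.dead [0,1,2,6,22],.dead [0,1,2,9,11],.sym [(6,15),(8,18),(9,8),(11,16),(13,6),(13,20),(11,21),(19,13),(19,11),(19,22)],.dead [0,1,2,8,15],.dead [0,1,2,8,16],.sym [(19,8)],.dead [0,1,2,8,19],.sym [(6,15),(8,13),(9,8),(11,16),(9,6),(9,18),(11,21),(19,20),(19,11),(19,22)],.sym [(6,15),(8,13),(9,8),(11,16),(9,6),(9,18),(11,20),(19,21),(19,22)],.dead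 [0,1,2,9,22],.sym [(6,15),(8,18),(9,8),(11,16),(13,6),(13,20),(11,21),(9,11),(19,13),(19,9),(19,22)],.dead [0,1,2,8,15],.dead [0,1,2,8,16],.sym [(6,15),(8,13),(9,8),(11,16),(9,6),(9,20),(11,21),(18,11),(19,18),(19,22)],.dead [0,1,2,8,19],.sym [(6,15),(8,13),(9,8),(11,16),(9,6),(9,18),(11,21),(9,11),(19,20),(19,9),(19,22)],.sym [(6,15),(8,13),(9,8),(11,16),(9,6),(9,18),(11,20),(9,11),(19,21),(19,22)],.dead [0,1,2,11,22],.dead [0,1,2,8,15],.dead [0,1,2,8,16],.dead [0,1,2,13,18],.dead [0,1,2,8,19],.dead [0,1,2,13,20],.dead [0,1,2,13,21],.sym [(6,15),(8,6),(9,8),(11,16),(13,18),(19,22)],.dead [0,1,2,8,15],.dead [0,1,2,8,15],.dead [0,1,2,8,15],.dead [0,1,2,8,15],.dead [0,1,2,8,15],.dead [0,1,2,8,15],.dead [0,1,2,8,16],.dead [0,1,2,8,16],.dead [0,1,2,8,16],.dead [0,1,2,8,16],.dead [0,1,2,8,16],.dead [0,1,2,8,19],.dead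 [0,1,2,18,20],.dead [0,1,2,18,21],.sym [(6,15),(8,6),(9,8),(11,16),(19,22)],.dead [0,1,2,8,19],.dead [0,1,2,8,19],.dead [0,1,2,8,19],.dead [0,1,2,20,21],.sym [(6,15),(8,6),(9,8),(11,16),(18,20),(19,22)],.sym [(6,15),(8,6),(9,8),(11,16),(18,21),(19,22),(20,18)],.dead [0,1,2,9,11],.dead [0,1,2,9,11],.dead [0,1,2,9,11],.dead [0,1,2,9,11],.dead [0,1,2,9,11],.dead [0,1,2,9,11],.dead [0,1,2,9,11],.dead [0,1,2,9,11],.sym [(18,13),(19,15)],.sym [(18,13),(19,16)],.dead [0,1,2,13,18],.sym [(18,13)],.dead [0,1,2,13,20],.dead [0,1,2,13,21],.dead [0,1,2,9,22],.dead [0,1,2,15,16],.sym [(19,15)],.dead [0,1,2,15,19],.sym [(8,13),(15,18),(16,21),(19,20),(19,16)],.sym [(8,13),(15,18),(16,20),(19,21)],.dead [0,1,2,9,22],.sym [(19,16)],.dead [0,1,2,16,19],.sym [(8,13),(15,18),(16,21),(15,16),(19,20),(19,15)],.sym [(8,13),(15,18),(16,20),(15,16),(19,21)],.dead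 [0,1,2,9,22],.main,.dead [0,1,2,18,20],.dead [0,1,2,18,21],.dead [0,1,2,9,22],.sym [(18,20)],.sym [(18,21)],.dead [0,1,2,9,22],.dead [0,1,2,20,21],.dead [0,1,2,9,22],.dead [0,1,2,9,22],.sym [(9,11),(18,13),(19,15)],.sym [(9,11),(18,13),(19,16)],.dead [0,1,2,13,18],.sym [(9,11),(18,13)],.dead [0,1,2,13,20],.dead [0,1,2,13,21],.dead [0,1,2,11,22],.dead [0,1,2,15,16],.sym [(9,11),(19,15)],.dead [0,1,2,15,19],.sym [(8,13),(9,11),(15,18),(16,21),(19,20),(19,16)],.sym [(8,13),(9,11),(15,18),(16,20),(19,21)],.dead [0,1,2,11,22],.sym [(9,11),(19,16)],.dead [0,1,2,16,19],.sym [(8,13),(9,11),(15,18),(16,21),(15,16),(19,20),(19,15)],.sym [(8,13),(9,11),(15,18),(16,20),(15,16),(19,21)],.dead [0,1,2,11,22],.sym [(9,11)],.dead [0,1,2,18,20],.dead [0,1,2,18,21],.dead [0,1,2,11,22],.sym [(9,11),(18,20)],.sym [(9,11),(18,21)],.dead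 [0,1,2,11,22],.dead [0,1,2,20,21],.dead [0,1,2,11,22],.dead [0,1,2,11,22],.dead [0,1,2,15,16],.dead [0,1,2,13,18],.dead [0,1,2,15,19],.dead [0,1,2,13,20],.dead [0,1,2,13,21],.sym [(6,18),(8,6),(9,13),(11,20),(9,8),(15,9),(16,11),(19,22),(21,19)],.dead [0,1,2,13,18],.dead [0,1,2,16,19],.dead [0,1,2,13,20],.dead [0,1,2,13,21],.sym [(6,18),(8,6),(9,13),(11,20),(9,8),(15,9),(16,11),(15,16),(19,22),(21,19)],.dead [0,1,2,13,18],.dead [0,1,2,13,18],.dead [0,1,2,13,18],.dead [0,1,2,13,18],.dead [0,1,2,13,20],.dead [0,1,2,13,21],.sym [(6,18),(8,6),(9,13),(11,20),(9,8),(15,9),(16,11),(15,19),(15,22),(16,15),(21,16)],.dead [0,1,2,13,20],.dead [0,1,2,13,20],.dead [0,1,2,13,21],.dead [0,1,2,15,16],.dead [0,1,2,15,16],.dead [0,1,2,15,16],.dead [0,1,2,15,16],.dead [0,1,2,15,16],.dead [0,1,2,15,19],.dead [0,1,2,18,20],.dead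 [0,1,2,18,21],.sym [(6,8),(9,15),(11,16),(19,22)],.dead [0,1,2,15,19],.dead [0,1,2,15,19],.dead [0,1,2,15,19],.dead [0,1,2,20,21],.sym [(6,8),(9,15),(11,16),(18,20),(19,22)],.sym [(6,8),(9,15),(11,16),(18,21),(19,22),(20,18)],.dead [0,1,2,16,19],.dead [0,1,2,18,20],.dead [0,1,2,18,21],.sym [(6,8),(9,16),(11,15),(11,9),(19,22)],.dead [0,1,2,16,19],.dead [0,1,2,16,19],.dead [0,1,2,16,19],.dead [0,1,2,20,21],.sym [(6,8),(9,16),(11,15),(11,9),(18,20),(19,22)],.sym [(6,8),(9,16),(11,15),(11,9),(18,21),(19,22),(20,18)],.dead [0,1,2,18,20],.dead [0,1,2,18,21],.sym [(9,22)],.dead [0,1,2,18,20],.dead [0,1,2,18,20],.dead [0,1,2,18,21],.dead [0,1,2,20,21],.sym [(6,8),(9,19),(11,15),(11,9),(16,11),(18,20),(16,22)],.sym [(6,8),(9,19),(11,15),(11,9),(16,11),(18,21),(16,22),(20,18)],.dead [0,1,2,20,21]]⟩,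
  ⟨[0,1,2,4,6],[8,14,20],[.sym [(20,13)],.dead [0,1,2,8,15],.dead [0,1,2,8,16],.sym [(13,20),(14,17)],.dead [0,1,2,13,20],.dead [0,1,2,13,21],.sym [(13,20),(14,23),(17,14)],.dead [0,1,2,8,15],.dead [0,1,2,8,16],.dead [0,1,2,14,17],.main,.sym [(20,21)],.dead [0,1,2,14,23],.dead [0,1,2,8,15],.dead [0,1,2,8,15],.dead [0,1,2,8,15],.dead [0,1,2,8,15],.dead [0,1,2,8,15],.dead [0,1,2,8,16],.dead [0,1,2,8,16],.dead [0,1,2,8,16],.dead [0,1,2,8,16],.sym [(14,17)],.sym [(14,17),(20,21)],.dead [0,1,2,17,23],.dead [0,1,2,20,21],.sym [(14,23)],.sym [(14,23),(17,14),(20,21)],.sym [(8,13),(15,20),(16,21),(18,19)],.sym [(8,13),(15,20),(16,21),(18,19),(15,16)],.dead [0,1,2,14,17],.dead [0,1,2,13,20],.dead [0,1,2,13,21],.dead [0,1,2,14,23],.dead [0,1,2,15,16],.sym [(8,13),(14,17),(15,20),(16,21),(18,19)],.dead [0,1,2,13,20],.dead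 [0,1,2,13,21],.sym [(8,13),(14,23),(15,20),(16,21),(17,14),(18,19)],.sym [(8,13),(14,17),(15,20),(16,21),(18,19),(15,16)],.dead [0,1,2,13,20],.dead [0,1,2,13,21],.sym [(8,13),(14,23),(15,20),(16,21),(17,14),(18,19),(15,16)],.dead [0,1,2,13,20],.dead [0,1,2,13,21],.dead [0,1,2,17,23],.dead [0,1,2,13,20],.dead [0,1,2,13,20],.dead [0,1,2,13,21],.dead [0,1,2,15,16],.dead [0,1,2,14,17],.sym [(8,15)],.sym [(8,15),(20,21)],.dead [0,1,2,14,23],.dead [0,1,2,14,17],.sym [(8,16)],.sym [(8,16),(20,21)],.dead [0,1,2,14,23],.dead [0,1,2,14,17],.dead [0,1,2,14,17],.dead [0,1,2,14,17],.dead [0,1,2,20,21],.dead [0,1,2,14,23],.dead [0,1,2,14,23],.dead [0,1,2,15,16],.dead [0,1,2,15,16],.dead [0,1,2,15,16],.dead [0,1,2,15,16],.sym [(8,15),(14,17)],.sym [(8,15),(14,17),(20,21)],.dead [0,1,2,17,23],.dead [0,1,2,20,21],.sym [(8,15),(14,23)],.sym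 [(8,15),(14,23),(17,14),(20,21)],.sym [(8,16),(14,17)],.sym [(8,16),(14,17),(20,21)],.dead [0,1,2,17,23],.dead [0,1,2,20,21],.sym [(8,16),(14,23)],.sym [(8,16),(14,23),(15,8),(17,14),(20,21)],.dead [0,1,2,20,21],.dead [0,1,2,17,23],.dead [0,1,2,17,23],.dead [0,1,2,20,21]]⟩,
  ⟨[0,1,2,4,11],[15,17,21],[.dead [0,1,2,15,16],.sym [(21,13)],.dead [0,1,2,13,21],.sym [(13,21),(17,23)],.sym [(13,21),(15,16)],.dead [0,1,2,13,21],.sym [(13,21),(15,16),(17,23)],.dead [0,1,2,13,21],.dead [0,1,2,17,23],.dead [0,1,2,13,21],.dead [0,1,2,15,16],.dead [0,1,2,15,16],.dead [0,1,2,15,16],.main,.dead [0,1,2,17,23],.sym [(17,23)],.sym [(15,16)],.dead [0,1,2,17,23],.sym [(15,16),(17,23)],.dead [0,1,2,17,23]]⟩,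
  ⟨[0,1,2,4,13],[16,22,23],[.main]⟩,
  ⟨[0,1,2,5,6],[12,13,15],[.dead [0,1,2,7,10],.dead [0,1,2,7,10],.dead [0,1,2,7,10],.dead [0,1,2,7,10],.dead [0,1,2,7,10],.dead [0,1,2,7,12],.dead [0,1,2,7,12],.dead [0,1,2,7,12],.dead [0,1,2,7,12],.sym [(12,7)],.dead [0,1,2,13,16],.dead [0,1,2,13,21],.dead [0,1,2,15,16],.dead [0,1,2,15,21],.sym [(7,10),(7,12),(11,22),(13,21),(15,16),(17,23)],.dead [0,1,2,10,12],.dead [0,1,2,10,12],.dead [0,1,2,10,12],.dead [0,1,2,10,12],.sym [(12,10)],.dead [0,1,2,13,16],.dead [0,1,2,13,21],.dead [0,1,2,15,16],.dead [0,1,2,15,21],.sym [(10,12),(11,22),(13,21),(15,16),(17,23)],.main,.dead [0,1,2,13,16],.dead [0,1,2,13,21],.dead [0,1,2,15,16],.dead [0,1,2,15,21],.sym [(11,22),(13,21),(15,16),(17,23)],.dead [0,1,2,13,16],.dead [0,1,2,13,21],.dead [0,1,2,13,16],.dead [0,1,2,15,16]]⟩,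
  ⟨[0,1,2,5,7],[11,16,20],[.dead [0,1,2,8,16],.dead [0,1,2,8,20],.dead [0,1,2,11,21],.dead [0,1,2,11,22],.dead [0,1,2,8,16],.dead [0,1,2,8,16],.dead [0,1,2,8,16],.dead [0,1,2,8,20],.dead [0,1,2,8,20],.sym [(8,20),(11,22),(13,15),(16,21),(17,23),(18,19)],.main,.dead [0,1,2,11,21],.dead [0,1,2,11,22],.dead [0,1,2,11,21],.dead [0,1,2,11,22],.dead [0,1,2,11,21],.dead [0,1,2,20,21],.dead [0,1,2,16,22],.dead [0,1,2,16,22],.dead [0,1,2,20,21]]⟩,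
  ⟨[0,1,2,5,8],[10,21,22],[.main]⟩,
  ⟨[0,1,2,6,7],[19,21,23],[.dead [0,1,2,18,19],.dead [0,1,2,17,21],.dead [0,1,2,17,23],.dead [0,1,2,17,21],.dead [0,1,2,17,23],.dead [0,1,2,17,21],.dead [0,1,2,18,19],.dead [0,1,2,18,19],.dead [0,1,2,18,21],.main]⟩,
  ⟨[0,1,2,6,10],[16,17,18],[.main]⟩,
  ⟨[0,1,2,7,8],[9,13,17],[.main,.dead [0,1,2,9,18],.dead [0,1,2,9,18],.dead [0,1,2,13,18]]⟩,
  ⟨[0,1,2,7,14],[15,18,22],[.main]⟩,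
  ⟨[0,1,2,8,11],[12,18,23],[.main]⟩,
  ⟨[0,1,2,9,10],[15,20,23],[.dead [0,1,2,14,15],.dead [0,1,2,14,15],.dead [0,1,2,14,20],.main]⟩,
  ⟨[0,1,2,9,12],[14,16,21],[.main]⟩,
  ⟨[0,1,2,10,11],[13,14,19],[.main]⟩,
  ⟨[0,1,2,12,17],[19,20,22],[.main]⟩,
  ⟨[0,1,3,4,5],[6,16,21],[.dead [0,1,3,6,11],.dead [0,1,4,6,8],.dead [0,1,3,8,15],.dead [0,1,3,8,16],.dead [0,1,4,6,8],.dead [0,1,4,6,8],.dead [0,1,3,6,22],.dead [0,1,3,6,11],.dead [0,1,3,6,11],.dead [0,1,3,6,11],.dead [0,1,3,6,11],.dead [0,1,3,6,11],.dead [0,1,3,6,11],.dead [0,1,5,6,13],.dead [0,1,4,13,16],.dead [0,1,3,13,20],.dead [0,1,3,13,21],.dead [0,1,3,6,22],.dead [0,1,3,15,16],.dead [0,1,4,6,20],.dead [0,1,4,15,21],.dead [0,1,3,6,22],.dead [0,1,4,6,20],.main,.dead [0,1,3,6,22],.dead [0,1,3,20,21],.dead [0,1,3,6,22],.dead [0,1,3,6,22],.sym [(6,13),(8,22),(9,18),(11,20),(6,15),(14,23),(16,11),(17,14),(9,19),(21,8)],.dead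 [0,1,3,8,15],.dead [0,1,3,8,16],.dead [0,1,4,8,20],.dead [0,1,4,11,21],.dead [0,1,3,11,22],.dead [0,1,3,8,15],.dead [0,1,3,8,16],.dead [0,1,3,13,20],.dead [0,1,3,13,21],.dead [0,1,4,13,22],.dead [0,1,3,8,15],.dead [0,1,3,8,15],.dead [0,1,3,8,15],.dead [0,1,3,8,15],.dead [0,1,3,8,16],.dead [0,1,3,8,16],.dead [0,1,3,8,16],.dead [0,1,3,20,21],.dead [0,1,4,8,20],.dead [0,1,5,8,21],.dead [0,1,4,11,15],.dead [0,1,4,13,16],.dead [0,1,3,13,20],.dead [0,1,3,13,21],.dead [0,1,3,11,22],.dead [0,1,3,15,16],.dead [0,1,4,11,15],.dead [0,1,4,11,15],.dead [0,1,3,11,22],.dead [0,1,5,11,16],.dead [0,1,4,11,21],.dead [0,1,3,11,22],.dead [0,1,3,20,21],.dead [0,1,3,11,22],.dead [0,1,3,11,22],.dead [0,1,3,15,16],.dead [0,1,3,13,20],.dead [0,1,3,13,21],.dead [0,1,4,13,22],.dead [0,1,3,13,20],.dead [0,1,3,13,21],.dead [0,1,4,13,16],.dead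 [0,1,3,13,20],.dead [0,1,3,13,20],.dead [0,1,3,13,21],.dead [0,1,3,15,16],.dead [0,1,3,15,16],.dead [0,1,3,15,16],.dead [0,1,3,20,21],.sym [(6,15),(8,21),(9,19),(11,16),(13,6),(14,17),(11,20),(14,23),(18,9),(8,22)],.dead [0,1,4,15,21],.dead [0,1,3,20,21],.dead [0,1,4,16,22],.dead [0,1,4,16,22],.dead [0,1,3,20,21]]⟩,
  ⟨[0,1,3,4,8],[17,18,22],[.dead [0,1,3,9,11],.dead [0,1,3,9,11],.dead [0,1,3,9,11],.dead [0,1,3,9,11],.dead [0,1,3,9,11],.dead [0,1,8,9,13],.dead [0,1,3,13,18],.dead [0,1,3,9,22],.dead [0,1,4,13,23],.dead [0,1,4,9,18],.dead [0,1,3,9,22],.dead [0,1,3,17,23],.dead [0,1,3,9,22],.dead [0,1,4,9,18],.dead [0,1,3,9,22],.dead [0,1,4,11,17],.dead [0,1,3,13,18],.dead [0,1,3,11,22],.dead [0,1,4,13,23],.dead [0,1,4,11,17],.dead [0,1,3,11,22],.dead [0,1,3,17,23],.dead [0,1,3,11,22],.dead [0,1,8,11,18],.dead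 [0,1,3,11,22],.dead [0,1,3,13,18],.dead [0,1,4,13,22],.dead [0,1,3,17,23],.dead [0,1,3,13,18],.dead [0,1,3,13,18],.dead [0,1,4,13,22],.main,.dead [0,1,3,17,23],.dead [0,1,3,17,23],.dead [0,1,4,22,23]]⟩,
  ⟨[0,1,3,4,9],[13,14,15],[.main,.dead [0,1,3,13,20],.dead [0,1,3,14,23],.dead [0,1,3,13,20],.dead [0,1,4,13,23],.dead [0,1,3,13,20],.dead [0,1,4,14,20],.dead [0,1,3,14,23],.dead [0,1,3,14,23],.dead [0,1,9,15,20]]⟩,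
  ⟨[0,1,3,4,11],[19,20,23],[.main]⟩,
  ⟨[0,1,3,5,7],[13,19,22],[.dead [0,1,3,9,13],.dead [0,1,3,8,15],.dead [0,1,3,8,18],.dead [0,1,3,8,19],.dead [0,1,3,8,22],.dead [0,1,3,8,15],.dead [0,1,3,8,18],.dead [0,1,3,8,19],.dead [0,1,3,8,22],.dead [0,1,3,8,15],.dead [0,1,3,8,15],.dead [0,1,3,8,15],.dead [0,1,3,8,18],.dead [0,1,3,8,18],.dead [0,1,3,8,19],.dead [0,1,3,9,13],.dead [0,1,3,9,13],.dead [0,1,3,9,13],.dead [0,1,3,9,13],.dead [0,1,3,9,15],.dead [0,1,3,9,15],.dead [0,1,3,9,15],.dead [0,1,5,9,18],.dead [0,1,3,9,22],.dead [0,1,3,9,22],.dead [0,1,3,13,15],.dead [0,1,3,13,15],.dead [0,1,3,13,15],.dead [0,1,3,13,18],.dead [0,1,3,13,18],.main,.dead [0,1,3,15,19],.dead [0,1,3,18,22],.dead [0,1,3,15,19],.dead [0,1,3,18,22]]⟩,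
  ⟨[0,1,3,5,8],[9,12,20],[.dead [0,1,3,9,11],.dead [0,1,3,9,11],.main,.dead [0,1,3,11,20]]⟩,
  ⟨[0,1,3,5,10],[11,15,18],[.main]⟩,
  ⟨[0,1,3,6,7],[15,17,20],[.dead [0,1,3,8,15],.dead [0,1,3,8,17],.dead [0,1,3,8,18],.dead [0,1,3,8,20],.dead [0,1,3,8,15],.dead [0,1,3,8,15],.dead [0,1,3,8,15],.dead [0,1,3,8,17],.dead [0,1,3,8,17],.dead [0,1,3,8,18],.dead [0,1,3,14,15],.dead [0,1,3,14,15],.dead [0,1,3,14,15],.dead [0,1,3,14,17],.dead [0,1,3,14,17],.dead [0,1,3,18,20],.dead [0,1,3,15,18],.main,.dead [0,1,3,15,18],.dead [0,1,3,17,18]]⟩,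
  ⟨[0,1,3,6,8],[10,13,23],[.main]⟩,
  ⟨[0,1,3,6,12],[14,18,19],[.main]⟩,
  ⟨[0,1,3,7,8],[11,14,21],[.main]⟩,
  ⟨[0,1,3,7,9],[16,18,23],[.main]⟩,
  ⟨[0,1,3,9,10],[17,19,21],[.main]⟩,
  ⟨[0,1,3,10,14],[16,20,22],[.main]⟩,
  ⟨[0,1,3,11,12],[13,16,17],[.main]⟩,
  ⟨[0,1,3,12,15],[21,22,23],[.main]⟩,
  ⟨[0,1,4,5,7],[8,15,23],[.dead [0,1,4,8,14],.dead [0,1,4,8,14],.dead [0,1,4,8,14],.dead [0,1,4,8,17],.main,.dead [0,1,4,8,17],.dead [0,1,4,14,15],.dead [0,1,4,14,15],.dead [0,1,5,14,17],.dead [0,1,4,15,17]]⟩,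
  ⟨[0,1,4,5,10],[13,17,20],[.dead [0,1,4,13,14],.dead [0,1,4,13,14],.main,.dead [0,1,4,14,20]]⟩,
  ⟨[0,1,4,5,11],[12,14,22],[.main]⟩]

noncomputable def cert24_1 : List Node := [
  ⟨[0,1,4,6,7],[11,13,18],[.dead [0,1,4,9,13],.dead [0,1,4,9,18],.dead [0,1,4,11,22],.dead [0,1,4,9,13],.dead [0,1,4,9,13],.dead [0,1,4,9,18],.main,.dead [0,1,4,11,22],.dead [0,1,4,11,22],.dead [0,1,4,13,22]]⟩,
  ⟨[0,1,4,6,9],[12,17,23],[.dead [0,1,4,10,12],.dead [0,1,4,10,12],.dead [0,1,4,10,17],.main]⟩,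
  ⟨[0,1,4,6,10],[15,19,22],[.main]⟩,
  ⟨[0,1,4,7,9],[20,21,22],[.main]⟩,
  ⟨[0,1,4,7,14],[16,17,19],[.main]⟩,
  ⟨[0,1,4,8,9],[10,11,16],[.main]⟩,
  ⟨[0,1,4,8,12],[13,19,21],[.main]⟩,
  ⟨[0,1,4,10,14],[18,21,23],[.main]⟩,
  ⟨[0,1,4,12,15],[16,18,20],[.main]⟩,
  ⟨[0,1,5,6,7],[9,10,14],[.main]⟩,
  ⟨[0,1,5,6,8],[11,17,19],[.dead [0,1,5,11,18],.main,.dead [0,1,5,11,18],.dead [0,1,5,18,19]]⟩,
  ⟨[0,1,5,6,18],[20,22,23],[.main]⟩,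
  ⟨[0,1,5,7,12],[17,18,21],[.main]⟩,
  ⟨[0,1,5,8,13],[14,16,18],[.main]⟩,
  ⟨[0,1,5,9,11],[13,21,23],[.main]⟩,
  ⟨[0,1,5,9,15],[16,17,22],[.main]⟩,
  ⟨[0,1,5,10,12],[16,19,23],[.main]⟩,
  ⟨[0,1,5,14,15],[19,20,21],[.main]⟩,
  ⟨[0,1,6,7,8],[12,16,22],[.main]⟩,
  ⟨[0,1,6,8,9],[15,18,21],[.main]⟩,
  ⟨[0,1,6,9,13],[16,19,20],[.main]⟩,
  ⟨[0,1,6,10,11],[12,20,21],[.main]⟩,
  ⟨[0,1,6,11,14],[15,16,23],[.main]⟩,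
  ⟨[0,1,6,13,14],[17,21,22],[.main]⟩,
  ⟨[0,1,7,8,10],[18,19,20],[.main]⟩,
  ⟨[0,1,7,9,11],[12,15,19],[.main]⟩,
  ⟨[0,1,7,10,11],[17,22,23],[.main]⟩,
  ⟨[0,1,7,10,13],[15,16,21],[.main]⟩,
  ⟨[0,1,7,12,13],[14,20,23],[.main]⟩,
  ⟨[0,1,8,9,14],[19,22,23],[.main]⟩,
  ⟨[0,1,8,10,12],[14,15,17],[.main]⟩,
  ⟨[0,1,8,11,13],[15,20,22],[.main]⟩,
  ⟨[0,1,8,16,17],[20,21,23],[.main]⟩,
  ⟨[0,1,9,10,12],[13,18,22],[.main]⟩,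
  ⟨[0,1,9,11,14],[17,18,20],[.main]⟩,
  ⟨[0,1,11,16,18],[19,21,22],[.main]⟩,
  ⟨[0,1,13,15,17],[18,19,23],[.main]⟩,
  ⟨[0,2,3,4,5],[15,20,22],[.sym [(6,21),(8,15),(9,18),(10,12),(11,20),(13,22),(14,17)],.dead [0,2,3,8,15],.dead [0,2,4,8,20],.dead [0,2,3,11,22],.dead [0,2,3,8,15],.dead [0,2,3,13,20],.dead [0,2,4,13,22],.dead [0,2,3,8,15],.dead [0,2,3,8,15],.dead [0,2,4,8,20],.dead [0,2,4,11,15],.dead [0,2,3,13,20],.dead [0,2,3,11,22],.dead [0,2,4,11,15],.dead [0,2,3,11,22],.dead [0,2,3,11,22],.dead [0,2,3,13,20],.dead [0,2,4,13,22],.dead [0,2,3,13,20],.main]⟩,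
  ⟨[0,2,3,4,6],[13,17,19],[.dead [0,2,3,13,18],.main,.dead [0,2,3,17,23],.dead [0,2,3,13,18],.dead [0,2,3,13,18],.dead [0,2,4,13,23],.dead [0,2,4,18,19],.dead [0,2,3,17,23],.dead [0,2,3,17,23],.dead [0,2,4,18,19]]⟩,
  ⟨[0,2,3,4,8],[9,21,23],[.dead [0,2,3,9,11],.dead [0,2,3,9,11],.main,.dead [0,2,4,11,21]]⟩]

noncomputable def cert24_2 : List Node := [
  ⟨[0,2,3,4,11],[14,16,18],[.main]⟩,
  ⟨[0,2,3,5,6],[7,8,18],[.dead [0,2,3,7,10],.main,.dead [0,2,3,7,10],.dead [0,2,5,8,10]]⟩,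
  ⟨[0,2,3,5,9],[10,13,16],[.main]⟩,
  ⟨[0,2,3,5,11],[12,19,21],[.main]⟩,
  ⟨[0,2,3,6,10],[14,15,21],[.dead [0,2,3,15,20],.main,.dead [0,2,3,20,21],.dead [0,2,3,15,20]]⟩,
  ⟨[0,2,3,6,12],[16,20,23],[.main]⟩,
  ⟨[0,2,3,7,9],[14,19,20],[.dead [0,2,3,14,15],.dead [0,2,3,14,15],.main,.dead [0,2,3,15,19]]⟩,
  ⟨[0,2,3,7,11],[13,15,23],[.dead [0,2,3,13,17],.main,.dead [0,2,3,13,17],.dead [0,2,3,17,23]]⟩,
  ⟨[0,2,3,7,16],[17,21,22],[.main]⟩,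
  ⟨[0,2,3,8,10],[11,17,20],[.main]⟩,
  ⟨[0,2,3,8,12],[13,14,22],[.main]⟩,
  ⟨[0,2,3,9,12],[15,17,18],[.main]⟩,
  ⟨[0,2,3,10,18],[19,22,23],[.main]⟩,
  ⟨[0,2,4,5,6],[10,11,23],[.main]⟩,
  ⟨[0,2,4,5,7],[13,14,21],[.dead [0,2,4,13,17],.main,.dead [0,2,4,13,17],.dead [0,2,4,17,21]]⟩,
  ⟨[0,2,4,5,8],[12,16,17],[.main]⟩,
  ⟨[0,2,4,6,7],[9,15,16],[.main,.dead [0,2,4,15,22],.dead [0,2,4,16,22],.dead [0,2,4,15,22]]⟩,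
  ⟨[0,2,4,6,12],[18,21,22],[.main]⟩,
  ⟨[0,2,4,7,8],[11,19,22],[.main]⟩,
  ⟨[0,2,4,7,17],[18,20,23],[.main]⟩,
  ⟨[0,2,4,8,10],[13,15,18],[.main]⟩,
  ⟨[0,2,4,9,10],[14,17,22],[.main]⟩,
  ⟨[0,2,4,9,11],[12,13,20],[.main]⟩,
  ⟨[0,2,4,10,16],[19,20,21],[.main]⟩,
  ⟨[0,2,4,12,14],[15,19,23],[.main]⟩,
  ⟨[0,2,5,6,9],[17,20,21],[.main]⟩,
  ⟨[0,2,5,6,14],[16,19,22],[.main]⟩,
  ⟨[0,2,5,7,9],[12,22,23],[.main]⟩,
  ⟨[0,2,5,7,10],[15,17,19],[.main]⟩,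
  ⟨[0,2,5,8,9],[11,14,15],[.main]⟩,
  ⟨[0,2,5,8,13],[19,20,23],[.main]⟩,
  ⟨[0,2,5,10,12],[14,18,20],[.main]⟩,
  ⟨[0,2,5,11,13],[17,18,22],[.main]⟩,
  ⟨[0,2,5,15,16],[18,21,23],[.main]⟩,
  ⟨[0,2,6,7,10],[13,20,22],[.main]⟩,
  ⟨[0,2,6,7,11],[12,14,17],[.main]⟩,
  ⟨[0,2,6,8,9],[10,12,19],[.main]⟩,
  ⟨[0,2,6,8,11],[13,16,21],[.main]⟩,
  ⟨[0,2,6,8,15],[17,22,23],[.main]⟩,
  ⟨[0,2,6,9,13],[14,18,23],[.main]⟩]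

noncomputable def cert24_3 : List Node := [
  ⟨[0,2,6,11,15],[18,19,20],[.main]⟩,
  ⟨[0,2,7,8,10],[14,16,23],[.main]⟩,
  ⟨[0,2,7,8,12],[15,20,21],[.main]⟩,
  ⟨[0,2,7,9,10],[11,18,21],[.main]⟩,
  ⟨[0,2,7,12,13],[16,18,19],[.main]⟩,
  ⟨[0,2,8,9,16],[18,20,22],[.main]⟩,
  ⟨[0,2,8,14,17],[18,19,21],[.main]⟩,
  ⟨[0,2,9,11,16],[17,19,23],[.main]⟩,
  ⟨[0,2,9,13,15],[19,21,22],[.main]⟩,
  ⟨[0,2,10,11,12],[15,16,22],[.main]⟩,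
  ⟨[0,2,10,12,13],[17,21,23],[.main]⟩,
  ⟨[0,2,11,14,20],[21,22,23],[.main]⟩,
  ⟨[0,2,13,14,15],[16,17,20],[.main]⟩,
  ⟨[0,3,4,5,7],[9,11,17],[.main]⟩,
  ⟨[0,3,4,5,8],[10,14,19],[.dead [0,3,4,13,14],.dead [0,3,4,13,19],.main,.dead [0,3,4,13,14]]⟩,
  ⟨[0,3,4,5,12],[13,18,23],[.main]⟩,
  ⟨[0,3,4,6,7],[14,22,23],[.main]⟩,
  ⟨[0,3,4,6,8],[11,12,15],[.main]⟩,
  ⟨[0,3,4,6,9],[10,18,20],[.main]⟩,
  ⟨[0,3,4,7,8],[13,16,20],[.main]⟩,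
  ⟨[0,3,4,7,15],[18,19,21],[.main]⟩,
  ⟨[0,3,4,9,12],[16,19,22],[.main]⟩,
  ⟨[0,3,4,10,11],[13,21,22],[.main]⟩,
  ⟨[0,3,4,10,15],[16,17,23],[.main]⟩,
  ⟨[0,3,4,12,14],[17,20,21],[.main]⟩,
  ⟨[0,3,5,6,9],[15,19,23],[.main]⟩,
  ⟨[0,3,5,6,10],[12,17,22],[.main]⟩,
  ⟨[0,3,5,6,11],[13,14,20],[.main]⟩,
  ⟨[0,3,5,7,10],[20,21,23],[.main]⟩,
  ⟨[0,3,5,7,12],[14,15,16],[.main]⟩,
  ⟨[0,3,5,8,11],[16,22,23],[.main]⟩,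
  ⟨[0,3,5,8,13],[15,17,21],[.main]⟩,
  ⟨[0,3,5,9,14],[18,21,22],[.main]⟩,
  ⟨[0,3,5,16,17],[18,19,20],[.main]⟩,
  ⟨[0,3,6,7,9],[12,13,21],[.main]⟩,
  ⟨[0,3,6,7,10],[11,16,19],[.main]⟩,
  ⟨[0,3,6,8,9],[14,16,17],[.main]⟩,
  ⟨[0,3,6,8,19],[20,21,22],[.main]⟩,
  ⟨[0,3,6,11,17],[18,21,23],[.main]⟩,
  ⟨[0,3,6,13,15],[16,18,22],[.main]⟩]

noncomputable def cert24_4 : List Node := [
  ⟨[0,3,7,8,9],[10,15,22],[.main]⟩,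
  ⟨[0,3,7,8,12],[17,19,23],[.main]⟩,
  ⟨[0,3,7,10,13],[14,17,18],[.main]⟩,
  ⟨[0,3,7,11,12],[18,20,22],[.main]⟩,
  ⟨[0,3,8,9,11],[13,18,19],[.main]⟩,
  ⟨[0,3,8,10,12],[16,18,21],[.main]⟩,
  ⟨[0,3,8,14,15],[18,20,23],[.main]⟩,
  ⟨[0,3,9,10,11],[12,14,23],[.main]⟩,
  ⟨[0,3,9,11,15],[16,20,21],[.main]⟩,
  ⟨[0,3,9,13,17],[20,22,23],[.main]⟩,
  ⟨[0,3,10,12,13],[15,19,20],[.main]⟩,
  ⟨[0,3,11,14,15],[17,19,22],[.main]⟩,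
  ⟨[0,3,13,14,16],[19,21,23],[.main]⟩,
  ⟨[0,4,5,6,7],[12,19,20],[.main]⟩,
  ⟨[0,4,5,6,8],[9,13,22],[.main]⟩,
  ⟨[0,4,5,6,14],[15,17,18],[.main]⟩,
  ⟨[0,4,5,7,10],[16,18,22],[.main]⟩,
  ⟨[0,4,5,8,11],[18,20,21],[.main]⟩,
  ⟨[0,4,5,9,10],[12,15,21],[.main]⟩,
  ⟨[0,4,5,9,14],[16,20,23],[.main]⟩,
  ⟨[0,4,5,11,13],[15,16,19],[.main]⟩,
  ⟨[0,4,5,17,19],[21,22,23],[.main]⟩,
  ⟨[0,4,6,7,8],[10,17,21],[.main]⟩,
  ⟨[0,4,6,8,16],[18,19,23],[.main]⟩,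
  ⟨[0,4,6,9,11],[14,19,21],[.main]⟩,
  ⟨[0,4,6,10,12],[13,14,16],[.main]⟩,
  ⟨[0,4,6,11,16],[17,20,22],[.main]⟩,
  ⟨[0,4,6,13,15],[20,21,23],[.main]⟩,
  ⟨[0,4,7,8,9],[12,14,18],[.main]⟩,
  ⟨[0,4,7,9,10],[13,19,23],[.main]⟩,
  ⟨[0,4,7,10,11],[14,15,20],[.main]⟩,
  ⟨[0,4,7,11,12],[16,21,23],[.main]⟩,
  ⟨[0,4,7,12,13],[15,17,22],[.main]⟩,
  ⟨[0,4,8,9,15],[17,19,20],[.main]⟩,
  ⟨[0,4,8,10,12],[20,22,23],[.main]⟩,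
  ⟨[0,4,8,11,13],[14,17,23],[.main]⟩,
  ⟨[0,4,8,14,15],[16,21,22],[.main]⟩,
  ⟨[0,4,9,11,15],[18,22,23],[.main]⟩,
  ⟨[0,4,9,13,16],[17,18,21],[.main]⟩,
  ⟨[0,4,10,11,12],[17,18,19],[.main]⟩]

noncomputable def cert24_5 : List Node := [
  ⟨[0,4,13,14,18],[19,20,22],[.main]⟩,
  ⟨[0,5,6,7,11],[15,21,22],[.main]⟩,
  ⟨[0,5,6,7,13],[16,17,23],[.main]⟩,
  ⟨[0,5,6,8,10],[15,16,20],[.main]⟩,
  ⟨[0,5,6,8,12],[14,21,23],[.main]⟩,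
  ⟨[0,5,6,9,11],[12,16,18],[.main]⟩,
  ⟨[0,5,6,10,13],[18,19,21],[.main]⟩,
  ⟨[0,5,7,8,9],[16,19,21],[.main]⟩,
  ⟨[0,5,7,8,10],[11,12,13],[.main]⟩,
  ⟨[0,5,7,8,14],[17,20,22],[.main]⟩,
  ⟨[0,5,7,9,13],[15,18,20],[.main]⟩,
  ⟨[0,5,7,11,14],[18,19,23],[.main]⟩,
  ⟨[0,5,8,9,10],[17,18,23],[.main]⟩,
  ⟨[0,5,8,12,15],[18,19,22],[.main]⟩,
  ⟨[0,5,9,10,11],[19,20,22],[.main]⟩,
  ⟨[0,5,9,12,13],[14,17,19],[.main]⟩,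
  ⟨[0,5,10,11,14],[16,17,21],[.main]⟩,
  ⟨[0,5,10,13,14],[15,22,23],[.main]⟩,
  ⟨[0,5,11,12,15],[17,20,23],[.main]⟩,
  ⟨[0,5,12,13,16],[20,21,22],[.main]⟩,
  ⟨[0,6,7,8,9],[11,20,23],[.main]⟩,
  ⟨[0,6,7,8,13],[14,15,19],[.main]⟩,
  ⟨[0,6,7,9,17],[18,19,22],[.main]⟩,
  ⟨[0,6,7,10,12],[15,18,23],[.main]⟩,
  ⟨[0,6,7,14,16],[18,20,21],[.main]⟩,
  ⟨[0,6,8,10,11],[14,18,22],[.main]⟩,
  ⟨[0,6,8,12,13],[17,18,20],[.main]⟩,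
  ⟨[0,6,9,10,11],[13,15,17],[.main]⟩,
  ⟨[0,6,9,10,16],[21,22,23],[.main]⟩,
  ⟨[0,6,9,12,14],[15,20,22],[.main]⟩,
  ⟨[0,6,10,14,17],[19,20,23],[.main]⟩,
  ⟨[0,6,11,12,13],[19,22,23],[.main]⟩,
  ⟨[0,6,12,15,16],[17,19,21],[.main]⟩,
  ⟨[0,7,8,11,15],[16,17,18],[.main]⟩,
  ⟨[0,7,8,13,18],[21,22,23],[.main]⟩,
  ⟨[0,7,9,10,12],[16,17,20],[.main]⟩,
  ⟨[0,7,9,11,13],[14,16,22],[.main]⟩,
  ⟨[0,7,9,14,15],[17,21,23],[.main]⟩,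
  ⟨[0,7,10,12,14],[19,21,22],[.main]⟩,
  ⟨[0,7,11,13,17],[19,20,21],[.main]⟩]

noncomputable def cert24_6 : List Node := [
  ⟨[0,7,15,16,19],[20,22,23],[.main]⟩,
  ⟨[0,8,9,10,13],[14,20,21],[.main]⟩,
  ⟨[0,8,9,11,12],[17,21,22],[.main]⟩,
  ⟨[0,8,9,12,13],[15,16,23],[.main]⟩,
  ⟨[0,8,10,11,15],[19,21,23],[.main]⟩,
  ⟨[0,8,10,13,16],[17,19,22],[.main]⟩,
  ⟨[0,8,11,12,14],[16,19,20],[.main]⟩,
  ⟨[0,9,10,14,15],[16,18,19],[.main]⟩,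
  ⟨[0,9,12,18,19],[20,21,23],[.main]⟩,
  ⟨[0,10,11,13,16],[18,20,23],[.main]⟩,
  ⟨[0,10,15,17,18],[20,21,22],[.main]⟩,
  ⟨[0,11,12,13,14],[15,18,21],[.main]⟩,
  ⟨[0,12,14,16,17],[18,22,23],[.main]⟩,
  ⟨[1,2,3,4,5],[8,11,13],[.main]⟩,
  ⟨[1,2,3,4,6],[15,18,23],[.main]⟩,
  ⟨[1,2,3,4,9],[16,17,20],[.main]⟩,
  ⟨[1,2,3,4,14],[19,21,22],[.main]⟩,
  ⟨[1,2,3,5,6],[10,19,20],[.main]⟩,
  ⟨[1,2,3,5,7],[9,15,21],[.main]⟩,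
  ⟨[1,2,3,5,12],[16,18,22],[.main]⟩,
  ⟨[1,2,3,6,7],[13,14,16],[.main]⟩,
  ⟨[1,2,3,6,8],[12,17,21],[.main]⟩,
  ⟨[1,2,3,7,8],[20,22,23],[.main]⟩,
  ⟨[1,2,3,7,11],[17,18,19],[.main]⟩,
  ⟨[1,2,3,8,9],[10,14,18],[.main]⟩,
  ⟨[1,2,3,9,12],[13,19,23],[.main]⟩,
  ⟨[1,2,3,10,11],[16,21,23],[.main]⟩,
  ⟨[1,2,3,10,13],[15,17,22],[.main]⟩,
  ⟨[1,2,3,11,12],[14,15,20],[.main]⟩,
  ⟨[1,2,4,5,6],[7,17,22],[.main]⟩,
  ⟨[1,2,4,5,10],[14,15,16],[.main]⟩,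
  ⟨[1,2,4,5,12],[20,21,23],[.main]⟩,
  ⟨[1,2,4,6,9],[10,13,21],[.main]⟩,
  ⟨[1,2,4,6,11],[12,16,19],[.main]⟩,
  ⟨[1,2,4,7,8],[16,18,21],[.main]⟩,
  ⟨[1,2,4,7,9],[11,14,23],[.main]⟩,
  ⟨[1,2,4,7,13],[15,19,20],[.main]⟩,
  ⟨[1,2,4,8,9],[12,15,22],[.main]⟩,
  ⟨[1,2,4,8,10],[17,19,23],[.main]⟩,
  ⟨[1,2,4,10,11],[18,20,22],[.main]⟩]

noncomputable def cert24_7 : List Node := [
  ⟨[1,2,4,12,13],[14,17,18],[.main]⟩,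
  ⟨[1,2,5,6,8],[9,16,23],[.main]⟩,
  ⟨[1,2,5,6,11],[14,18,21],[.main]⟩,
  ⟨[1,2,5,7,8],[12,14,19],[.main]⟩,
  ⟨[1,2,5,7,10],[13,18,23],[.main]⟩,
  ⟨[1,2,5,8,15],[17,18,20],[.main]⟩,
  ⟨[1,2,5,9,10],[11,12,17],[.main]⟩,
  ⟨[1,2,5,9,13],[14,20,22],[.main]⟩,
  ⟨[1,2,5,11,15],[19,22,23],[.main]⟩,
  ⟨[1,2,5,13,16],[17,19,21],[.main]⟩,
  ⟨[1,2,6,7,8],[10,11,15],[.main]⟩,
  ⟨[1,2,6,7,9],[12,18,20],[.main]⟩,
  ⟨[1,2,6,8,13],[18,19,22],[.main]⟩,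
  ⟨[1,2,6,9,14],[15,17,19],[.main]⟩,
  ⟨[1,2,6,10,12],[14,22,23],[.main]⟩,
  ⟨[1,2,6,11,13],[17,20,23],[.main]⟩,
  ⟨[1,2,6,15,16],[20,21,22],[.main]⟩,
  ⟨[1,2,7,9,10],[16,19,22],[.main]⟩,
  ⟨[1,2,7,10,14],[17,20,21],[.main]⟩,
  ⟨[1,2,7,11,12],[13,21,22],[.main]⟩,
  ⟨[1,2,7,12,15],[16,17,23],[.main]⟩,
  ⟨[1,2,8,9,11],[19,20,21],[.main]⟩,
  ⟨[1,2,8,10,12],[13,16,20],[.main]⟩,
  ⟨[1,2,8,11,14],[16,17,22],[.main]⟩,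
  ⟨[1,2,8,13,14],[15,21,23],[.main]⟩,
  ⟨[1,2,9,11,13],[15,16,18],[.main]⟩,
  ⟨[1,2,9,17,18],[21,22,23],[.main]⟩,
  ⟨[1,2,10,12,15],[18,19,21],[.main]⟩,
  ⟨[1,2,14,16,18],[19,20,23],[.main]⟩,
  ⟨[1,3,4,5,7],[14,18,20],[.main]⟩,
  ⟨[1,3,4,5,9],[10,22,23],[.main]⟩,
  ⟨[1,3,4,5,12],[15,17,19],[.main]⟩,
  ⟨[1,3,4,6,7],[8,9,19],[.main]⟩,
  ⟨[1,3,4,6,10],[11,14,17],[.main]⟩,
  ⟨[1,3,4,6,12],[13,20,22],[.main]⟩,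
  ⟨[1,3,4,7,11],[15,16,22],[.main]⟩,
  ⟨[1,3,4,7,13],[17,21,23],[.main]⟩,
  ⟨[1,3,4,8,10],[15,20,21],[.main]⟩,
  ⟨[1,3,4,8,12],[14,16,23],[.main]⟩,
  ⟨[1,3,4,9,11],[12,18,21],[.main]⟩]

noncomputable def cert24_8 : List Node := [
  ⟨[1,3,4,10,13],[16,18,19],[.main]⟩,
  ⟨[1,3,5,6,7],[11,12,23],[.main]⟩,
  ⟨[1,3,5,6,8],[14,15,22],[.main]⟩,
  ⟨[1,3,5,6,9],[13,17,18],[.main]⟩,
  ⟨[1,3,5,7,8],[10,16,17],[.main]⟩,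
  ⟨[1,3,5,8,18],[19,21,23],[.main]⟩,
  ⟨[1,3,5,9,11],[14,16,19],[.main]⟩,
  ⟨[1,3,5,10,12],[13,14,21],[.main]⟩,
  ⟨[1,3,5,11,17],[20,21,22],[.main]⟩,
  ⟨[1,3,5,13,15],[16,20,23],[.main]⟩,
  ⟨[1,3,6,7,10],[18,21,22],[.main]⟩,
  ⟨[1,3,6,8,11],[16,18,20],[.main]⟩,
  ⟨[1,3,6,9,10],[12,15,16],[.main]⟩,
  ⟨[1,3,6,9,14],[20,21,23],[.main]⟩,
  ⟨[1,3,6,11,13],[15,19,21],[.main]⟩,
  ⟨[1,3,6,16,17],[19,22,23],[.main]⟩,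
  ⟨[1,3,7,8,12],[13,15,18],[.main]⟩,
  ⟨[1,3,7,9,10],[11,13,20],[.main]⟩,
  ⟨[1,3,7,9,12],[14,17,22],[.main]⟩,
  ⟨[1,3,7,10,14],[15,19,23],[.main]⟩,
  ⟨[1,3,7,12,16],[19,20,21],[.main]⟩,
  ⟨[1,3,8,9,11],[15,17,23],[.main]⟩,
  ⟨[1,3,8,9,13],[16,21,22],[.main]⟩,
  ⟨[1,3,8,10,11],[12,19,22],[.main]⟩,
  ⟨[1,3,8,13,14],[17,19,20],[.main]⟩,
  ⟨[1,3,9,15,18],[19,20,22],[.main]⟩,
  ⟨[1,3,10,12,17],[18,20,23],[.main]⟩,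
  ⟨[1,3,11,13,14],[18,22,23],[.main]⟩,
  ⟨[1,3,14,15,16],[17,18,21],[.main]⟩,
  ⟨[1,4,5,6,8],[10,12,18],[.main]⟩,
  ⟨[1,4,5,6,9],[11,15,20],[.main]⟩,
  ⟨[1,4,5,6,13],[14,19,23],[.main]⟩,
  ⟨[1,4,5,7,9],[12,13,16],[.main]⟩,
  ⟨[1,4,5,7,10],[11,19,21],[.main]⟩,
  ⟨[1,4,5,8,9],[14,17,21],[.main]⟩,
  ⟨[1,4,5,8,16],[19,20,22],[.main]⟩,
  ⟨[1,4,5,11,16],[17,18,23],[.main]⟩,
  ⟨[1,4,5,13,15],[18,21,22],[.main]⟩,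
  ⟨[1,4,6,7,10],[16,20,23],[.main]⟩,
  ⟨[1,4,6,7,12],[14,15,21],[.main]⟩]

noncomputable def cert24_9 : List Node := [
  ⟨[1,4,6,8,11],[21,22,23],[.main]⟩,
  ⟨[1,4,6,8,13],[15,16,17],[.main]⟩,
  ⟨[1,4,6,9,14],[16,18,22],[.main]⟩,
  ⟨[1,4,6,17,18],[19,20,21],[.main]⟩,
  ⟨[1,4,7,8,10],[13,14,22],[.main]⟩,
  ⟨[1,4,7,8,11],[12,17,20],[.main]⟩,
  ⟨[1,4,7,9,10],[15,17,18],[.main]⟩,
  ⟨[1,4,7,12,18],[19,22,23],[.main]⟩,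
  ⟨[1,4,8,9,13],[18,20,23],[.main]⟩,
  ⟨[1,4,8,11,14],[15,18,19],[.main]⟩,
  ⟨[1,4,9,10,12],[14,19,20],[.main]⟩,
  ⟨[1,4,9,11,13],[17,19,22],[.main]⟩,
  ⟨[1,4,9,15,16],[19,21,23],[.main]⟩,
  ⟨[1,4,10,11,12],[13,15,23],[.main]⟩,
  ⟨[1,4,10,12,16],[17,21,22],[.main]⟩,
  ⟨[1,4,11,13,14],[16,20,21],[.main]⟩,
  ⟨[1,4,14,15,17],[20,22,23],[.main]⟩,
  ⟨[1,5,6,7,8],[13,20,21],[.main]⟩,
  ⟨[1,5,6,7,15],[16,18,19],[.main]⟩,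
  ⟨[1,5,6,9,12],[19,21,22],[.main]⟩,
  ⟨[1,5,6,10,11],[13,16,22],[.main]⟩,
  ⟨[1,5,6,10,15],[17,21,23],[.main]⟩,
  ⟨[1,5,6,12,14],[16,17,20],[.main]⟩,
  ⟨[1,5,7,8,9],[11,18,22],[.main]⟩,
  ⟨[1,5,7,9,17],[19,20,23],[.main]⟩,
  ⟨[1,5,7,10,12],[15,20,22],[.main]⟩,
  ⟨[1,5,7,11,13],[14,15,17],[.main]⟩,
  ⟨[1,5,7,14,16],[21,22,23],[.main]⟩,
  ⟨[1,5,8,9,10],[13,15,19],[.main]⟩,
  ⟨[1,5,8,10,11],[14,20,23],[.main]⟩,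
  ⟨[1,5,8,11,12],[15,16,21],[.main]⟩,
  ⟨[1,5,8,12,13],[17,22,23],[.main]⟩,
  ⟨[1,5,9,10,16],[18,20,21],[.main]⟩,
  ⟨[1,5,9,12,14],[15,18,23],[.main]⟩,
  ⟨[1,5,10,14,17],[18,19,22],[.main]⟩,
  ⟨[1,5,11,12,13],[18,19,20],[.main]⟩,
  ⟨[1,6,7,8,14],[17,18,23],[.main]⟩,
  ⟨[1,6,7,9,11],[16,17,21],[.main]⟩,
  ⟨[1,6,7,9,13],[15,22,23],[.main]⟩,
  ⟨[1,6,7,10,12],[13,17,19],[.main]⟩]

noncomputable def cert24_10 : List Node := [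
  ⟨[1,6,7,11,14],[19,20,22],[.main]⟩,
  ⟨[1,6,8,9,10],[17,20,22],[.main]⟩,
  ⟨[1,6,8,9,11],[12,13,14],[.main]⟩,
  ⟨[1,6,8,10,14],[16,19,21],[.main]⟩,
  ⟨[1,6,8,12,15],[19,20,23],[.main]⟩,
  ⟨[1,6,9,10,11],[18,19,23],[.main]⟩,
  ⟨[1,6,10,13,14],[15,18,20],[.main]⟩,
  ⟨[1,6,11,12,15],[17,18,22],[.main]⟩,
  ⟨[1,6,12,13,16],[18,21,23],[.main]⟩,
  ⟨[1,7,8,9,10],[12,21,23],[.main]⟩,
  ⟨[1,7,8,9,14],[15,16,20],[.main]⟩,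
  ⟨[1,7,8,11,13],[16,19,23],[.main]⟩,
  ⟨[1,7,8,15,17],[19,21,22],[.main]⟩,
  ⟨[1,7,9,13,14],[18,19,21],[.main]⟩,
  ⟨[1,7,10,11,12],[14,16,18],[.main]⟩,
  ⟨[1,7,11,15,18],[20,21,23],[.main]⟩,
  ⟨[1,7,13,16,17],[18,20,22],[.main]⟩,
  ⟨[1,8,9,12,16],[17,18,19],[.main]⟩,
  ⟨[1,8,10,11,13],[17,18,21],[.main]⟩,
  ⟨[1,8,10,15,16],[18,22,23],[.main]⟩,
  ⟨[1,8,12,14,18],[20,21,22],[.main]⟩,
  ⟨[1,9,10,11,14],[15,21,22],[.main]⟩,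
  ⟨[1,9,10,13,14],[16,17,23],[.main]⟩,
  ⟨[1,9,11,12,16],[20,22,23],[.main]⟩,
  ⟨[1,9,12,13,15],[17,20,21],[.main]⟩,
  ⟨[1,10,11,15,16],[17,19,20],[.main]⟩,
  ⟨[1,10,13,19,20],[21,22,23],[.main]⟩,
  ⟨[1,11,12,14,17],[19,21,23],[.main]⟩,
  ⟨[1,12,13,14,15],[16,19,22],[.main]⟩,
  ⟨[2,3,4,5,6],[9,12,14],[.main]⟩,
  ⟨[2,3,4,5,7],[16,19,23],[.main]⟩,
  ⟨[2,3,4,5,10],[17,18,21],[.main]⟩,
  ⟨[2,3,4,6,7],[11,20,21],[.main]⟩,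
  ⟨[2,3,4,6,8],[10,16,22],[.main]⟩,
  ⟨[2,3,4,7,8],[14,15,17],[.main]⟩,
  ⟨[2,3,4,7,9],[13,18,22],[.main]⟩,
  ⟨[2,3,4,8,12],[18,19,20],[.main]⟩,
  ⟨[2,3,4,9,10],[11,15,19],[.main]⟩,
  ⟨[2,3,4,10,13],[14,20,23],[.main]⟩,
  ⟨[2,3,4,11,12],[17,22,23],[.main]⟩]

noncomputable def cert24_11 : List Node := [
  ⟨[2,3,4,12,13],[15,16,21],[.main]⟩,
  ⟨[2,3,5,6,11],[15,16,17],[.main]⟩,
  ⟨[2,3,5,6,13],[21,22,23],[.main]⟩,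
  ⟨[2,3,5,7,10],[11,14,22],[.main]⟩,
  ⟨[2,3,5,7,12],[13,17,20],[.main]⟩,
  ⟨[2,3,5,8,9],[17,19,22],[.main]⟩,
  ⟨[2,3,5,8,10],[12,15,23],[.main]⟩,
  ⟨[2,3,5,8,14],[16,20,21],[.main]⟩,
  ⟨[2,3,5,9,11],[18,20,23],[.main]⟩,
  ⟨[2,3,5,13,14],[15,18,19],[.main]⟩,
  ⟨[2,3,6,7,9],[10,17,23],[.main]⟩,
  ⟨[2,3,6,7,12],[15,19,22],[.main]⟩,
  ⟨[2,3,6,8,9],[13,15,20],[.main]⟩,
  ⟨[2,3,6,8,11],[14,19,23],[.main]⟩,
  ⟨[2,3,6,9,16],[18,19,21],[.main]⟩,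
  ⟨[2,3,6,10,11],[12,13,18],[.main]⟩,
  ⟨[2,3,6,14,17],[18,20,22],[.main]⟩,
  ⟨[2,3,7,8,9],[11,12,16],[.main]⟩,
  ⟨[2,3,7,8,10],[13,19,21],[.main]⟩,
  ⟨[2,3,7,10,15],[16,18,20],[.main]⟩,
  ⟨[2,3,7,12,14],[18,21,23],[.main]⟩,
  ⟨[2,3,8,11,15],[18,21,22],[.main]⟩,
  ⟨[2,3,8,13,16],[17,18,23],[.main]⟩,
  ⟨[2,3,9,10,12],[20,21,22],[.main]⟩,
  ⟨[2,3,9,11,13],[14,17,21],[.main]⟩,
  ⟨[2,3,9,14,15],[16,22,23],[.main]⟩,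
  ⟨[2,3,10,12,14],[16,17,19],[.main]⟩,
  ⟨[2,3,11,13,16],[19,20,22],[.main]⟩,
  ⟨[2,3,15,17,19],[20,21,23],[.main]⟩,
  ⟨[2,4,5,6,8],[15,19,21],[.main]⟩,
  ⟨[2,4,5,6,13],[16,18,20],[.main]⟩,
  ⟨[2,4,5,7,8],[9,10,20],[.main]⟩,
  ⟨[2,4,5,7,11],[12,15,18],[.main]⟩,
  ⟨[2,4,5,8,14],[18,22,23],[.main]⟩,
  ⟨[2,4,5,9,11],[16,21,22],[.main]⟩,
  ⟨[2,4,5,9,13],[15,17,23],[.main]⟩,
  ⟨[2,4,5,10,12],[13,19,22],[.main]⟩,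
  ⟨[2,4,5,11,14],[17,19,20],[.main]⟩,
  ⟨[2,4,6,7,8],[12,13,23],[.main]⟩,
  ⟨[2,4,6,7,10],[14,18,19],[.main]⟩]

noncomputable def cert24_12 : List Node := [
  ⟨[2,4,6,8,9],[11,17,18],[.main]⟩,
  ⟨[2,4,6,9,19],[20,22,23],[.main]⟩,
  ⟨[2,4,6,10,12],[15,17,20],[.main]⟩,
  ⟨[2,4,6,11,13],[14,15,22],[.main]⟩,
  ⟨[2,4,6,14,16],[17,21,23],[.main]⟩,
  ⟨[2,4,7,9,12],[17,19,21],[.main]⟩,
  ⟨[2,4,7,10,11],[13,16,17],[.main]⟩,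
  ⟨[2,4,7,10,15],[21,22,23],[.main]⟩,
  ⟨[2,4,7,12,14],[16,20,22],[.main]⟩,
  ⟨[2,4,8,9,13],[14,16,19],[.main]⟩,
  ⟨[2,4,8,10,11],[12,14,21],[.main]⟩,
  ⟨[2,4,8,11,15],[16,20,23],[.main]⟩,
  ⟨[2,4,8,13,17],[20,21,22],[.main]⟩,
  ⟨[2,4,9,10,12],[16,18,23],[.main]⟩,
  ⟨[2,4,9,14,15],[18,20,21],[.main]⟩,
  ⟨[2,4,11,13,18],[19,21,23],[.main]⟩,
  ⟨[2,4,15,16,17],[18,19,22],[.main]⟩,
  ⟨[2,5,6,7,9],[11,13,19],[.main]⟩,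
  ⟨[2,5,6,7,10],[12,16,21],[.main]⟩,
  ⟨[2,5,6,7,14],[15,20,23],[.main]⟩,
  ⟨[2,5,6,8,10],[13,14,17],[.main]⟩,
  ⟨[2,5,6,8,11],[12,20,22],[.main]⟩,
  ⟨[2,5,6,9,10],[15,18,22],[.main]⟩,
  ⟨[2,5,6,12,17],[18,19,23],[.main]⟩,
  ⟨[2,5,7,8,11],[17,21,23],[.main]⟩,
  ⟨[2,5,7,8,13],[15,16,22],[.main]⟩,
  ⟨[2,5,7,9,14],[16,17,18],[.main]⟩,
  ⟨[2,5,7,18,19],[20,21,22],[.main]⟩,
  ⟨[2,5,8,9,12],[13,18,21],[.main]⟩,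
  ⟨[2,5,8,10,11],[16,18,19],[.main]⟩,
  ⟨[2,5,9,10,14],[19,21,23],[.main]⟩,
  ⟨[2,5,9,12,15],[16,19,20],[.main]⟩,
  ⟨[2,5,10,11,13],[15,20,21],[.main]⟩,
  ⟨[2,5,10,16,17],[20,22,23],[.main]⟩,
  ⟨[2,5,11,12,13],[14,16,23],[.main]⟩,
  ⟨[2,5,12,14,15],[17,21,22],[.main]⟩,
  ⟨[2,6,7,8,9],[14,21,22],[.main]⟩,
  ⟨[2,6,7,8,16],[17,19,20],[.main]⟩,
  ⟨[2,6,7,11,16],[18,22,23],[.main]⟩,
  ⟨[2,6,7,13,15],[17,18,21],[.main]⟩]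

noncomputable def cert24_13 : List Node := [
  ⟨[2,6,8,10,18],[20,21,23],[.main]⟩,
  ⟨[2,6,8,12,14],[15,16,18],[.main]⟩,
  ⟨[2,6,9,10,11],[14,16,20],[.main]⟩,
  ⟨[2,6,9,11,12],[15,21,23],[.main]⟩,
  ⟨[2,6,9,12,13],[16,17,22],[.main]⟩,
  ⟨[2,6,10,11,17],[19,21,22],[.main]⟩,
  ⟨[2,6,10,13,15],[16,19,23],[.main]⟩,
  ⟨[2,6,12,13,14],[19,20,21],[.main]⟩,
  ⟨[2,7,8,9,15],[18,19,23],[.main]⟩,
  ⟨[2,7,8,10,12],[17,18,22],[.main]⟩,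
  ⟨[2,7,8,11,13],[14,18,20],[.main]⟩,
  ⟨[2,7,9,10,12],[13,14,15],[.main]⟩,
  ⟨[2,7,9,11,15],[17,20,22],[.main]⟩,
  ⟨[2,7,9,13,16],[20,21,23],[.main]⟩,
  ⟨[2,7,10,11,12],[19,20,23],[.main]⟩,
  ⟨[2,7,11,14,15],[16,19,21],[.main]⟩,
  ⟨[2,7,13,14,17],[19,22,23],[.main]⟩,
  ⟨[2,8,9,10,11],[13,22,23],[.main]⟩,
  ⟨[2,8,9,10,15],[16,17,21],[.main]⟩,
  ⟨[2,8,9,12,14],[17,20,23],[.main]⟩,
  ⟨[2,8,10,14,15],[19,20,22],[.main]⟩,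
  ⟨[2,8,11,12,13],[15,17,19],[.main]⟩,
  ⟨[2,8,12,16,19],[21,22,23],[.main]⟩,
  ⟨[2,9,10,13,17],[18,19,20],[.main]⟩,
  ⟨[2,9,11,12,14],[18,19,22],[.main]⟩,
  ⟨[2,10,11,14,15],[17,18,23],[.main]⟩,
  ⟨[2,10,13,14,16],[18,21,22],[.main]⟩,
  ⟨[2,11,12,16,17],[18,20,21],[.main]⟩,
  ⟨[2,12,13,15,18],[20,22,23],[.main]⟩,
  ⟨[3,4,5,6,7],[10,13,15],[.main]⟩,
  ⟨[3,4,5,6,8],[17,20,23],[.main]⟩,
  ⟨[3,4,5,6,11],[18,19,22],[.main]⟩,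
  ⟨[3,4,5,7,8],[12,21,22],[.main]⟩,
  ⟨[3,4,5,8,9],[15,16,18],[.main]⟩,
  ⟨[3,4,5,9,13],[19,20,21],[.main]⟩,
  ⟨[3,4,5,10,11],[12,16,20],[.main]⟩,
  ⟨[3,4,5,11,14],[15,21,23],[.main]⟩,
  ⟨[3,4,5,13,14],[16,17,22],[.main]⟩,
  ⟨[3,4,6,7,12],[16,17,18],[.main]⟩,
  ⟨[3,4,6,8,13],[14,18,21],[.main]⟩]

noncomputable def cert24_14 : List Node := [
  ⟨[3,4,6,9,11],[13,16,23],[.main]⟩,
  ⟨[3,4,6,9,15],[17,21,22],[.main]⟩,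
  ⟨[3,4,6,10,12],[19,21,23],[.main]⟩,
  ⟨[3,4,6,14,15],[16,19,20],[.main]⟩,
  ⟨[3,4,7,8,10],[11,18,23],[.main]⟩,
  ⟨[3,4,7,9,10],[14,16,21],[.main]⟩,
  ⟨[3,4,7,9,12],[15,20,23],[.main]⟩,
  ⟨[3,4,7,10,17],[19,20,22],[.main]⟩,
  ⟨[3,4,7,11,12],[13,14,19],[.main]⟩,
  ⟨[3,4,8,9,10],[12,13,17],[.main]⟩,
  ⟨[3,4,8,9,11],[14,20,22],[.main]⟩,
  ⟨[3,4,8,11,16],[17,19,21],[.main]⟩,
  ⟨[3,4,8,13,15],[19,22,23],[.main]⟩,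
  ⟨[3,4,9,14,17],[18,19,23],[.main]⟩,
  ⟨[3,4,10,12,14],[15,18,22],[.main]⟩,
  ⟨[3,4,11,13,15],[17,18,20],[.main]⟩,
  ⟨[3,4,16,18,20],[21,22,23],[.main]⟩,
  ⟨[3,5,6,7,9],[16,20,22],[.main]⟩,
  ⟨[3,5,6,7,14],[17,19,21],[.main]⟩,
  ⟨[3,5,6,8,9],[10,11,21],[.main]⟩,
  ⟨[3,5,6,8,12],[13,16,19],[.main]⟩,
  ⟨[3,5,6,10,14],[16,18,23],[.main]⟩,
  ⟨[3,5,6,12,15],[18,20,21],[.main]⟩,
  ⟨[3,5,7,8,9],[13,14,23],[.main]⟩,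
  ⟨[3,5,7,8,11],[15,19,20],[.main]⟩,
  ⟨[3,5,7,9,10],[12,18,19],[.main]⟩,
  ⟨[3,5,7,11,13],[16,18,21],[.main]⟩,
  ⟨[3,5,7,15,17],[18,22,23],[.main]⟩,
  ⟨[3,5,8,10,13],[18,20,22],[.main]⟩,
  ⟨[3,5,8,11,12],[14,17,18],[.main]⟩,
  ⟨[3,5,9,10,14],[15,17,20],[.main]⟩,
  ⟨[3,5,9,11,12],[13,15,22],[.main]⟩,
  ⟨[3,5,9,12,16],[17,21,23],[.main]⟩,
  ⟨[3,5,10,11,13],[17,19,23],[.main]⟩,
  ⟨[3,5,10,15,16],[19,21,22],[.main]⟩,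
  ⟨[3,5,12,14,19],[20,22,23],[.main]⟩,
  ⟨[3,6,7,8,10],[12,14,20],[.main]⟩,
  ⟨[3,6,7,8,11],[13,17,22],[.main]⟩,
  ⟨[3,6,7,8,15],[16,21,23],[.main]⟩,
  ⟨[3,6,7,9,11],[14,15,18],[.main]⟩]

noncomputable def cert24_15 : List Node := [
  ⟨[3,6,7,13,18],[19,20,23],[.main]⟩,
  ⟨[3,6,8,9,12],[18,22,23],[.main]⟩,
  ⟨[3,6,8,10,15],[17,18,19],[.main]⟩,
  ⟨[3,6,9,10,13],[14,19,22],[.main]⟩,
  ⟨[3,6,9,11,12],[17,19,20],[.main]⟩,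
  ⟨[3,6,10,11,15],[20,22,23],[.main]⟩,
  ⟨[3,6,10,13,16],[17,20,21],[.main]⟩,
  ⟨[3,6,11,12,14],[16,21,22],[.main]⟩,
  ⟨[3,6,12,13,14],[15,17,23],[.main]⟩,
  ⟨[3,7,8,9,17],[18,20,21],[.main]⟩,
  ⟨[3,7,8,14,16],[18,19,22],[.main]⟩,
  ⟨[3,7,9,11,19],[21,22,23],[.main]⟩,
  ⟨[3,7,9,13,15],[16,17,19],[.main]⟩,
  ⟨[3,7,10,11,12],[15,17,21],[.main]⟩,
  ⟨[3,7,10,12,13],[16,22,23],[.main]⟩,
  ⟨[3,7,11,14,16],[17,20,23],[.main]⟩,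
  ⟨[3,7,13,14,15],[20,21,22],[.main]⟩,
  ⟨[3,8,9,10,16],[19,20,23],[.main]⟩,
  ⟨[3,8,9,12,14],[15,19,21],[.main]⟩,
  ⟨[3,8,10,11,13],[14,15,16],[.main]⟩,
  ⟨[3,8,10,14,17],[21,22,23],[.main]⟩,
  ⟨[3,8,11,12,13],[20,21,23],[.main]⟩,
  ⟨[3,8,12,15,16],[17,20,22],[.main]⟩,
  ⟨[3,9,10,11,16],[17,18,22],[.main]⟩,
  ⟨[3,9,10,13,15],[18,21,23],[.main]⟩,
  ⟨[3,9,12,13,14],[16,18,20],[.main]⟩,
  ⟨[3,10,11,14,18],[19,20,21],[.main]⟩,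
  ⟨[3,11,12,15,16],[18,19,23],[.main]⟩,
  ⟨[3,12,13,17,18],[19,21,22],[.main]⟩,
  ⟨[4,5,6,7,8],[11,14,16],[.main]⟩,
  ⟨[4,5,6,7,9],[18,21,23],[.main]⟩,
  ⟨[4,5,6,9,10],[16,17,19],[.main]⟩,
  ⟨[4,5,6,10,14],[20,21,22],[.main]⟩,
  ⟨[4,5,6,11,12],[13,17,21],[.main]⟩,
  ⟨[4,5,6,12,15],[16,22,23],[.main]⟩,
  ⟨[4,5,7,8,13],[17,18,19],[.main]⟩,
  ⟨[4,5,7,9,14],[15,19,22],[.main]⟩,
  ⟨[4,5,7,10,12],[14,17,23],[.main]⟩,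
  ⟨[4,5,7,11,13],[20,22,23],[.main]⟩,
  ⟨[4,5,7,15,16],[17,20,21],[.main]⟩]

noncomputable def cert24_16 : List Node := [
  ⟨[4,5,8,9,11],[12,19,23],[.main]⟩,
  ⟨[4,5,8,10,11],[15,17,22],[.main]⟩,
  ⟨[4,5,8,10,13],[16,21,23],[.main]⟩,
  ⟨[4,5,8,12,13],[14,15,20],[.main]⟩,
  ⟨[4,5,9,10,11],[13,14,18],[.main]⟩,
  ⟨[4,5,9,12,17],[18,20,22],[.main]⟩,
  ⟨[4,5,10,15,18],[19,20,23],[.main]⟩,
  ⟨[4,5,12,14,16],[18,19,21],[.main]⟩,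
  ⟨[4,6,7,8,15],[18,20,22],[.main]⟩,
  ⟨[4,6,7,9,10],[11,12,22],[.main]⟩,
  ⟨[4,6,7,9,13],[14,17,20],[.main]⟩,
  ⟨[4,6,7,11,15],[17,19,23],[.main]⟩,
  ⟨[4,6,7,13,16],[19,21,22],[.main]⟩,
  ⟨[4,6,8,9,10],[14,15,23],[.main]⟩,
  ⟨[4,6,8,9,12],[16,20,21],[.main]⟩,
  ⟨[4,6,8,10,11],[13,19,20],[.main]⟩,
  ⟨[4,6,8,12,14],[17,19,22],[.main]⟩,
  ⟨[4,6,9,12,13],[15,18,19],[.main]⟩,
  ⟨[4,6,10,11,15],[16,18,21],[.main]⟩,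
  ⟨[4,6,10,13,17],[18,22,23],[.main]⟩,
  ⟨[4,6,11,12,14],[18,20,23],[.main]⟩,
  ⟨[4,7,8,9,11],[13,15,21],[.main]⟩,
  ⟨[4,7,8,9,16],[17,22,23],[.main]⟩,
  ⟨[4,7,8,10,12],[15,16,19],[.main]⟩,
  ⟨[4,7,8,14,19],[20,21,23],[.main]⟩,
  ⟨[4,7,9,11,16],[18,19,20],[.main]⟩,
  ⟨[4,7,10,12,13],[18,20,21],[.main]⟩,
  ⟨[4,7,11,14,17],[18,21,22],[.main]⟩,
  ⟨[4,7,13,14,15],[16,18,23],[.main]⟩,
  ⟨[4,8,9,10,18],[19,21,22],[.main]⟩,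
  ⟨[4,8,10,14,16],[17,18,20],[.main]⟩,
  ⟨[4,8,11,12,13],[16,18,22],[.main]⟩,
  ⟨[4,8,12,15,17],[18,21,23],[.main]⟩,
  ⟨[4,9,10,11,17],[20,21,23],[.main]⟩,
  ⟨[4,9,10,13,15],[16,20,22],[.main]⟩,
  ⟨[4,9,11,12,14],[15,16,17],[.main]⟩,
  ⟨[4,9,12,13,14],[21,22,23],[.main]⟩,
  ⟨[4,10,11,14,16],[19,22,23],[.main]⟩,
  ⟨[4,10,13,14,15],[17,19,21],[.main]⟩,
  ⟨[4,11,12,15,19],[20,21,22],[.main]⟩]

noncomputable def cert24_17 : List Node := [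
  ⟨[4,12,13,16,17],[19,20,23],[.main]⟩,
  ⟨[5,6,7,8,9],[12,15,17],[.main]⟩,
  ⟨[5,6,7,8,10],[19,22,23],[.main]⟩,
  ⟨[5,6,7,10,11],[17,18,20],[.main]⟩,
  ⟨[5,6,7,12,13],[14,18,22],[.main]⟩,
  ⟨[5,6,8,9,14],[18,19,20],[.main]⟩,
  ⟨[5,6,8,11,13],[15,18,23],[.main]⟩,
  ⟨[5,6,8,16,17],[18,21,22],[.main]⟩,
  ⟨[5,6,9,10,12],[13,20,23],[.main]⟩,
  ⟨[5,6,9,11,14],[17,22,23],[.main]⟩,
  ⟨[5,6,9,13,14],[15,16,21],[.main]⟩,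
  ⟨[5,6,10,11,12],[14,15,19],[.main]⟩,
  ⟨[5,6,11,16,19],[20,21,23],[.main]⟩,
  ⟨[5,6,13,15,17],[19,20,22],[.main]⟩,
  ⟨[5,7,8,10,14],[15,18,21],[.main]⟩,
  ⟨[5,7,8,12,16],[18,20,23],[.main]⟩,
  ⟨[5,7,9,10,11],[15,16,23],[.main]⟩,
  ⟨[5,7,9,10,13],[17,21,22],[.main]⟩,
  ⟨[5,7,9,11,12],[14,20,21],[.main]⟩,
  ⟨[5,7,10,13,14],[16,19,20],[.main]⟩,
  ⟨[5,7,11,12,16],[17,19,22],[.main]⟩,
  ⟨[5,7,12,13,15],[19,21,23],[.main]⟩,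
  ⟨[5,8,9,10,12],[14,16,22],[.main]⟩,
  ⟨[5,8,9,11,13],[16,17,20],[.main]⟩,
  ⟨[5,8,9,15,20],[21,22,23],[.main]⟩,
  ⟨[5,8,10,12,17],[19,20,21],[.main]⟩,
  ⟨[5,8,11,13,14],[19,21,22],[.main]⟩,
  ⟨[5,8,14,15,16],[17,19,23],[.main]⟩,
  ⟨[5,9,11,15,17],[18,19,21],[.main]⟩,
  ⟨[5,9,13,16,18],[19,22,23],[.main]⟩,
  ⟨[5,10,11,12,18],[21,22,23],[.main]⟩,
  ⟨[5,10,12,13,15],[16,17,18],[.main]⟩,
  ⟨[5,11,14,15,16],[18,20,22],[.main]⟩,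
  ⟨[5,13,14,17,18],[20,21,23],[.main]⟩,
  ⟨[6,7,8,9,10],[13,16,18],[.main]⟩,
  ⟨[6,7,8,11,12],[18,19,21],[.main]⟩,
  ⟨[6,7,9,10,15],[19,20,21],[.main]⟩,
  ⟨[6,7,9,12,14],[16,19,23],[.main]⟩,
  ⟨[6,7,10,11,13],[14,21,23],[.main]⟩,
  ⟨[6,7,10,14,15],[16,17,22],[.main]⟩]

noncomputable def cert24_18 : List Node := [
  ⟨[6,7,11,12,13],[15,16,20],[.main]⟩,
  ⟨[6,7,12,17,20],[21,22,23],[.main]⟩,
  ⟨[6,8,9,11,15],[16,19,22],[.main]⟩,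
  ⟨[6,8,9,13,17],[19,21,23],[.main]⟩,
  ⟨[6,8,10,11,12],[16,17,23],[.main]⟩,
  ⟨[6,8,10,12,13],[15,21,22],[.main]⟩,
  ⟨[6,8,11,14,15],[17,20,21],[.main]⟩,
  ⟨[6,8,13,14,16],[20,22,23],[.main]⟩,
  ⟨[6,9,10,12,14],[17,18,21],[.main]⟩,
  ⟨[6,9,11,13,18],[20,21,22],[.main]⟩,
  ⟨[6,9,15,16,17],[18,20,23],[.main]⟩,
  ⟨[6,10,12,16,18],[19,20,22],[.main]⟩,
  ⟨[6,11,13,14,16],[17,18,19],[.main]⟩,
  ⟨[6,14,15,18,19],[21,22,23],[.main]⟩,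
  ⟨[7,8,9,10,11],[14,17,19],[.main]⟩,
  ⟨[7,8,9,12,13],[19,20,22],[.main]⟩,
  ⟨[7,8,10,11,16],[20,21,22],[.main]⟩,
  ⟨[7,8,10,13,15],[17,20,23],[.main]⟩,
  ⟨[7,8,11,12,14],[15,22,23],[.main]⟩,
  ⟨[7,8,12,13,14],[16,17,21],[.main]⟩,
  ⟨[7,9,10,14,18],[20,22,23],[.main]⟩,
  ⟨[7,9,11,12,13],[17,18,23],[.main]⟩,
  ⟨[7,9,12,15,16],[18,21,22],[.main]⟩,
  ⟨[7,10,11,13,15],[18,19,22],[.main]⟩,
  ⟨[7,10,16,17,18],[19,21,23],[.main]⟩,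
  ⟨[7,12,14,15,17],[18,19,20],[.main]⟩,
  ⟨[8,9,10,11,12],[15,18,20],[.main]⟩,
  ⟨[8,9,11,14,16],[18,21,23],[.main]⟩,
  ⟨[8,9,13,14,15],[17,18,22],[.main]⟩,
  ⟨[8,10,12,13,14],[18,19,23],[.main]⟩,
  ⟨[8,11,17,18,19],[20,22,23],[.main]⟩,
  ⟨[8,13,15,16,18],[19,20,21],[.main]⟩,
  ⟨[9,10,11,12,13],[16,19,21],[.main]⟩,
  ⟨[9,10,12,15,17],[19,22,23],[.main]⟩,
  ⟨[9,11,13,14,15],[19,20,23],[.main]⟩,
  ⟨[9,14,16,17,19],[20,21,22],[.main]⟩,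
  ⟨[10,11,12,13,14],[17,20,22],[.main]⟩,
  ⟨[10,12,14,15,16],[20,21,23],[.main]⟩,
  ⟨[11,13,15,16,17],[21,22,23],[.main]⟩]

noncomputable def cert24 : List Node := cert24_0 ++ cert24_1 ++ cert24_2 ++ cert24_3 ++ cert24_4 ++ cert24_5 ++ cert24_6 ++ cert24_7 ++ cert24_8 ++ cert24_9 ++ cert24_10 ++ cert24_11 ++ cert24_12 ++ cert24_13 ++ cert24_14 ++ cert24_15 ++ cert24_16 ++ cert24_17 ++ cert24_18

theorem cert24_ok : run 24 5 8 759 (2 ^ 759 - 1) (List.range 24) cert24 [] 0 0 = true := by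
  decide +kernel

end Cfsg.Agent.Lib.Helper7.SC
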