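import Mathlib

/-!
The binary octahedral group as 48 explicit matrices of degree 4 over the integers modulo 13,
every non-identity element acting without fixed vectors.
-/

set_option autoImplicit false

namespace Cfsg.Agent.Lib.Helper7.TwoO

/-- The 48 matrices. -/
def L : List (Matrix (Fin 4) (Fin 4) (ZMod 13)) :=
  [!![0, 0, 0, 4; 0, 0, 2, 0; 0, 6, 0, 0; 3, 0, 0, 0],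
   !![0, 0, 0, 6; 0, 0, 3, 0; 0, 4, 0, 0; 2, 0, 0, 0],
   !![0, 0, 0, 7; 0, 0, 10, 0; 0, 9, 0, 0; 11, 0, 0, 0],
   !![0, 0, 0, 9; 0, 0, 11, 0; 0, 7, 0, 0; 10, 0, 0, 0],
   !![0, 0, 1, 0; 0, 0, 0, 1; 12, 0, 0, 0; 0, 12, 0, 0],
   !![0, 0, 5, 0; 0, 0, 0, 5; 5, 0, 0, 0; 0, 5, 0, 0],
   !![0, 0, 8, 0; 0, 0, 0, 8; 8, 0, 0, 0; 0, 8, 0, 0],
   !![0, 0, 12, 0; 0, 0, 0, 12; 1, 0, 0, 0; 0, 1, 0, 0],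
   !![0, 1, 0, 1; 7, 0, 7, 0; 0, 12, 0, 1; 6, 0, 7, 0],
   !![0, 1, 0, 5; 7, 0, 9, 0; 0, 5, 0, 1; 9, 0, 7, 0],
   !![0, 1, 0, 8; 7, 0, 4, 0; 0, 8, 0, 1; 4, 0, 7, 0],
   !![0, 1, 0, 12; 7, 0, 6, 0; 0, 1, 0, 1; 7, 0, 7, 0],
   !![0, 4, 0, 0; 2, 0, 0, 0; 0, 0, 0, 7; 0, 0, 10, 0],
   !![0, 5, 0, 1; 9, 0, 7, 0; 0, 12, 0, 8; 6, 0, 4, 0],
   !![0, 5, 0, 5; 9, 0, 9, 0; 0, 5, 0, 8; 9, 0, 4, 0],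
   !![0, 5, 0, 8; 9, 0, 4, 0; 0, 8, 0, 8; 4, 0, 4, 0],
   !![0, 5, 0, 12; 9, 0, 6, 0; 0, 1, 0, 8; 7, 0, 4, 0],
   !![0, 6, 0, 0; 3, 0, 0, 0; 0, 0, 0, 9; 0, 0, 11, 0],
   !![0, 7, 0, 0; 10, 0, 0, 0; 0, 0, 0, 4; 0, 0, 2, 0],
   !![0, 8, 0, 1; 4, 0, 7, 0; 0, 12, 0, 5; 6, 0, 9, 0],
   !![0, 8, 0, 5; 4, 0, 9, 0; 0, 5, 0, 5; 9, 0, 9, 0],
   !![0, 8, 0, 8; 4, 0, 4, 0; 0, 8, 0, 5; 4, 0, 9, 0],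
   !![0, 8, 0, 12; 4, 0, 6, 0; 0, 1, 0, 5; 7, 0, 9, 0],
   !![0, 9, 0, 0; 11, 0, 0, 0; 0, 0, 0, 6; 0, 0, 3, 0],
   !![0, 12, 0, 1; 6, 0, 7, 0; 0, 12, 0, 12; 6, 0, 6, 0],
   !![0, 12, 0, 5; 6, 0, 9, 0; 0, 5, 0, 12; 9, 0, 6, 0],
   !![0, 12, 0, 8; 6, 0, 4, 0; 0, 8, 0, 12; 4, 0, 6, 0],
   !![0, 12, 0, 12; 6, 0, 6, 0; 0, 1, 0, 12; 7, 0, 6, 0],
   !![1, 0, 0, 0; 0, 1, 0, 0; 0, 0, 1, 0; 0, 0, 0, 1],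
   !![2, 0, 2, 0; 0, 2, 0, 2; 3, 0, 10, 0; 0, 3, 0, 10],
   !![2, 0, 3, 0; 0, 2, 0, 3; 2, 0, 10, 0; 0, 2, 0, 10],
   !![2, 0, 10, 0; 0, 2, 0, 10; 11, 0, 10, 0; 0, 11, 0, 10],
   !![2, 0, 11, 0; 0, 2, 0, 11; 10, 0, 10, 0; 0, 10, 0, 10],
   !![3, 0, 2, 0; 0, 3, 0, 2; 3, 0, 11, 0; 0, 3, 0, 11],
   !![3, 0, 3, 0; 0, 3, 0, 3; 2, 0, 11, 0; 0, 2, 0, 11],
   !![3, 0, 10, 0; 0, 3, 0, 10; 11, 0, 11, 0; 0, 11, 0, 11],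
   !![3, 0, 11, 0; 0, 3, 0, 11; 10, 0, 11, 0; 0, 10, 0, 11],
   !![5, 0, 0, 0; 0, 5, 0, 0; 0, 0, 8, 0; 0, 0, 0, 8],
   !![8, 0, 0, 0; 0, 8, 0, 0; 0, 0, 5, 0; 0, 0, 0, 5],
   !![10, 0, 2, 0; 0, 10, 0, 2; 3, 0, 2, 0; 0, 3, 0, 2],
   !![10, 0, 3, 0; 0, 10, 0, 3; 2, 0, 2, 0; 0, 2, 0, 2],
   !![10, 0, 10, 0; 0, 10, 0, 10; 11, 0, 2, 0; 0, 11, 0, 2],
   !![10, 0, 11, 0; 0, 10, 0, 11; 10, 0, 2, 0; 0, 10, 0, 2],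
   !![11, 0, 2, 0; 0, 11, 0, 2; 3, 0, 3, 0; 0, 3, 0, 3],
   !![11, 0, 3, 0; 0, 11, 0, 3; 2, 0, 3, 0; 0, 2, 0, 3],
   !![11, 0, 10, 0; 0, 11, 0, 10; 11, 0, 3, 0; 0, 11, 0, 3],
   !![11, 0, 11, 0; 0, 11, 0, 11; 10, 0, 3, 0; 0, 10, 0, 3],
   !![12, 0, 0, 0; 0, 12, 0, 0; 0, 0, 12, 0; 0, 0, 0, 12]]

/-- For each matrix `M` of `L` other than the identity, the inverse of `1 - M`. -/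
def L2 : List (Matrix (Fin 4) (Fin 4) (ZMod 13)) :=
  [!![7, 0, 0, 2; 0, 7, 1, 0; 0, 3, 7, 0; 8, 0, 0, 7],
   !![7, 0, 0, 3; 0, 7, 8, 0; 0, 2, 7, 0; 1, 0, 0, 7],
   !![7, 0, 0, 10; 0, 7, 5, 0; 0, 11, 7, 0; 12, 0, 0, 7],
   !![7, 0, 0, 11; 0, 7, 12, 0; 0, 10, 7, 0; 5, 0, 0, 7],
   !![7, 0, 7, 0; 0, 7, 0, 7; 6, 0, 7, 0; 0, 6, 0, 7],
   !![7, 0, 9, 0; 0, 7, 0, 9; 9, 0, 7, 0; 0, 9, 0, 7],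
   !![7, 0, 4, 0; 0, 7, 0, 4; 4, 0, 7, 0; 0, 4, 0, 7],
   !![7, 0, 6, 0; 0, 7, 0, 6; 7, 0, 7, 0; 0, 7, 0, 7],
   !![7, 0, 7, 1; 0, 7, 7, 7; 6, 12, 7, 0; 6, 6, 0, 7],
   !![7, 0, 9, 5; 0, 7, 9, 9; 9, 5, 7, 0; 9, 9, 0, 7],
   !![7, 0, 4, 8; 0, 7, 4, 4; 4, 8, 7, 0; 4, 4, 0, 7],
   !![7, 0, 6, 12; 0, 7, 6, 6; 7, 1, 7, 0; 7, 7, 0, 7],
   !![11, 5, 0, 0; 9, 11, 0, 0; 0, 0, 3, 8; 0, 0, 4, 3],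
   !![7, 9, 0, 7; 11, 7, 10, 0; 0, 6, 7, 4; 3, 0, 2, 7],
   !![7, 9, 0, 9; 11, 7, 11, 0; 0, 9, 7, 4; 11, 0, 2, 7],
   !![7, 9, 0, 4; 11, 7, 2, 0; 0, 4, 7, 4; 2, 0, 2, 7],
   !![7, 9, 0, 6; 11, 7, 3, 0; 0, 7, 7, 4; 10, 0, 2, 7],
   !![3, 5, 0, 0; 9, 3, 0, 0; 0, 0, 11, 8; 0, 0, 4, 11],
   !![3, 8, 0, 0; 4, 3, 0, 0; 0, 0, 11, 5; 0, 0, 9, 11],
   !![7, 4, 0, 7; 2, 7, 10, 0; 0, 6, 7, 9; 3, 0, 11, 7],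
   !![7, 4, 0, 9; 2, 7, 11, 0; 0, 9, 7, 9; 11, 0, 11, 7],
   !![7, 4, 0, 4; 2, 7, 2, 0; 0, 4, 7, 9; 2, 0, 11, 7],
   !![7, 4, 0, 6; 2, 7, 3, 0; 0, 7, 7, 9; 10, 0, 11, 7],
   !![11, 8, 0, 0; 4, 11, 0, 0; 0, 0, 3, 5; 0, 0, 9, 3],
   !![7, 0, 6, 1; 0, 7, 7, 6; 7, 12, 7, 0; 6, 7, 0, 7],
   !![7, 0, 4, 5; 0, 7, 9, 4; 4, 5, 7, 0; 9, 4, 0, 7],
   !![7, 0, 9, 8; 0, 7, 4, 9; 9, 8, 7, 0; 4, 9, 0, 7],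
   !![7, 0, 7, 12; 0, 7, 6, 7; 6, 1, 7, 0; 7, 6, 0, 7],
   !![0, 0, 0, 0; 0, 0, 0, 0; 0, 0, 0, 0; 0, 0, 0, 0],
   !![10, 0, 5, 0; 0, 10, 0, 5; 1, 0, 4, 0; 0, 1, 0, 4],
   !![10, 0, 1, 0; 0, 10, 0, 1; 5, 0, 4, 0; 0, 5, 0, 4],
   !![10, 0, 12, 0; 0, 10, 0, 12; 8, 0, 4, 0; 0, 8, 0, 4],
   !![10, 0, 8, 0; 0, 10, 0, 8; 12, 0, 4, 0; 0, 12, 0, 4],
   !![3, 0, 2, 0; 0, 3, 0, 2; 3, 0, 11, 0; 0, 3, 0, 11],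
   !![3, 0, 3, 0; 0, 3, 0, 3; 2, 0, 11, 0; 0, 2, 0, 11],
   !![3, 0, 10, 0; 0, 3, 0, 10; 11, 0, 11, 0; 0, 11, 0, 11],
   !![3, 0, 11, 0; 0, 3, 0, 11; 10, 0, 11, 0; 0, 10, 0, 11],
   !![3, 0, 0, 0; 0, 3, 0, 0; 0, 0, 11, 0; 0, 0, 0, 11],
   !![11, 0, 0, 0; 0, 11, 0, 0; 0, 0, 3, 0; 0, 0, 0, 3],
   !![4, 0, 5, 0; 0, 4, 0, 5; 1, 0, 10, 0; 0, 1, 0, 10],
   !![4, 0, 1, 0; 0, 4, 0, 1; 5, 0, 10, 0; 0, 5, 0, 10],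
   !![4, 0, 12, 0; 0, 4, 0, 12; 8, 0, 10, 0; 0, 8, 0, 10],
   !![4, 0, 8, 0; 0, 4, 0, 8; 12, 0, 10, 0; 0, 12, 0, 10],
   !![11, 0, 2, 0; 0, 11, 0, 2; 3, 0, 3, 0; 0, 3, 0, 3],
   !![11, 0, 3, 0; 0, 11, 0, 3; 2, 0, 3, 0; 0, 2, 0, 3],
   !![11, 0, 10, 0; 0, 11, 0, 10; 11, 0, 3, 0; 0, 11, 0, 3],
   !![11, 0, 11, 0; 0, 11, 0, 11; 10, 0, 3, 0; 0, 10, 0, 3],
   !![7, 0, 0, 0; 0, 7, 0, 0; 0, 0, 7, 0; 0, 0, 0, 7]]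

/-- The `i`-th matrix. -/
def mat (i : ℕ) : Matrix (Fin 4) (Fin 4) (ZMod 13) := L.getD i 0

/-- Left multiplication by the two generators and their inverses, on positions. -/
def Ta : List ℕ := [33, 30, 45, 42, 24, 14, 21, 11, 4, 34, 46, 28, 31, 32, 37, 6, 35, 36, 39, 40, 5, 38, 43, 44, 47, 29, 41, 7, 8, 16, 12, 2, 26, 17, 13, 10, 3, 15, 20, 0, 25, 22, 18, 9, 1, 23, 19, 27]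
def Tb : List ℕ := [27, 20, 15, 8, 44, 39, 36, 31, 9, 0, 17, 16, 24, 1, 25, 13, 12, 14, 21, 23, 22, 10, 2, 11, 19, 18, 3, 26, 33, 47, 40, 32, 4, 29, 5, 37, 34, 30, 45, 41, 38, 6, 46, 7, 43, 35, 28, 42]
def Tai : List ℕ := [39, 44, 31, 36, 8, 20, 15, 27, 28, 43, 35, 7, 30, 34, 5, 37, 29, 33, 42, 46, 38, 6, 41, 45, 4, 40, 32, 47, 11, 25, 1, 12, 13, 0, 9, 16, 17, 14, 21, 18, 19, 26, 3, 22, 23, 2, 10, 24]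
def Tbi : List ℕ := [9, 13, 22, 26, 32, 34, 41, 43, 3, 8, 21, 23, 16, 15, 17, 2, 11, 10, 25, 24, 1, 18, 20, 19, 12, 14, 27, 0, 46, 33, 37, 7, 31, 28, 36, 45, 6, 35, 40, 5, 30, 39, 47, 44, 4, 38, 42, 29]

theorem mat_one : mat 28 = 1 := by decide +kernel

theorem mul_a : ∀ j < 48, mat 8 * mat j = mat (Ta.getD j 0) ∧ Ta.getD j 0 < 48 := by
  decide +kernel

theorem mul_b : ∀ j < 48, mat 33 * mat j = mat (Tb.getD j 0) ∧ Tb.getD j 0 < 48 := by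
  decide +kernel

theorem mul_ai : ∀ j < 48, mat 11 * mat j = mat (Tai.getD j 0) ∧ Tai.getD j 0 < 48 := by
  decide +kernel

theorem mul_bi : ∀ j < 48, mat 46 * mat j = mat (Tbi.getD j 0) ∧ Tbi.getD j 0 < 48 := by
  decide +kernel

theorem inv_a : mat 8 * mat 11 = 1 ∧ mat 11 * mat 8 = 1 := by decide +kernel

theorem inv_b : mat 33 * mat 46 = 1 ∧ mat 46 * mat 33 = 1 := by decide +kernel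

theorem mat_pow : ∀ i < 48, mat i ^ 8 = 1 ∨ mat i ^ 6 = 1 := by decide +kernel

theorem mat_fpf : ∀ i < 48, mat i = 1 ∨ (1 - mat i) * L2.getD i 0 = 1 := by decide +kernel

theorem ord_a : mat 8 ^ 8 = 1 ∧ mat 8 ^ 4 ≠ 1 ∧ mat 8 ^ 2 ≠ 1 := by decide +kernel

theorem ord_b : mat 33 ^ 6 = 1 ∧ mat 33 ^ 3 ≠ 1 ∧ mat 33 ^ 2 ≠ 1 := by decide +kernel

end Cfsg.Agent.Lib.Helper7.TwoO
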